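import Mathlib
import Cfsg.Agent.Lib.ZJ.Replacement

/-!
Flags `(H, Q, V, T)` of the rank-one pushing up configuration inside an ambient group, and systems of them.
-/

set_option autoImplicit false

namespace CfsgLib.PushUp

open Subgroup
open scoped commutatorElement

variable {Γ : Type*} [Group Γ]

/-- Conjugate subgroup. -/
abbrev cj (g : Γ) (K : Subgroup Γ) : Subgroup Γ := K.map (MulAut.conj g).toMonoidHom

theorem mem_cj {g : Γ} {K : Subgroup Γ} {x : Γ} : x ∈ cj g K ↔ g⁻¹ * x * g ∈ K := by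
  constructor
  · rintro ⟨y, hy, rfl⟩; simpa [mul_assoc] using hy
  · intro h; exact ⟨_, h, by simp [mul_assoc]⟩

theorem conj_mem_cj {g : Γ} {K : Subgroup Γ} {x : Γ} (h : x ∈ K) : g * x * g⁻¹ ∈ cj g K := ⟨x, h, rfl⟩

theorem conj_mem {g : Γ} {K : Subgroup Γ} (hg : g ∈ normalizer (K : Set Γ)) {x : Γ} (hx : x ∈ K) :
    g * x * g⁻¹ ∈ K := (mem_normalizer_iff.mp hg x).mp hx

theorem conj_mem' {g : Γ} {K : Subgroup Γ} (hg : g ∈ normalizer (K : Set Γ)) {x : Γ} (hx : x ∈ K) :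
    g⁻¹ * x * g ∈ K := by simpa using conj_mem (inv_mem hg) hx

theorem cj_eq_self [Finite Γ] {g : Γ} {K : Subgroup Γ} (hg : g ∈ normalizer (K : Set Γ)) : cj g K = K := by
  ext x
  rw [mem_cj]
  exact ⟨fun h => by simpa [mul_assoc] using conj_mem hg h, fun h => conj_mem' hg h⟩

theorem mem_normalizer_of_conj [Finite Γ] {g : Γ} {K : Subgroup Γ} (h : ∀ x ∈ K, g * x * g⁻¹ ∈ K) :
    g ∈ normalizer (K : Set Γ) := by
  have hle : cj g K ≤ K := by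
    rintro _ ⟨x, hx, rfl⟩; exact h x hx
  have he := Subgroup.eq_of_le_of_card_ge hle (Subgroup.card_map_of_injective (MulEquiv.injective _)).ge
  rw [mem_normalizer_iff]
  exact fun x => ⟨h x, fun hx => by
    have h1 : g * x * g⁻¹ ∈ cj g K := he.symm ▸ hx
    simpa [mul_assoc] using mem_cj.mp h1⟩

theorem exists_mul {X Y : Subgroup Γ} (hn : Y ≤ normalizer (X : Set Γ)) {x : Γ} (hx : x ∈ X ⊔ Y) :
    ∃ a ∈ X, ∃ b ∈ Y, a * b = x := by
  rw [← SetLike.mem_coe, Subgroup.coe_mul_of_right_le_normalizer_left X Y hn] at hx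
  exact Set.mem_mul.mp hx

theorem exists_mul' {X Y : Subgroup Γ} (hn : X ≤ normalizer (Y : Set Γ)) {x : Γ} (hx : x ∈ X ⊔ Y) :
    ∃ a ∈ X, ∃ b ∈ Y, a * b = x := by
  rw [← SetLike.mem_coe, Subgroup.coe_mul_of_left_le_normalizer_right X Y hn] at hx
  exact Set.mem_mul.mp hx

/-- `V` commutes elementwise with `Y`. -/
def Comm (X Y : Subgroup Γ) : Prop := ∀ x ∈ X, ∀ y ∈ Y, x * y = y * x

theorem Comm.symm {X Y : Subgroup Γ} (h : Comm X Y) : Comm Y X := fun y hy x hx => (h x hx y hy).symm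

/-- The facts on a vertex `(H, Q, V)` with a Sylow subgroup `T`. -/
structure Flag (p : ℕ) (H Q V T : Subgroup Γ) : Prop where
  Q_le : Q ≤ T
  T_le : T ≤ H
  V_le : V ≤ Q
  norm_Q : H ≤ normalizer (Q : Set Γ)
  norm_V : H ≤ normalizer (V : Set Γ)
  isP : IsPGroup p T
  comm : ∀ t ∈ T, ∀ t' ∈ T, t * t' * t⁻¹ * t'⁻¹ ∈ Q
  exp : ∀ t ∈ T, t ^ p ∈ Q
  elem : ∀ v ∈ V, v ^ p = 1
  abel : ∀ v ∈ V, ∀ w ∈ V, v * w = w * v
  center : ∀ x ∈ Q, (∀ q ∈ Q, q * x = x * q) → x ^ p = 1 → x ∈ V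
  V_central : V ≤ centralizer (Q : Set Γ)
  fx_le : T ⊓ centralizer (T : Set Γ) ≤ V
  cent : T ⊓ centralizer (V : Set Γ) = Q
  fixed : ∀ x ∈ T, x ∉ Q → ∀ v ∈ V, x * v = v * x → v ∈ centralizer (T : Set Γ)
  quad : ∀ v ∈ V, ∀ t ∈ T, t * v * t⁻¹ * v⁻¹ ∈ centralizer (T : Set Γ)
  index : Nat.card T * Nat.card ↥(V ⊓ centralizer (T : Set Γ)) = Nat.card Q * Nat.card V
  fixmod : ∀ v ∈ V, (∀ t ∈ T, t * v * t⁻¹ * v⁻¹ ∈ centralizer (H : Set Γ)) → v ∈ centralizer (T : Set Γ)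
  exists_mem : ∃ x ∈ T, x ∉ Q
  cases : ∀ L : Subgroup Γ, L ≤ H → H ≤ normalizer (L : Set Γ) → L ⊔ T = H ∨ L ⊓ T ≤ Q

/-- Two Sylow subgroups in general position. -/
structure Opp (H Q T T' : Subgroup Γ) : Prop where
  left : ∀ x ∈ T, x ∉ Q → Subgroup.closure {x} ⊔ T' = H
  right : ∀ x ∈ T', x ∉ Q → Subgroup.closure {x} ⊔ T = H

theorem Opp.symm {H Q T T' : Subgroup Γ} (h : Opp H Q T T') : Opp H Q T' T := ⟨h.right, h.left⟩

namespace Flag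

variable {p : ℕ} {H Q V T : Subgroup Γ}

theorem T_le_norm_Q (h : Flag p H Q V T) : T ≤ normalizer (Q : Set Γ) := h.T_le.trans h.norm_Q

theorem V_cent (h : Flag p H Q V T) : Comm Q V := fun q hq v hv => h.V_central hv q hq

theorem V_le_T (h : Flag p H Q V T) : V ≤ T := h.V_le.trans h.Q_le

theorem mem_of_cent (h : Flag p H Q V T) {t : Γ} (ht : t ∈ T) (hc : ∀ v ∈ V, t * v = v * t) : t ∈ Q :=
  h.cent.le ⟨ht, mem_centralizer_iff.mpr fun v hv => (hc v hv).symm⟩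

theorem comm_mem_V (h : Flag p H Q V T) {t : Γ} (ht : t ∈ H) {v : Γ} (hv : v ∈ V) : t * v * t⁻¹ * v⁻¹ ∈ V :=
  mul_mem (conj_mem (h.norm_V ht) hv) (inv_mem hv)

end Flag

/-- A system of flags. -/
structure Sys (Γ : Type*) [Group Γ] (p : ℕ) where
  α : Type*
  mv : Γ → α → α
  H : α → Subgroup Γ
  Q : α → Subgroup Γ
  V : α → Subgroup Γ
  edge : α → Subgroup Γ → Prop
  V_mv : ∀ g v, V (mv g v) = cj g (V v)
  Q_mv : ∀ g v, Q (mv g v) = cj g (Q v)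
  edge_mv : ∀ g v T, edge v T → edge (mv g v) (cj g T)
  edge_move : ∀ v T g, edge v T → g ∈ H v → edge v (cj g T)
  flag : ∀ v T, edge v T → Flag p (H v) (Q v) (V v) T
  exists_opp : ∀ v T, edge v T → ∃ T', edge v T' ∧ Opp (H v) (Q v) T T'
  mem : α → Prop
  mem_mv : ∀ g v, mem v → mem (mv g v)
  alive : ∀ v T, edge v T → mem v →
    ¬ H v ≤ normalizer ((⨆ u : {u : α // edge u T ∧ mem u}, V u : Subgroup Γ) : Set Γ)

namespace Sys

variable {p : ℕ} (𝒮 : Sys Γ p)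

/-- The subgroup generated by the modules of the marked vertices at the edge `T`. -/
def W (T : Subgroup Γ) : Subgroup Γ := ⨆ u : {u : 𝒮.α // 𝒮.edge u T ∧ 𝒮.mem u}, 𝒮.V u

/-- Adjacency. -/
def Adj (u v : 𝒮.α) : Prop := ∃ T, 𝒮.edge u T ∧ 𝒮.edge v T

/-- Walks of length `n`. -/
def Reach : ℕ → 𝒮.α → 𝒮.α → Prop
  | 0, u, v => u = v
  | n + 1, u, v => ∃ w, 𝒮.Adj u w ∧ Reach n w v

theorem adj_symm {u v : 𝒮.α} (h : 𝒮.Adj u v) : 𝒮.Adj v u := by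
  obtain ⟨T, h1, h2⟩ := h; exact ⟨T, h2, h1⟩

theorem reach_append : ∀ (m n : ℕ) (u v w : 𝒮.α), 𝒮.Reach m u v → 𝒮.Reach n v w → 𝒮.Reach (m + n) u w := by
  intro m
  induction m with
  | zero =>
    intro n u v w h1 h2
    rw [Nat.zero_add]
    exact (h1 : u = v) ▸ h2
  | succ m ih =>
    intro n u v w h1 h2
    obtain ⟨z, hz, hzv⟩ := h1
    rw [Nat.succ_add]
    exact ⟨z, hz, ih n z v w hzv h2⟩

theorem reach_symm : ∀ (n : ℕ) (u v : 𝒮.α), 𝒮.Reach n u v → 𝒮.Reach n v u := by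
  intro n
  induction n with
  | zero => intro u v h; exact h.symm
  | succ n ih =>
    intro u v h
    obtain ⟨w, hw, hwv⟩ := h
    exact 𝒮.reach_append n 1 v w u (ih w v hwv) ⟨u, 𝒮.adj_symm hw, rfl⟩

/-- No failure at distance below `b`. -/
def Below (b : ℕ) : Prop := ∀ m, m < b → ∀ u v, 𝒮.Reach m u v → 𝒮.V u ≤ 𝒮.Q v

end Sys

end CfsgLib.PushUp
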