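import Mathlib
import Cfsg.Agent.Lib.PushUp.Flag
import Cfsg.Agent.Lib.PushRankOne.Main

/-!
The flag of a rank-one pushing up group, and Sylow subgroups in general position.
-/

set_option autoImplicit false

namespace CfsgLib.PushUp

open Cfsg Subgroup CfsgLib.PushRankOne

universe u
variable {G : Type u} [Group G] {p : ℕ}

/-- Invariant under the automorphisms of the Sylow subgroup. -/
def AutInv (S : Subgroup G) (X : Subgroup G) : Prop :=
  ∀ φ : ↥S ≃* ↥S, ∀ x : ↥S, (x : G) ∈ X → ((φ x : ↥S) : G) ∈ X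

/-- No nontrivial characteristic subgroup of `S` is normal in `G`. -/
def NoChar (S : Subgroup G) : Prop :=
  ∀ X : Subgroup G, X ≤ S → X ≠ ⊥ → AutInv S X → ¬ X.Normal

theorem noChar_of {S : Subgroup G}
    (hd : ∀ T : Subgroup ↥S, T ≠ ⊥ → T.Characteristic → ¬ (T.map S.subtype).Normal) : NoChar S := by
  intro X hX hne hinv hn
  refine hd (X.subgroupOf S) ?_ ?_ ?_
  · intro h
    rw [Subgroup.subgroupOf_eq_bot, disjoint_iff, inf_eq_left.mpr hX] at h
    exact hne h
  · rw [Subgroup.characteristic_iff_map_le]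
    rintro φ _ ⟨x, hx, rfl⟩
    exact hinv φ x hx
  · rwa [Subgroup.subgroupOf_map_subtype, inf_eq_left.mpr hX]

variable [Finite G] [Fact p.Prime] {S : Sylow p G}

theorem autInv_zs : AutInv (S : Subgroup G) (zs S) := by
  intro φ x hx
  refine ⟨(φ x).2, fun y hy => ?_⟩
  obtain ⟨y', hy'⟩ := φ.surjective ⟨y, hy⟩
  have h : y' * x = x * y' := Subtype.ext (hx.2 _ y'.2)
  have h2 := congrArg (fun z => ((φ z : ↥(S : Subgroup G)) : G)) h
  simp only [map_mul, hy', Subgroup.coe_mul] at h2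
  exact h2

theorem autInv_centralizer_zj :
    AutInv (S : Subgroup G) ((S : Subgroup G) ⊓ centralizer (CfsgLib.ZJ.zj 0 (S : Subgroup G) : Set G)) := by
  intro φ x hx
  refine ⟨(φ x).2, fun z hz => ?_⟩
  have hmap : CfsgLib.ZJ.zj 0 (S : Subgroup G) =
      (CfsgLib.ZJ.zj 0 (⊤ : Subgroup ↥(S : Subgroup G))).map (S : Subgroup G).subtype := by
    rw [← CfsgLib.ZJ.zj_map 0 (Subgroup.subtype_injective _), ← MonoidHom.range_eq_map, Subgroup.range_subtype]
  have hinv : (CfsgLib.ZJ.zj 0 (⊤ : Subgroup ↥(S : Subgroup G))).map φ.toMonoidHom =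
      CfsgLib.ZJ.zj 0 (⊤ : Subgroup ↥(S : Subgroup G)) := by
    rw [← CfsgLib.ZJ.zj_map 0 φ.injective, Subgroup.map_top_of_surjective _ φ.surjective]
  rw [hmap] at hz
  obtain ⟨w, hw, rfl⟩ := hz
  rw [← hinv] at hw
  obtain ⟨w', hw', rfl⟩ := hw
  have h : w' * x = x * w' := Subtype.ext (hx.2 _ (by rw [hmap]; exact ⟨w', hw', rfl⟩))
  have h2 := congrArg (fun z => ((φ z : ↥(S : Subgroup G)) : G)) h
  simp only [map_mul, Subgroup.coe_mul] at h2
  exact h2

theorem pCore_ne_bot (hS : Setting S) : pCore p G ≠ ⊥ := by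
  intro h
  obtain ⟨x, hx, hxQ⟩ := hS.exists_mem
  have h1 := hS.charP
  rw [h] at h1
  refine hxQ ?_
  rw [h]
  exact h1 (fun y hy => by rw [Subgroup.coe_bot, Set.mem_singleton_iff] at hy; rw [hy, one_mul, mul_one])

theorem zs_ne_bot (hS : Setting S) : zs S ≠ ⊥ := by
  intro h
  have hne : (S : Subgroup G) ≠ ⊥ := fun h0 => pCore_ne_bot hS (le_bot_iff.mp (h0 ▸ hS.core_le))
  haveI : Nontrivial ↥(S : Subgroup G) := (Subgroup.nontrivial_iff_ne_bot _).mpr hne
  haveI := S.isPGroup'.center_nontrivial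
  obtain ⟨z, hz⟩ := exists_ne (1 : ↥(Subgroup.center ↥(S : Subgroup G)))
  have h1 : ((z : ↥(S : Subgroup G)) : G) ∈ zs S := ⟨(z : ↥(S : Subgroup G)).2, fun y hy =>
    congrArg Subtype.val (Subgroup.mem_center_iff.mp z.2 ⟨y, hy⟩)⟩
  rw [h, Subgroup.mem_bot] at h1
  exact hz (Subtype.ext (Subtype.ext h1))

/-- The module of the flag. -/
abbrev vmod (S : Sylow p G) : Subgroup G := normalClosure (zs S : Set G)

/-- The local hypotheses: the centre of `S` is not normal and elementary, and `J(S)` has a member outside `O_p(G)`. -/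
structure Mild (S : Sylow p G) : Prop where
  noncentral : ¬ (zs S).Normal
  outside : ∃ e : ℕ, (e = 0 ∨ e = p) ∧ ∃ A ∈ CfsgLib.ZJ.goodMax e (S : Subgroup G), ¬ A ≤ pCore p G
  elem : ∀ z ∈ zs S, z ^ p = 1

/-- A largest good subgroup outside the core is an offender on every good module. -/
theorem natural_of_good (hS : Setting S) {V : Subgroup G} (hV : Mdl S V) {e : ℕ} (hVe : ∀ v ∈ V, v ^ e = 1)
    {A : Subgroup G} (hA : A ∈ CfsgLib.ZJ.goodMax e (S : Subgroup G)) (hAQ : ¬ A ≤ pCore p G) :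
    ∃ g : G, (∀ x ∈ (S : Subgroup G), x ∉ pCore p G →
      Subgroup.closure {x} ⊔ (S : Subgroup G).map (MulAut.conj g).toMonoidHom = ⊤) ∧ Nat2 S V g := by
  set Q := pCore p G with hQ
  haveI : Q.Normal := inferInstance
  haveI := hV.normal
  refine natural hS hV ⟨Q ⊔ A, le_sup_left, sup_le hS.core_le hA.1, fun e => hAQ (le_sup_right.trans e.le), ?_⟩
  have hsupgood : ∀ X : Subgroup G, CfsgLib.ZJ.IsGood e X → (∀ x ∈ X, ∀ v ∈ V, x * v = v * x) →
      ∀ W ≤ V, CfsgLib.ZJ.IsGood e (X ⊔ W) := fun X hX hc W hW => by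
    rw [← Subgroup.closure_eq X, ← Subgroup.closure_eq W, ← Subgroup.closure_union]
    refine CfsgLib.ZJ.isGood_closure ?_ ?_
    · rintro x (hx | hx) y (hy | hy)
      exacts [hX.1 x hx y hy, hc x hx y (hW hy), (hc y hy x (hW hx)).symm, hV.comm x (hW hx) y (hW hy)]
    · rintro x (hx | hx)
      exacts [hX.2 x hx, hVe x (hW hx)]
  have hfx : fx V A = A ⊓ V := le_antisymm
    (fun v hv => ⟨by
      have hX : Subgroup.zpowers v ≤ V := Subgroup.zpowers_le.mpr hv.1
      have hg : CfsgLib.ZJ.IsGood e (A ⊔ Subgroup.zpowers v) := by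
        rw [← Subgroup.closure_eq A, Subgroup.zpowers_eq_closure, ← Subgroup.closure_union]
        refine CfsgLib.ZJ.isGood_closure ?_ ?_
        · rintro x (hx | rfl) y (hy | rfl)
          exacts [hA.2.1.1 x hx y hy, hv.2 x hx, (hv.2 y hy).symm, rfl]
        · rintro x (hx | rfl)
          exacts [hA.2.1.2 x hx, hVe x hv.1]
      have h := Subgroup.eq_of_le_of_card_ge le_sup_left
        (hA.2.2 _ (sup_le hA.1 (hX.trans (hV.le.trans hS.core_le))) hg)
      exact h.ge (Subgroup.mem_sup_right (Subgroup.mem_zpowers v)), hv.1⟩)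
    (fun v hv => ⟨hv.2, fun a ha => hA.2.1.1 a ha v hv.1⟩)
  have hB : CfsgLib.ZJ.IsGood e (A ⊓ Q ⊔ V) :=
    hsupgood (A ⊓ Q) ⟨fun a ha b hb => hA.2.1.1 a ha.1 b hb.1, fun a ha => hA.2.1.2 a ha.1⟩
      (fun a ha v hv => hV.cent v hv a ha.2) V le_rfl
  have h1 := CfsgLib.ZJ.card_mul_eq_of_le_normalizer (H := V) (K := A ⊓ Q)
    (CfsgLib.PushRankOne.le_normalizer_of_normal' hV.normal _)
  have h2 : V ⊓ (A ⊓ Q) = fx V A := by
    rw [hfx]
    exact le_antisymm (le_inf (inf_le_right.trans inf_le_left) inf_le_left)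
      (le_inf inf_le_right (le_inf inf_le_left (inf_le_right.trans hV.le)))
  rw [h2, sup_comm] at h1
  have h3 := CfsgLib.ZJ.card_mul_eq_of_le_normalizer (H := Q) (K := A)
    (CfsgLib.PushRankOne.le_normalizer_of_normal' (inferInstance : Q.Normal) A)
  rw [inf_comm Q A] at h3
  have h4 : fx V (Q ⊔ A) = fx V A := by
    rw [fx_sup, hV.fx_core]; exact inf_eq_right.mpr inf_le_left
  rw [h4]
  refine Nat.le_of_mul_le_mul_right ?_ (Nat.card_pos (α := ↥(A ⊓ Q)))
  calc Nat.card Q * Nat.card V * Nat.card ↥(A ⊓ Q)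
      = Nat.card Q * (Nat.card ↥(A ⊓ Q ⊔ V) * Nat.card (fx V A)) := by rw [mul_assoc, h1]
    _ ≤ Nat.card Q * (Nat.card A * Nat.card (fx V A)) :=
        Nat.mul_le_mul le_rfl (Nat.mul_le_mul
          (hA.2.2 _ (sup_le (inf_le_left.trans hA.1) (hV.le.trans hS.core_le)) hB) le_rfl)
    _ = _ := by rw [← mul_assoc, h3]; ring

/-- An offender exists on every elementary module. -/
theorem natural_module (hS : Setting S) (hd : Mild S) {V : Subgroup G} (hV : Mdl S V) (hVp : ∀ v ∈ V, v ^ p = 1) :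
    ∃ g : G, (∀ x ∈ (S : Subgroup G), x ∉ pCore p G →
      Subgroup.closure {x} ⊔ (S : Subgroup G).map (MulAut.conj g).toMonoidHom = ⊤) ∧ Nat2 S V g := by
  obtain ⟨e, he, A, hA, hAQ⟩ := hd.outside
  refine natural_of_good hS hV (fun v hv => ?_) hA hAQ
  rcases he with rfl | rfl
  · exact pow_zero v
  · exact hVp v hv

theorem vmod_mdl (hS : Setting S) (hd : Mild S) : Mdl S (vmod S) :=
  mdl_closure hS hd.noncentral

theorem fx_vmod (hS : Setting S) (hd : Mild S) : fx (vmod S) (S : Subgroup G) = zs S :=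
  le_antisymm (fun _ hv => ⟨hS.core_le ((vmod_mdl hS hd).le hv.1), hv.2⟩)
    (fun _ hz => ⟨Subgroup.le_normalClosure hz, hz.2⟩)

theorem vmod_pow (hS : Setting S) (hd : Mild S) {v : G} (hv : v ∈ vmod S) : v ^ p = 1 := by
  have hcomm := (vmod_mdl hS hd).comm
  induction hv using Subgroup.closure_induction with
  | mem w hw =>
    obtain ⟨z, hz, hzw⟩ := Group.mem_conjugatesOfSet_iff.mp hw
    obtain ⟨c, rfl⟩ := isConj_iff.mp hzw
    have h1 : z ^ p = 1 := hd.elem z hz
    rw [conj_pow, h1, mul_one, mul_inv_cancel]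
  | one => exact one_pow _
  | mul a b ha hb iha ihb =>
    rw [(show Commute a b from hcomm a ha b hb).mul_pow, iha, ihb, one_mul]
  | inv a _ iha => rw [inv_pow, iha, inv_one]

theorem NoChar.zs_not_normal (hd : NoChar (S : Subgroup G)) (hS : Setting S) : ¬ (zs S).Normal :=
  hd _ inf_le_left (zs_ne_bot hS) autInv_zs

theorem NoChar.exists_goodMax_outside (hd : NoChar (S : Subgroup G)) (hS : Setting S) :
    ∃ A ∈ CfsgLib.ZJ.goodMax 0 (S : Subgroup G), ¬ A ≤ pCore p G := by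
  by_contra h
  push Not at h
  rcases case_inside hS h with h1 | h1
  · exact hd.zs_not_normal hS (normal_of_le_center h1)
  · refine hd _ inf_le_left (fun h0 => zs_ne_bot hS (le_bot_iff.mp (h0 ▸ le_inf inf_le_left ?_))) autInv_centralizer_zj h1
    exact fun z hz y hy => hz.2 y (CfsgLib.ZJ.zj_le 0 _ hy)

theorem NoChar.mild (hd : NoChar (S : Subgroup G)) (hS : Setting S) : Mild S := by
  obtain ⟨A, hA, hAQ⟩ := hd.exists_goodMax_outside hS
  have hpow := (CfsgLib.PushRankOne.outside hS (mdl_closure hS (hd.zs_not_normal hS)) hA hAQ).power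
  set X : Subgroup G := Subgroup.closure {y | ∃ z ∈ zs S, y = z ^ p} with hX
  have hXc : X ≤ center G := (Subgroup.closure_le _).mpr (by
    rintro _ ⟨z, hz, rfl⟩; exact hpow z (Subgroup.le_normalClosure hz))
  have hXS : X ≤ (S : Subgroup G) := (Subgroup.closure_le _).mpr (by
    rintro _ ⟨z, hz, rfl⟩; exact (S : Subgroup G).pow_mem hz.1 p)
  have hinv : AutInv (S : Subgroup G) X := by
    intro φ x hx
    have hle : X.subgroupOf (S : Subgroup G) ≤ ((X.subgroupOf (S : Subgroup G)).comap φ.toMonoidHom) := by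
      intro y hy
      rw [Subgroup.mem_subgroupOf] at hy
      have key : ∀ w : G, w ∈ X → ∀ hw : w ∈ (S : Subgroup G), ((φ ⟨w, hw⟩ : ↥(S : Subgroup G)) : G) ∈ X := by
        intro w hw
        induction hw using Subgroup.closure_induction with
        | mem w hw =>
          obtain ⟨z, hz, rfl⟩ := hw
          intro hw'
          refine Subgroup.subset_closure ⟨_, autInv_zs φ ⟨z, hz.1⟩ hz, ?_⟩
          rw [show (⟨z ^ p, hw'⟩ : ↥(S : Subgroup G)) = (⟨z, hz.1⟩ : ↥(S : Subgroup G)) ^ p from rfl, map_pow]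
          rfl
        | one =>
          intro hw'
          rw [show (⟨1, hw'⟩ : ↥(S : Subgroup G)) = 1 from rfl, map_one]
          exact one_mem _
        | mul a b ha hb iha ihb =>
          intro hw'
          rw [show (⟨a * b, hw'⟩ : ↥(S : Subgroup G)) = ⟨a, hXS ha⟩ * ⟨b, hXS hb⟩ from rfl, map_mul]
          exact mul_mem (iha (hXS ha)) (ihb (hXS hb))
        | inv a ha iha =>
          intro hw'
          rw [show (⟨a⁻¹, hw'⟩ : ↥(S : Subgroup G)) = ⟨a, hXS ha⟩⁻¹ from rfl, map_inv]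
          exact inv_mem (iha (hXS ha))
      exact key _ hy y.2
    exact hle hx
  have hbot : X = ⊥ := by
    by_contra h
    exact hd X hXS h hinv (normal_of_le_center hXc)
  refine ⟨hd.zs_not_normal hS, ⟨0, Or.inl rfl, A, hA, hAQ⟩, fun z hz => ?_⟩
  have : z ^ p ∈ X := Subgroup.subset_closure ⟨z, hz, rfl⟩
  rwa [hbot, Subgroup.mem_bot] at this

/-- Elements outside `O_p(G)` with a conjugate of `S` generate. -/
theorem exists_opp (hS : Setting S) (hE₂ : ∃! M : Subgroup G, IsCoatom M ∧ (S : Subgroup G) ≤ M)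
    {X : Type*} [Group X] [Finite X] (hX : SylowShape X p) (f : G →* X) (hf : Function.Surjective f) :
    ∃ g : G, Opp ⊤ (pCore p G) (S : Subgroup G) (cj g (S : Subgroup G)) := by
  obtain ⟨M, ⟨hM, hSM⟩, huniq⟩ := hE₂
  set P0 : Sylow p X := S.mapSurjective hf with hP0
  obtain ⟨P1, hP1⟩ := hX.exists_ne P0
  have hKS : f.ker ⊔ (S : Subgroup G) ≠ ⊤ := by
    intro htop
    have h2 : (P0 : Subgroup X) = ⊤ := by
      have h3 := congrArg (Subgroup.map f) htop
      rwa [Subgroup.map_sup, Subgroup.map_top_of_surjective f hf, (Subgroup.map_eq_bot_iff f.ker).mpr le_rfl,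
        bot_sup_eq] at h3
    have h4 := hX.inf P0 P1 (Ne.symm hP1)
    rw [h2, top_inf_eq] at h4
    exact hX.ne_bot P1 h4
  have hkM : f.ker ≤ M := by
    obtain ⟨M', hM', hle⟩ := (eq_top_or_exists_le_coatom _).resolve_left hKS
    exact le_sup_left.trans (huniq M' ⟨hM', le_sup_right.trans hle⟩ ▸ hle)
  have hkQ : f.ker ⊓ (S : Subgroup G) ≤ pCore p G := (hS.normal_cases f.ker inferInstance).resolve_left hKS
  have key : ∀ c d : G, f c • P0 ≠ f d • P0 → ∀ x ∈ cj c (S : Subgroup G), x ∉ pCore p G →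
      Subgroup.closure {x} ⊔ cj d (S : Subgroup G) = ⊤ := by
    intro c d hne x hx hxQ
    by_contra hne'
    obtain ⟨M', hM', hle⟩ := (eq_top_or_exists_le_coatom _).resolve_left hne'
    set e := (MulAut.conj d : MulAut G)
    have h1 : IsCoatom (M'.map e.symm.toMonoidHom) := by
      have := (e.symm.mapSubgroup).isCoatom_iff M' |>.mpr hM'
      simpa using this
    have h2 : (S : Subgroup G) ≤ M'.map e.symm.toMonoidHom := fun s hs =>
      ⟨e s, hle (Subgroup.mem_sup_right ⟨s, hs, rfl⟩), e.symm_apply_apply s⟩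
    have hker : f.ker ≤ M' := by
      intro k hk
      have hk' : e.symm k ∈ f.ker := by
        rw [MonoidHom.mem_ker] at hk ⊢
        simp [e, MulAut.conj_symm_apply, map_mul, map_inv, hk]
      obtain ⟨m, hm, hme⟩ := (huniq _ ⟨h1, h2⟩).ge (hkM hk')
      exact e.symm.injective hme ▸ hm
    have hcS : ∀ (a : G) (y : G), y ∈ cj a (S : Subgroup G) → f y ∈ ((f a • P0 : Sylow p X) : Subgroup X) := by
      intro a y hy
      obtain ⟨s, hs, rfl⟩ := hy
      exact ⟨f s, ⟨s, hs, rfl⟩, by simp [MulAut.smul_def, MulAut.conj_apply]⟩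
    have hfx : f x ≠ 1 := by
      intro h
      refine hxQ ?_
      have h3 : c⁻¹ * x * c ∈ f.ker ⊓ (S : Subgroup G) :=
        ⟨by simp [MonoidHom.mem_ker, h], mem_cj.mp hx⟩
      have h4 := (inferInstance : (pCore p G).Normal).conj_mem _ (hkQ h3) c
      simpa [mul_assoc] using h4
    have htop : M'.map f = ⊤ := by
      refine top_le_iff.mp ((closure_sup_eq_top hX hne (hcS c x hx) hfx).ge.trans (sup_le ?_ ?_))
      · exact (Subgroup.closure_le _).mpr (Set.singleton_subset_iff.mpr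
          ⟨x, hle (Subgroup.mem_sup_left (Subgroup.subset_closure rfl)), rfl⟩)
      · rintro _ ⟨_, ⟨s, hs, rfl⟩, rfl⟩
        exact ⟨d * s * d⁻¹, hle (Subgroup.mem_sup_right ⟨s, hs, rfl⟩), by simp [MulAut.smul_def, MulAut.conj_apply]⟩
    refine hM'.1 ?_
    have h5 := congrArg (Subgroup.comap f) htop
    rwa [Subgroup.comap_map_eq, Subgroup.comap_top, sup_eq_left.mpr hker] at h5
  obtain ⟨z, hz⟩ := MulAction.exists_smul_eq X P0 P1
  obtain ⟨g, rfl⟩ := hf z
  have h0 : cj (1 : G) (S : Subgroup G) = (S : Subgroup G) := by ext y; simp [mem_cj]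
  have hne : f 1 • P0 ≠ f g • P0 := by rw [map_one, one_smul, hz]; exact Ne.symm hP1
  refine ⟨g, fun x hx hxQ => key 1 g hne x (by rwa [h0]) hxQ, fun x hx hxQ => ?_⟩
  have := key g 1 hne.symm x hx hxQ
  rwa [h0] at this

/-- The flag at the group itself. -/
theorem flag_top (hS : Setting S) (hd : Mild S) :
    Flag p ⊤ (pCore p G) (vmod S) (S : Subgroup G) := by
  have hV := vmod_mdl hS hd
  have hF := fx_vmod hS hd
  obtain ⟨g, hg, hN⟩ := natural_module hS hd hV (fun v hv => vmod_pow hS hd hv)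
  set Q := pCore p G with hQ
  set V := vmod S with hVdef
  haveI hVn : V.Normal := hV.normal
  haveI hQn : Q.Normal := inferInstance
  haveI : (centralizer (Q : Set G)).Normal := inferInstance
  have hVQ : V ≤ Q ⊓ centralizer (Q : Set G) := fun v hv => ⟨hV.le hv, fun q hq => hV.cent v hv q hq⟩
  let Y : Subgroup G :=
    { carrier := {x | x ∈ Q ⊓ centralizer (Q : Set G) ∧ x ^ p = 1}
      one_mem' := ⟨one_mem _, one_pow p⟩
      mul_mem' := fun {a b} ha hb => ⟨mul_mem ha.1 hb.1, by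
        rw [(show Commute a b from hb.1.2 a ha.1.1).mul_pow, ha.2, hb.2, one_mul]⟩
      inv_mem' := fun {a} ha => ⟨inv_mem ha.1, by rw [inv_pow, ha.2, inv_one]⟩ }
  have hVY : V ≤ Y := fun v hv => ⟨hVQ hv, vmod_pow hS hd hv⟩
  have hY : Mdl S Y := by
    refine ⟨⟨fun y hy g => ⟨(Subgroup.normal_inf_normal _ _).conj_mem _ hy.1 g,
      by rw [conj_pow, hy.2, mul_one, mul_inv_cancel]⟩⟩, fun y hy => hy.1.1, fun a ha b hb => hb.1.2 a ha.1.1,
      fun v hv q hq => hv.1.2 q hq, fun h => hV.not_cent (h.trans (centralizer_le (SetLike.coe_subset_coe.mpr hVY))),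
      fun h => hV.not_fix (le_trans (inf_le_inf_right _ hVY) h)⟩
  obtain ⟨g', -, hN'⟩ := natural_module hS hd hY (fun y hy => hy.2)
  refine
    { Q_le := hS.core_le
      T_le := le_top
      V_le := hV.le
      norm_Q := by rw [Subgroup.normalizer_eq_top]
      norm_V := by rw [Subgroup.normalizer_eq_top]
      isP := S.isPGroup'
      comm := hS.comm
      exp := hS.exp
      elem := fun v hv => vmod_pow hS hd hv
      abel := hV.comm
      center := ?_
      V_central := fun v hv q hq => hV.cent v hv q hq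
      fx_le := fun z hz => Subgroup.le_normalClosure hz
      cent := le_antisymm ?_ (le_inf hS.core_le fun q hq v hv => (hV.cent v hv q hq).symm)
      fixed := fun x hx hxQ v hv hxv => (hN.fixed x hx hxQ v hv hxv).2
      quad := fun v hv t ht => (hN.quad t ht v hv).2
      index := hN.index
      fixmod := ?_
      exists_mem := hS.exists_mem
      cases := ?_ }
  · intro x hx hxc hxp
    suffices e : V = Y from e.ge ⟨⟨hx, fun q hq => hxc q hq⟩, hxp⟩
    refine Subgroup.eq_of_le_of_card_ge hVY ?_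
    refine Nat.le_of_mul_le_mul_left ?_ (Nat.card_pos (α := Q))
    rw [← hN'.index, ← hN.index]
    refine Nat.mul_le_mul le_rfl (Subgroup.card_le_of_le ?_)
    rw [hF]
    exact fun y hy => ⟨hS.core_le hy.1.1.1, hy.2⟩
  · rintro x ⟨hx, hxV⟩
    by_contra hxQ
    refine hV.not_cent fun s hs v hv => ?_
    exact ((hN.fixed x hx hxQ v hv ((hxV v hv).symm)).2 s hs).symm
  · intro v hv hc
    obtain ⟨f₁, hf₁, f₂, hf₂, rfl⟩ := exists_mul (X := fx V (S : Subgroup G))
      (fun x hx => mem_normalizer_of_conj fun y hy => by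
        rwa [hV.comm x hx.1 y hy.1, mul_inv_cancel_right]) (hN.sup.symm ▸ hv)
    refine mul_mem hf₁.2 ?_
    have hc2 : ∀ t ∈ (S : Subgroup G), t * f₂ * t⁻¹ * f₂⁻¹ ∈ center G := by
      intro t ht
      have h := hc t ht
      have e : t * (f₁ * f₂) * t⁻¹ * (f₁ * f₂)⁻¹ = t * f₂ * t⁻¹ * f₂⁻¹ := by
        have h1 : Commute t f₁ := hf₁.2 t ht
        have h2 : Commute f₁ (t * f₂ * t⁻¹ * f₂⁻¹) :=
          hV.comm f₁ hf₁.1 _ (hV.comm_mem hf₂.1 t)
        calc t * (f₁ * f₂) * t⁻¹ * (f₁ * f₂)⁻¹ = (t * f₁) * f₂ * t⁻¹ * f₂⁻¹ * f₁⁻¹ := by group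
          _ = f₁ * (t * f₂ * t⁻¹ * f₂⁻¹) * f₁⁻¹ := by rw [h1.eq]; group
          _ = _ := by rw [h2.eq]; group
      rw [e, Subgroup.coe_top, Subgroup.centralizer_univ] at h
      exact h
    let L : Subgroup G :=
      { carrier := {h | h * f₂ * h⁻¹ * f₂⁻¹ ∈ center G}
        one_mem' := by simp
        mul_mem' := fun {a b} ha hb => by
          show a * b * f₂ * (a * b)⁻¹ * f₂⁻¹ ∈ center G
          have e : a * b * f₂ * (a * b)⁻¹ * f₂⁻¹ = (a * (b * f₂ * b⁻¹ * f₂⁻¹) * a⁻¹) * (a * f₂ * a⁻¹ * f₂⁻¹) := by group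
          rw [e, Subgroup.mem_center_iff.mp hb a, mul_inv_cancel_right]
          exact mul_mem hb ha
        inv_mem' := fun {a} ha => by
          show a⁻¹ * f₂ * a⁻¹⁻¹ * f₂⁻¹ ∈ center G
          have e : a⁻¹ * f₂ * a⁻¹⁻¹ * f₂⁻¹ = a⁻¹ * (a * f₂ * a⁻¹ * f₂⁻¹)⁻¹ * a := by group
          rw [e, Subgroup.mem_center_iff.mp (inv_mem ha) a⁻¹, mul_assoc, inv_mul_cancel, mul_one]
          exact inv_mem ha }
    obtain ⟨x₀, hx₀, hx₀Q⟩ := hS.exists_mem
    have hL : ∀ h : G, h * f₂ * h⁻¹ * f₂⁻¹ ∈ center G := by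
      intro h
      have : (⊤ : Subgroup G) ≤ L := (hg x₀ hx₀ hx₀Q).ge.trans (sup_le
        ((Subgroup.closure_le _).mpr (Set.singleton_subset_iff.mpr (hc2 x₀ hx₀))) fun y hy => by
          show y * f₂ * y⁻¹ * f₂⁻¹ ∈ center G
          rw [hf₂.2 y hy, mul_inv_cancel_right, mul_inv_cancel]; exact one_mem _)
      exact this (mem_top h)
    let φ : G →* ↥(center G) :=
      { toFun := fun h => ⟨h * f₂ * h⁻¹ * f₂⁻¹, hL h⟩
        map_one' := Subtype.ext (by simp)
        map_mul' := fun a b => Subtype.ext (by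
          show a * b * f₂ * (a * b)⁻¹ * f₂⁻¹ = (a * f₂ * a⁻¹ * f₂⁻¹) * (b * f₂ * b⁻¹ * f₂⁻¹)
          have e : a * b * f₂ * (a * b)⁻¹ * f₂⁻¹ = (a * (b * f₂ * b⁻¹ * f₂⁻¹) * a⁻¹) * (a * f₂ * a⁻¹ * f₂⁻¹) := by group
          rw [e, Subgroup.mem_center_iff.mp (hL b) a, mul_inv_cancel_right]
          exact ((Subgroup.mem_center_iff.mp (hL b) _).symm)) }
    intro s hs
    have h1 : φ (g * s * g⁻¹) = 1 := Subtype.ext (by
      show g * s * g⁻¹ * f₂ * (g * s * g⁻¹)⁻¹ * f₂⁻¹ = 1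
      rw [show g * s * g⁻¹ * f₂ = f₂ * (g * s * g⁻¹) from hf₂.2 _ ⟨s, hs, rfl⟩]; group)
    have h2 : φ (g * s * g⁻¹) = φ s := by
      rw [map_mul, map_mul, map_inv]
      have hcm : φ g * φ s = φ s * φ g := Subtype.ext (Subgroup.mem_center_iff.mp (φ s).2 _)
      rw [hcm, mul_inv_cancel_right]
    have h3 : s * f₂ * s⁻¹ * f₂⁻¹ = 1 := congrArg Subtype.val (h2.symm.trans h1)
    calc s * f₂ = (s * f₂ * s⁻¹ * f₂⁻¹) * f₂ * s := by group
      _ = f₂ * s := by rw [h3, one_mul]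
  · intro L _ hn
    haveI : L.Normal := Subgroup.normalizer_eq_top_iff.mp (top_le_iff.mp hn)
    exact hS.normal_cases L this

end CfsgLib.PushUp
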