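import Mathlib

/-!
Additive maps that are compatible with inverses are multiplicative on finite fields (after Hua).
-/

set_option autoImplicit false

namespace CfsgLib.PushUp

variable {F R : Type*} [Field F] [Ring R] (ψ : F →+ R)

/-- Hua's identity. -/
theorem map_mul_mul_of_inv (h1 : ψ 1 = 1) (hinv : ∀ t : F, t ≠ 0 → ψ t * ψ t⁻¹ = 1) (a b : F) :
    ψ (a * b * a) = ψ a * ψ b * ψ a := by
  by_cases ha : a = 0
  · simp [ha]
  by_cases hb : b = 0
  · simp [hb]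
  by_cases hab : a * b = 1
  · rw [hab, one_mul, eq_inv_of_mul_eq_one_right hab, hinv a ha, one_mul]
  have hinv' : ∀ t : F, t ≠ 0 → ψ t⁻¹ * ψ t = 1 := fun t ht => by
    have h := hinv t⁻¹ (inv_ne_zero ht)
    rwa [inv_inv] at h
  have hd : b⁻¹ - a ≠ 0 := by
    intro h
    apply hab
    rw [← sub_eq_zero.mp h, inv_mul_cancel₀ hb]
  have he : 1 - a * b ≠ 0 := sub_ne_zero.mpr (Ne.symm hab)
  have hc : a - a * b * a ≠ 0 := by
    rw [show a - a * b * a = a * (1 - a * b) by ring]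
    exact mul_ne_zero ha he
  have hid : (a - a * b * a)⁻¹ = a⁻¹ + (b⁻¹ - a)⁻¹ := by
    refine inv_eq_of_mul_eq_one_right ?_
    have e : (b⁻¹ - a) = (1 - a * b) * b⁻¹ := by field_simp
    rw [e, mul_inv, inv_inv]
    field_simp
    ring
  set x := ψ a with hx
  set y := ψ b with hy
  have hz : (ψ b⁻¹ - x) * ψ (b⁻¹ - a)⁻¹ = 1 := by rw [hx, ← map_sub]; exact hinv _ hd
  have hright : (x - x * y * x) * (ψ a⁻¹ + ψ (b⁻¹ - a)⁻¹) = 1 := by
    set z := ψ (b⁻¹ - a)⁻¹ with hzdef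
    have e1 : x * ψ a⁻¹ = 1 := hinv a ha
    have e2 : y * ψ b⁻¹ = 1 := hinv b hb
    have e3 : y * (ψ b⁻¹ - x) = 1 - y * x := by rw [mul_sub, e2]
    have e4 : (1 - y * x) * z = y := by rw [← e3, mul_assoc, hz, mul_one]
    calc (x - x * y * x) * (ψ a⁻¹ + z) = x * ψ a⁻¹ - x * y * (x * ψ a⁻¹) + x * ((1 - y * x) * z) := by noncomm_ring
      _ = 1 := by rw [e1, e4, mul_one]; abel
  have hleft : (ψ a⁻¹ + ψ (b⁻¹ - a)⁻¹) * ψ (a - a * b * a) = 1 := by
    rw [← map_add, ← hid]; exact hinv' _ hc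
  have key := left_inv_eq_right_inv hright hleft
  rw [map_sub, ← hx] at key
  exact (sub_right_injective key).symm

theorem map_pow_of_inv (h1 : ψ 1 = 1) (hinv : ∀ t : F, t ≠ 0 → ψ t * ψ t⁻¹ = 1) (a : F) :
    ∀ n : ℕ, ψ (a ^ n) = ψ a ^ n := by
  intro n
  induction n using Nat.twoStepInduction with
  | zero => rw [pow_zero, pow_zero, h1]
  | one => rw [pow_one, pow_one]
  | more n ih _ =>
    rw [show a ^ (n + 2) = a * a ^ n * a by ring, map_mul_mul_of_inv ψ h1 hinv, ih, ← pow_succ', ← pow_succ]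

theorem map_mul_of_inv [Finite F] (h1 : ψ 1 = 1) (hinv : ∀ t : F, t ≠ 0 → ψ t * ψ t⁻¹ = 1) (a b : F) :
    ψ (a * b) = ψ a * ψ b := by
  by_cases ha : a = 0
  · simp [ha]
  by_cases hb : b = 0
  · simp [hb]
  obtain ⟨z, hz⟩ := IsCyclic.exists_monoid_generator (α := Fˣ)
  obtain ⟨i, hi⟩ := Submonoid.mem_powers_iff _ _ |>.mp (hz (Units.mk0 a ha))
  obtain ⟨j, hj⟩ := Submonoid.mem_powers_iff _ _ |>.mp (hz (Units.mk0 b hb))
  have hi' : (z : F) ^ i = a := by rw [← Units.val_pow_eq_pow_val, hi]; rfl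
  have hj' : (z : F) ^ j = b := by rw [← Units.val_pow_eq_pow_val, hj]; rfl
  rw [← hi', ← hj', ← pow_add, map_pow_of_inv ψ h1 hinv, map_pow_of_inv ψ h1 hinv, map_pow_of_inv ψ h1 hinv,
    pow_add]

end CfsgLib.PushUp
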