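import Mathlib
import Cfsg.Agent.Lib.PushRankOne.PSLFacts
import Cfsg.Agent.Lib.PSL2.BorelUnique
import Cfsg.Agent.Lib.PushUp.Flag

/-!
A group with a chosen pair of Sylow subgroups over the two root groups of `PSL₂(q)`.
-/

set_option autoImplicit false

namespace CfsgLib.PushUp

open Subgroup CfsgLib.PSL2

universe u

variable {G : Type u} [Group G] {p : ℕ} {F : Type} [Field F]

local notation "SL" => Matrix.SpecialLinearGroup (Fin 2) F
local notation "PSL" => Matrix.ProjectiveSpecialLinearGroup (Fin 2) F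

/-- `S` and `T'` lie over the two root groups. -/
structure Coords (p : ℕ) (F : Type) [Field F] (Q S T' : Subgroup G) (f : G →* Matrix.ProjectiveSpecialLinearGroup (Fin 2) F) : Prop where
  surj : Function.Surjective f
  map_S : S.map f = (uHom : Multiplicative F →* Matrix.ProjectiveSpecialLinearGroup (Fin 2) F).range
  map_T : T'.map f = (vHom : Multiplicative F →* Matrix.ProjectiveSpecialLinearGroup (Fin 2) F).range
  Q_le : Q ≤ S
  Q_le' : Q ≤ T'
  Q_ker : Q ≤ f.ker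
  normal : Q.Normal
  ker_S : ∀ x ∈ S, f x = 1 → x ∈ Q
  ker_T : ∀ x ∈ T', f x = 1 → x ∈ Q
  ker_p : ∀ k ∈ f.ker, (∃ n : ℕ, k ^ p ^ n = 1) → k ∈ Q
  comm : ∀ t ∈ S, ∀ t' ∈ S, t * t' * t⁻¹ * t'⁻¹ ∈ Q
  exp : ∀ t ∈ S, t ^ p ∈ Q
  exp' : ∀ t ∈ T', t ^ p ∈ Q
  gen : ∀ x ∈ S, x ∉ Q → closure {x} ⊔ T' = ⊤
  gen' : ∀ x ∈ T', x ∉ Q → closure {x} ⊔ S = ⊤
  conj : ∃ g : G, T' = cj g S
  notTop : ∀ L : Subgroup G, L.Normal → L ⊔ S ≠ ⊤ → L ⊔ f.ker ⊔ S ≠ ⊤

namespace Coords

variable {Q S T' : Subgroup G} {f : G →* Matrix.ProjectiveSpecialLinearGroup (Fin 2) F} (C : Coords p F Q S T' f)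
include C

theorem exists_s (t : F) : ∃ s ∈ S, f s = uu t := by
  have h : uu t ∈ S.map f := by rw [C.map_S]; exact ⟨_, rfl⟩
  exact h

theorem exists_l (t : F) : ∃ l ∈ T', f l = vv t := by
  have h : vv t ∈ T'.map f := by rw [C.map_T]; exact ⟨_, rfl⟩
  exact h

theorem param_s {s : G} (hs : s ∈ S) : ∃ t : F, f s = uu t := by
  have h : f s ∈ S.map f := ⟨s, hs, rfl⟩
  rw [C.map_S] at h
  obtain ⟨t, ht⟩ := h
  exact ⟨t.toAdd, ht.symm⟩

theorem param_l {l : G} (hl : l ∈ T') : ∃ t : F, f l = vv t := by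
  have h : f l ∈ T'.map f := ⟨l, hl, rfl⟩
  rw [C.map_T] at h
  obtain ⟨t, ht⟩ := h
  exact ⟨t.toAdd, ht.symm⟩

end Coords

/-- The product realising the antidiagonal. -/
theorem weyl_eq (t : F) (ht : t ≠ 0) :
    (uSL t * vSL (-t⁻¹) * uSL t : SL).1 0 0 = 0 ∧ (uSL t * vSL (-t⁻¹) * uSL t : SL).1 1 0 = -t⁻¹ := by
  simp [coe_uSL, coe_vSL, Matrix.mul_apply, Fin.sum_univ_two, ht]

theorem weyl_conj (t s : F) (ht : t ≠ 0) :
    (uu t * vv (-t⁻¹) * uu t : PSL) * uu s * (uu t * vv (-t⁻¹) * uu t)⁻¹ = vv (-(t⁻¹) ^ 2 * s) := by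
  rw [uu_eq t, vv_eq, ← map_mul, ← map_mul, conj_uu_of_zero _ (weyl_eq t ht).1, (weyl_eq t ht).2, neg_sq]

theorem uu_add (a b : F) : (uu (a + b) : PSL) = uu a * uu b := by rw [uu, ofAdd_add, map_mul]

theorem vv_add (a b : F) : (vv (a + b) : PSL) = vv a * vv b := by rw [vv, ofAdd_add, map_mul]

theorem uu_zero : (uu (0 : F) : PSL) = 1 := by rw [uu, ofAdd_zero, map_one]

theorem vv_zero : (vv (0 : F) : PSL) = 1 := by rw [vv, ofAdd_zero, map_one]

theorem uu_ne_one {a : F} (ha : a ≠ 0) : (uu a : PSL) ≠ 1 := fun h =>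
  ha (uu_injective (h.trans uu_zero.symm))

theorem uRange_ne_vRange : (uHom : Multiplicative F →* PSL).range ≠ (vHom : Multiplicative F →* PSL).range := by
  intro h
  have h1 : mk (vSL (1 : F)) ∈ (uHom : Multiplicative F →* PSL).range := h ▸ ⟨Multiplicative.ofAdd 1, rfl⟩
  have := ((mem_uRange_iff _).mp h1).1
  simp [coe_vSL] at this

variable [Finite G] [Fact p.Prime]

open CfsgLib.PushRankOne in
/-- A normalisation exists for every opposite pair. -/
theorem exists_coords [Fintype F] [CharP F p] (S : Sylow p G) {Q : Subgroup G} [Q.Normal]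
    (hQ : Q ≤ (S : Subgroup G)) (hexp : ∀ t ∈ (S : Subgroup G), t ^ p ∈ Q)
    (hcomm : ∀ t ∈ (S : Subgroup G), ∀ t' ∈ (S : Subgroup G), t * t' * t⁻¹ * t'⁻¹ ∈ Q)
    (f₀ : G →* PSL) (hf : Function.Surjective f₀) (hfQ : Q ≤ f₀.ker)
    (hker : f₀.ker ⊓ (S : Subgroup G) ≤ Q) {g : G}
    (hopp : Opp ⊤ Q (S : Subgroup G) (cj g (S : Subgroup G)))
    (hnot : ∀ L : Subgroup G, L.Normal → L ⊔ (S : Subgroup G) ≠ ⊤ → L ⊔ f₀.ker ⊔ (S : Subgroup G) ≠ ⊤) :
    ∃ f : G →* PSL, Coords p F Q (S : Subgroup G) (cj g (S : Subgroup G)) f ∧ f.ker = f₀.ker := by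
  classical
  haveI : Finite PSL := Quotient.finite _
  set P0 : Sylow p PSL := S.mapSurjective hf with hP0
  set U := uSylow (F := F) p with hU
  obtain ⟨a, ha⟩ := MulAction.exists_smul_eq PSL P0 U
  set f₁ : G →* PSL := (MulAut.conj a).toMonoidHom.comp f₀ with hf₁
  have hUR : (U : Subgroup PSL) = (uHom : Multiplicative F →* PSL).range := rfl
  have h1 : (S : Subgroup G).map f₁ = (uHom : Multiplicative F →* PSL).range := by
    rw [← hUR, ← ha, hf₁, ← Subgroup.map_map]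
    rfl
  obtain ⟨w, hw⟩ := QuotientGroup.mk'_surjective _ (f₁ g)
  have hT1 : (cj g (S : Subgroup G)).map f₁ = cj (mk w) (uHom : Multiplicative F →* PSL).range := by
    rw [map_cj', ← h1, hw]
  have hw10 : w.1 1 0 ≠ 0 := by
    intro h0
    have hn := upper_mem_normalizer w h0
    have h2 : (cj g (S : Subgroup G)).map f₁ = (S : Subgroup G).map f₁ := by
      rw [hT1, h1, cj_eq_self hn]
    obtain ⟨x, hx, hxQ⟩ : ∃ x ∈ (S : Subgroup G), x ∉ Q := by
      by_contra h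
      push Not at h
      have h3 : (uu (1 : F) : PSL) ∈ (S : Subgroup G).map f₁ := h1 ▸ ⟨_, rfl⟩
      obtain ⟨s, hs, hse⟩ := h3
      apply uu_ne_one (F := F) one_ne_zero
      rw [← hse, hf₁, MonoidHom.comp_apply, MonoidHom.mem_ker.mp (hfQ (h s hs)), map_one]
    have h4 := congrArg (Subgroup.map f₁) (hopp.left x hx hxQ)
    rw [Subgroup.map_sup, Subgroup.map_top_of_surjective f₁ ((MulAut.conj a).surjective.comp hf)] at h4
    refine uRange_normalizer_ne_top (F := F) (top_le_iff.mp (h4.ge.trans ?_))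
    refine le_trans (sup_le ?_ (h2.trans h1).le) Subgroup.le_normalizer
    rw [← h1]
    exact Subgroup.map_mono ((Subgroup.closure_le _).mpr (Set.singleton_subset_iff.mpr hx))
  set c : SL := uSL (-(w.1 0 0) / w.1 1 0) with hc
  set f : G →* PSL := (MulAut.conj (mk c)).toMonoidHom.comp f₁ with hfdef
  have hcU : mk c ∈ Subgroup.normalizer ((uHom : Multiplicative F →* PSL).range : Set PSL) :=
    Subgroup.le_normalizer ⟨_, rfl⟩
  have hfS : (S : Subgroup G).map f = (uHom : Multiplicative F →* PSL).range := by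
    rw [hfdef, ← Subgroup.map_map, h1]; exact cj_eq_self hcU
  have hk00 : (c * w).1 0 0 = 0 := by
    simp [hc, coe_uSL, Matrix.mul_apply, Fin.sum_univ_two, div_mul_cancel₀ _ hw10]
  have hk10 : (c * w).1 1 0 ≠ 0 := by
    simpa [hc, coe_uSL, Matrix.mul_apply, Fin.sum_univ_two] using hw10
  have hfT : (cj g (S : Subgroup G)).map f = (vHom : Multiplicative F →* PSL).range := by
    rw [hfdef, ← Subgroup.map_map, hT1]
    show cj (mk c) (cj (mk w) _) = _
    ext y
    rw [mem_cj, mem_cj]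
    have e : (mk w)⁻¹ * ((mk c)⁻¹ * y * mk c) * mk w = (mk (c * w))⁻¹ * y * mk (c * w) := by
      rw [map_mul]; group
    rw [e]
    constructor
    · rintro ⟨t, ht⟩
      refine ⟨Multiplicative.ofAdd (-((c * w).1 1 0) ^ 2 * t.toAdd), ?_⟩
      show vv _ = y
      rw [← conj_uu_of_zero _ hk00, show uu (F := F) t.toAdd = uHom t from rfl, ht]
      group
    · rintro ⟨t, rfl⟩
      refine ⟨Multiplicative.ofAdd (t.toAdd / -((c * w).1 1 0) ^ 2), ?_⟩
      show uu _ = _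
      have h := conj_uu_of_zero (c * w) hk00 (t.toAdd / -((c * w).1 1 0) ^ 2)
      rw [mul_div_cancel₀ _ (neg_ne_zero.mpr (pow_ne_zero 2 hk10))] at h
      rw [show vHom t = vv t.toAdd from rfl, ← h]
      group
  have hkeq : f.ker = f₀.ker := by
    ext x
    simp [hfdef, hf₁, MonoidHom.mem_ker]
  have hinv : ∀ x : G, ∀ y ∈ Q, x⁻¹ * y * x ∈ Q := fun x y hy => by
    simpa using ‹Q.Normal›.conj_mem y hy x⁻¹
  refine ⟨f,
    { surj := (MulAut.conj (mk c)).surjective.comp ((MulAut.conj a).surjective.comp hf)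
      map_S := hfS
      map_T := hfT
      Q_le := hQ
      Q_le' := fun y hy => mem_cj.mpr (hQ (hinv g y hy))
      Q_ker := hkeq ▸ hfQ
      normal := inferInstance
      ker_S := fun x hx h => hker ⟨hkeq.le h, hx⟩
      ker_T := ?_
      ker_p := ?_
      comm := hcomm
      exp := hexp
      exp' := ?_
      gen := hopp.left
      gen' := hopp.right
      conj := ⟨g, rfl⟩
      notTop := by rw [hkeq]; exact hnot }, hkeq⟩
  · intro x hx h
    have h2 := hker ⟨(MonoidHom.normal_ker f₀).conj_mem x (hkeq.le h) g⁻¹, by rw [inv_inv]; exact mem_cj.mp hx⟩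
    simpa [mul_assoc] using ‹Q.Normal›.conj_mem _ h2 g
  · rintro k hk ⟨n, hn⟩
    have hp : IsPGroup p (zpowers k) := by
      rintro ⟨y, hy⟩
      obtain ⟨i, rfl⟩ := Subgroup.mem_zpowers_iff.mp hy
      refine ⟨n, Subtype.ext ?_⟩
      show (k ^ i) ^ p ^ n = 1
      rw [← zpow_natCast, ← zpow_mul, mul_comm, zpow_mul, zpow_natCast, hn, one_zpow]
    obtain ⟨P, hP⟩ := hp.exists_le_sylow
    obtain ⟨z, hz⟩ := MulAction.exists_smul_eq G S P
    have h2 : k ∈ cj z (S : Subgroup G) := by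
      have := hP (mem_zpowers k)
      rwa [← hz] at this
    have h3 := hker ⟨(MonoidHom.normal_ker f₀).conj_mem k (hkeq.le hk) z⁻¹, by rw [inv_inv]; exact mem_cj.mp h2⟩
    simpa [mul_assoc] using ‹Q.Normal›.conj_mem _ h3 z
  · intro t ht
    have h := hexp _ (mem_cj.mp ht)
    have e : (g⁻¹ * t * g) ^ p = g⁻¹ * t ^ p * g := by
      simpa using (conj_pow (a := g⁻¹) (b := t) (i := p))
    rw [e] at h
    simpa [mul_assoc] using ‹Q.Normal›.conj_mem _ h g
where
  map_cj' {a : G} {X : Subgroup G} {Y : Type} [Group Y] {φ : G →* Y} : (cj a X).map φ = cj (φ a) (X.map φ) := by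
    rw [cj, cj, Subgroup.map_map, Subgroup.map_map]
    congr 1
    ext x
    simp

end CfsgLib.PushUp
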