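import Mathlib
import Cfsg.Agent.Lib.PushUp.Coords

/-!
Modules on which two opposite Sylow subgroups behave like the root groups on the natural `SL₂(q)`-module:
fixed points and freeness.
-/

set_option autoImplicit false
set_option linter.unusedSectionVars false

namespace CfsgLib.PushUp

open Subgroup CfsgLib.PSL2

universe u v

variable {G : Type u} [Group G] {p : ℕ} {F : Type} [Field F]
variable {M : Type v} [AddCommGroup M] {ε : G →* AddMonoid.End M}

theorem end_mul_apply (x y : G) (m : M) : ε (x * y) m = ε x (ε y m) := by rw [map_mul]; rfl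

theorem end_one_apply (m : M) : ε 1 m = m := by rw [map_one]; rfl

theorem end_inv_apply (x : G) (m : M) : ε x⁻¹ (ε x m) = m := by
  rw [← end_mul_apply, inv_mul_cancel, end_one_apply]

theorem end_inv_apply' (x : G) (m : M) : ε x (ε x⁻¹ m) = m := by
  rw [← end_mul_apply, mul_inv_cancel, end_one_apply]

theorem end_injective (x : G) : Function.Injective (ε x) :=
  Function.LeftInverse.injective (end_inv_apply x)

/-- The elements fixing `m`. -/
def fixer (ε : G →* AddMonoid.End M) (m : M) : Subgroup G where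
  carrier := {h | ε h m = m}
  one_mem' := end_one_apply m
  mul_mem' := fun {a b} ha hb => by
    simp only [Set.mem_setOf_eq] at ha hb ⊢
    rw [end_mul_apply, hb, ha]
  inv_mem' := fun {a} ha => by
    simp only [Set.mem_setOf_eq] at ha ⊢
    conv_lhs => rw [← ha]
    exact end_inv_apply a m

/-- The module. -/
structure Md (Q S T' : Subgroup G) (ε : G →* AddMonoid.End M) (A B : AddSubgroup M) (q : ℕ) : Prop where
  sup : ∀ m : M, ∃ a ∈ A, ∃ b ∈ B, a + b = m
  fixA : ∀ s ∈ S, ∀ a ∈ A, ε s a = a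
  moveA : ∀ s ∈ S, ∀ m, ε s m - m ∈ A
  fixB : ∀ t ∈ T', ∀ b ∈ B, ε t b = b
  moveB : ∀ t ∈ T', ∀ m, ε t m - m ∈ B
  cardA : Nat.card A ≤ q
  cardB : Nat.card B ≤ q
  trivQ : ∀ x ∈ Q, ε x = 1
  nontriv : ∃ g : G, ∃ m, ε g m ≠ m

/-- What the two Sylow subgroups satisfy, symmetrically. -/
structure Pair (Q S T' : Subgroup G) (F : Type) : Prop where
  gen : ∀ x ∈ S, x ∉ Q → closure {x} ⊔ T' = ⊤
  gen' : ∀ x ∈ T', x ∉ Q → closure {x} ⊔ S = ⊤
  conj : ∃ g : G, T' = cj g S
  repS : ∃ s : F → G, (∀ u, s u ∈ S) ∧ ∀ u w, u ≠ w → (s u)⁻¹ * s w ∉ Q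
  repT : ∃ s : F → G, (∀ u, s u ∈ T') ∧ ∀ u w, u ≠ w → (s u)⁻¹ * s w ∉ Q

theorem Pair.symm {Q S T' : Subgroup G} (P : Pair Q S T' F) : Pair Q T' S F := by
  refine ⟨P.gen', P.gen, ?_, P.repT, P.repS⟩
  obtain ⟨g, rfl⟩ := P.conj
  refine ⟨g⁻¹, ?_⟩
  ext x
  simp [mem_cj, mul_assoc]

theorem Coords.pair {Q S T' : Subgroup G} {f : G →* Matrix.ProjectiveSpecialLinearGroup (Fin 2) F}
    (C : Coords p F Q S T' f) : Pair Q S T' F := by
  refine ⟨C.gen, C.gen', C.conj, ?_, ?_⟩
  · choose s hs hfs using fun u : F => C.exists_s u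
    refine ⟨s, hs, fun u w hne h => hne (uu_injective ?_)⟩
    have h1 := MonoidHom.mem_ker.mp (C.Q_ker h)
    rwa [map_mul, map_inv, hfs, hfs, inv_mul_eq_one] at h1
  · choose s hs hfs using fun u : F => C.exists_l u
    refine ⟨s, hs, fun u w hne h => hne (vv_injective ?_)⟩
    have h1 := MonoidHom.mem_ker.mp (C.Q_ker h)
    rwa [map_mul, map_inv, hfs, hfs, inv_mul_eq_one] at h1

namespace Md

variable {Q S T' : Subgroup G} {A B : AddSubgroup M} {q : ℕ}

theorem symm (hM : Md Q S T' ε A B q) : Md Q T' S ε B A q :=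
  ⟨fun m => let ⟨a, ha, b, hb, h⟩ := hM.sup m; ⟨b, hb, a, ha, by rw [add_comm, h]⟩, hM.fixB, hM.moveB, hM.fixA,
    hM.moveA, hM.cardB, hM.cardA, hM.trivQ, hM.nontriv⟩

theorem pow_fix (hM : Md Q S T' ε A B q) {t : G} (ht : t ∈ T') (m : M) :
    ∀ n : ℕ, ε (t ^ n) m = m + n • (ε t m - m) := by
  intro n
  induction n with
  | zero => rw [pow_zero, end_one_apply, zero_smul, add_zero]
  | succ n ih =>
    rw [pow_succ', end_mul_apply, ih, map_add, map_nsmul, hM.fixB t ht _ (hM.moveB t ht m), succ_nsmul]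
    abel

theorem inv_mul_apply (hM : Md Q S T' ε A B q) {x y : G} (hx : x ∈ T') (hy : y ∈ T') (m : M) :
    ε (x⁻¹ * y) m - m = (ε y m - m) - (ε x m - m) := by
  have h : ε x (m + ((ε y m - m) - (ε x m - m))) = ε y m := by
    rw [map_add, map_sub, hM.fixB x hx _ (hM.moveB y hy m), hM.fixB x hx _ (hM.moveB x hx m)]
    abel
  have h' := congrArg (ε x⁻¹) h
  rw [end_inv_apply] at h'
  rw [end_mul_apply, ← h']
  abel

theorem mul_apply (hM : Md Q S T' ε A B q) {x y : G} (hx : x ∈ T') (hy : y ∈ T') (m : M) :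
    ε (x * y) m - m = (ε x m - m) + (ε y m - m) := by
  rw [end_mul_apply]
  conv_lhs => rw [show ε y m = m + (ε y m - m) by abel, map_add, hM.fixB x hx _ (hM.moveB y hy m)]
  abel

section

variable [Fintype F] (P : Pair Q S T' F) (hM : Md Q S T' ε A B (Fintype.card F))
include P hM

theorem exists_mem : ∃ x ∈ S, x ∉ Q := by
  classical
  obtain ⟨s, hs, hne⟩ := P.repS
  obtain ⟨u, w, huw⟩ := exists_pair_ne F
  exact ⟨_, S.mul_mem (S.inv_mem (hs u)) (hs w), hne u w huw⟩

theorem gen_top : S ⊔ T' = ⊤ := by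
  obtain ⟨x, hx, hxQ⟩ := exists_mem P hM
  exact top_le_iff.mp ((P.gen x hx hxQ).ge.trans
    (sup_le_sup_right ((Subgroup.closure_le _).mpr (Set.singleton_subset_iff.mpr hx)) _))

theorem fixed_all {m : M} (h1 : ∀ s ∈ S, ε s m = m) (h2 : ∀ t ∈ T', ε t m = m) (g : G) : ε g m = m := by
  have : (⊤ : Subgroup G) ≤ fixer ε m := (gen_top P hM).ge.trans (sup_le h1 h2)
  exact this (mem_top g)

theorem trivial_of_fix_T (hT : ∀ t ∈ T', ∀ m, ε t m = m) : False := by
  obtain ⟨g₀, hg₀⟩ := P.conj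
  obtain ⟨g, m, hgm⟩ := hM.nontriv
  refine hgm (fixed_all P hM (fun s hs => ?_) (fun t ht => hT t ht m) g)
  have e : s = g₀⁻¹ * (g₀ * s * g₀⁻¹) * g₀ := by group
  have hT' : g₀ * s * g₀⁻¹ ∈ T' := by rw [hg₀]; exact conj_mem_cj hs
  rw [e, end_mul_apply, end_mul_apply, hT _ hT', end_inv_apply]

variable [Finite M]

theorem no_common {b : M} (hb : b ∈ B) (hfix : ∀ g, ε g b = b) : b = 0 := by
  classical
  by_contra hb0
  set X : AddSubgroup M :=
    { carrier := {m | ∀ g, ε g m = m}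
      zero_mem' := fun g => map_zero _
      add_mem' := fun {x y} hx hy g => by rw [map_add, hx g, hy g]
      neg_mem' := fun {x} hx g => by rw [map_neg, hx g] } with hX
  obtain ⟨g₀, hg₀⟩ := P.conj
  obtain ⟨l, hl, hlne⟩ := P.repT
  have hA : ∀ a ∈ A, a ∈ X := by
    intro a ha
    set D := X.addSubgroupOf B with hD
    obtain ⟨t, ht, htQ, htX⟩ : ∃ t ∈ T', t ∉ Q ∧ ε t a - a ∈ X := by
      by_contra hno
      push Not at hno
      let χ : F → B ⧸ D := fun u => QuotientAddGroup.mk (⟨ε (l u) a - a, hM.moveB _ (hl u) a⟩ : B)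
      have hinj : Function.Injective χ := by
        intro u w h
        by_contra hne
        rw [QuotientAddGroup.eq, hD, AddSubgroup.mem_addSubgroupOf] at h
        refine hno _ (T'.mul_mem (T'.inv_mem (hl u)) (hl w)) (hlne u w hne) ?_
        rw [inv_mul_apply hM (hl u) (hl w), sub_eq_add_neg, add_comm]
        exact h
      have h1 : Fintype.card F ≤ Nat.card (B ⧸ D) := by
        have := Nat.card_le_card_of_injective χ hinj
        rwa [Nat.card_eq_fintype_card] at this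
      have h2 : 2 ≤ Nat.card D := by
        haveI : Nontrivial D := ⟨⟨0, ⟨⟨b, hb⟩, by rw [hD, AddSubgroup.mem_addSubgroupOf]; exact hfix⟩, fun h =>
          hb0 (congrArg (fun z : D => ((z : B) : M)) h).symm⟩⟩
        exact Finite.one_lt_card
      have h3 := AddSubgroup.card_eq_card_quotient_mul_card_addSubgroup D
      have h4 := hM.cardB
      have h5 : 0 < Fintype.card F := Fintype.card_pos
      rw [h3] at h4
      have := Nat.mul_le_mul h1 h2
      omega
    let L : Subgroup G :=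
      { carrier := {h | ε h a - a ∈ X}
        one_mem' := by
          show ε 1 a - a ∈ X
          rw [end_one_apply, sub_self]; exact X.zero_mem
        mul_mem' := fun {x y} hx hy => by
          show ε (x * y) a - a ∈ X
          have e : ε (x * y) a - a = (ε y a - a) + (ε x a - a) := by
            rw [end_mul_apply]
            conv_lhs => rw [show ε y a = (ε y a - a) + a by abel, map_add, hy x]
            abel
          rw [e]; exact X.add_mem hy hx
        inv_mem' := fun {x} hx => by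
          show ε x⁻¹ a - a ∈ X
          have h1 : ε x⁻¹ (ε x a - a) = ε x a - a := hx x⁻¹
          rw [map_sub, end_inv_apply] at h1
          rw [← neg_sub, h1]; exact X.neg_mem hx }
    have hL : (⊤ : Subgroup G) ≤ L := (P.gen' t ht htQ).ge.trans
      (sup_le ((Subgroup.closure_le _).mpr (Set.singleton_subset_iff.mpr htX)) fun s hs => by
        show ε s a - a ∈ X
        rw [hM.fixA s hs a ha, sub_self]; exact X.zero_mem)
    refine fun g => fixed_all P hM (fun s hs => hM.fixA s hs a ha) (fun t' ht' => ?_) g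
    rw [hg₀] at ht'
    have hs := mem_cj.mp ht'
    set s := g₀⁻¹ * t' * g₀ with hsdef
    have e : t' = g₀ * s * g₀⁻¹ := by rw [hsdef]; group
    have hdX : ∀ k, ε k (ε g₀⁻¹ a - a) = ε g₀⁻¹ a - a := hL (mem_top g₀⁻¹)
    set d := ε g₀⁻¹ a - a with hd
    rw [e, end_mul_apply, end_mul_apply, show ε g₀⁻¹ a = d + a by rw [hd]; abel, map_add, hM.fixA s hs a ha, hdX s,
      show d + a = ε g₀⁻¹ a by rw [hd]; abel, end_inv_apply']
  refine trivial_of_fix_T P hM fun t ht m => ?_
  obtain ⟨a, ha, b', hb', rfl⟩ := hM.sup m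
  rw [map_add, hA a ha t, hM.fixB t ht b' hb']

/-- Elements outside `Q` move every nonzero element of `B`. -/
theorem free_B {s : G} (hs : s ∈ S) (hsQ : s ∉ Q) {b : M} (hb : b ∈ B) (hfix : ε s b = b) : b = 0 := by
  refine no_common P hM hb fun g => ?_
  have h : (⊤ : Subgroup G) ≤ fixer ε b := (P.gen s hs hsQ).ge.trans
    (sup_le ((Subgroup.closure_le _).mpr (Set.singleton_subset_iff.mpr hfix)) fun t ht => hM.fixB t ht b hb)
  exact h (mem_top g)

theorem free_A {t : G} (ht : t ∈ T') (htQ : t ∉ Q) {a : M} (ha : a ∈ A) (hfix : ε t a = a) : a = 0 :=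
  free_B P.symm hM.symm ht htQ ha hfix

theorem inf_eq {m : M} (ha : m ∈ A) (hb : m ∈ B) : m = 0 :=
  no_common P hM hb (fixed_all P hM (fun s hs => hM.fixA s hs m ha) (fun t ht => hM.fixB t ht m hb))

theorem decomp_unique {a a' b b' : M} (ha : a ∈ A) (ha' : a' ∈ A) (hb : b ∈ B) (hb' : b' ∈ B)
    (h : a + b = a' + b') : a = a' ∧ b = b' := by
  have h1 : a - a' = b' - b := by rw [sub_eq_sub_iff_add_eq_add, h, add_comm]
  have h2 := inf_eq P hM (A.sub_mem ha ha') (h1 ▸ B.sub_mem hb' hb)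
  exact ⟨sub_eq_zero.mp h2, (sub_eq_zero.mp (h1.symm.trans h2)).symm⟩

theorem mem_A_of_fixed {s : G} (hs : s ∈ S) (hsQ : s ∉ Q) {m : M} (hfix : ε s m = m) : m ∈ A := by
  obtain ⟨a, ha, b, hb, rfl⟩ := hM.sup m
  rw [map_add, hM.fixA s hs a ha] at hfix
  rw [free_B P hM hs hsQ hb (add_left_cancel hfix), add_zero]
  exact ha

theorem mem_B_of_fixed {t : G} (ht : t ∈ T') (htQ : t ∉ Q) {m : M} (hfix : ε t m = m) : m ∈ B :=
  mem_A_of_fixed P.symm hM.symm ht htQ hfix

theorem exists_ne_zero : ∃ b ∈ B, b ≠ 0 := by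
  by_contra h
  push Not at h
  exact trivial_of_fix_T P hM fun t ht m => sub_eq_zero.mp (h _ (hM.moveB t ht m))

/-- The translations of a nonzero element of `B` fill `A`. -/
theorem surj_A {b : M} (hb : b ∈ B) (hb0 : b ≠ 0) {a : M} (ha : a ∈ A) : ∃ s ∈ S, ε s b - b = a := by
  classical
  obtain ⟨s, hs, hsne⟩ := P.repS
  let φ : F → A := fun u => ⟨ε (s u) b - b, hM.moveA _ (hs u) b⟩
  have hinj : Function.Injective φ := by
    intro u w h
    by_contra hne
    refine hb0 (free_B P hM (S.mul_mem (S.inv_mem (hs u)) (hs w)) (hsne u w hne) hb ?_)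
    rw [← sub_eq_zero, inv_mul_apply hM.symm (hs u) (hs w), sub_eq_zero]
    exact (congrArg Subtype.val h).symm
  haveI := Fintype.ofFinite A
  have hbij : Function.Bijective φ := by
    refine (Fintype.bijective_iff_injective_and_card φ).mpr ⟨hinj, le_antisymm (Fintype.card_le_of_injective φ hinj) ?_⟩
    have := hM.cardA
    rwa [Nat.card_eq_fintype_card] at this
  obtain ⟨u, hu⟩ := hbij.2 ⟨a, ha⟩
  exact ⟨s u, hs u, congrArg Subtype.val hu⟩

theorem surj_B {a : M} (ha : a ∈ A) (ha0 : a ≠ 0) {b : M} (hb : b ∈ B) : ∃ t ∈ T', ε t a - a = b :=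
  surj_A P.symm hM.symm ha ha0 hb

theorem card_A : Nat.card A = Fintype.card F := by
  classical
  refine le_antisymm hM.cardA ?_
  obtain ⟨b, hb, hb0⟩ := exists_ne_zero P hM
  obtain ⟨s, hs, hsne⟩ := P.repS
  let φ : F → A := fun u => ⟨ε (s u) b - b, hM.moveA _ (hs u) b⟩
  have hinj : Function.Injective φ := by
    intro u w h
    by_contra hne
    refine hb0 (free_B P hM (S.mul_mem (S.inv_mem (hs u)) (hs w)) (hsne u w hne) hb ?_)
    rw [← sub_eq_zero, inv_mul_apply hM.symm (hs u) (hs w), sub_eq_zero]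
    exact (congrArg Subtype.val h).symm
  have := Nat.card_le_card_of_injective φ hinj
  rwa [Nat.card_eq_fintype_card] at this

theorem card_B : Nat.card B = Fintype.card F := card_A P.symm hM.symm

theorem map_A_eq_B {g₀ : G} (hg₀ : T' = cj g₀ S) {a : M} (ha : a ∈ A) : ε g₀ a ∈ B := by
  obtain ⟨x, hx, hxQ⟩ := exists_mem P.symm hM.symm
  have hs : g₀⁻¹ * x * g₀ ∈ S := mem_cj.mp (hg₀ ▸ hx)
  refine mem_B_of_fixed P hM hx hxQ ?_
  have e : x = g₀ * (g₀⁻¹ * x * g₀) * g₀⁻¹ := by group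
  rw [e, end_mul_apply, end_mul_apply, end_inv_apply, hM.fixA _ hs a ha]

theorem p_smul_B {p : ℕ} (hexp : ∀ t ∈ T', t ^ p ∈ Q) {b : M} (hb : b ∈ B) : p • b = 0 := by
  obtain ⟨a₀, ha₀, ha₀0⟩ := exists_ne_zero P.symm hM.symm
  obtain ⟨t, ht, rfl⟩ := surj_B P hM ha₀ ha₀0 hb
  have h := hM.pow_fix ht a₀ p
  rw [hM.trivQ _ (hexp t ht)] at h
  exact add_eq_left.mp (show a₀ + p • (ε t a₀ - a₀) = a₀ from h.symm)

end

end Md

end CfsgLib.PushUp
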