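import Mathlib
import Cfsg.Agent.Lib.PushUp.Recognition
import Cfsg.Agent.Lib.CoprimeGen

/-!
The kernel of the projection to `PSL₂(q)` commutes with the root groups on the module.
-/

set_option autoImplicit false
set_option linter.unusedSectionVars false

namespace CfsgLib.PushUp

open Subgroup CfsgLib.PSL2

universe u v

variable {G : Type u} [Group G] {p : ℕ} {F : Type} [Field F]
variable {M : Type v} [AddCommGroup M] {ε : G →* AddMonoid.End M}
variable {Q S T' : Subgroup G} {A B : AddSubgroup M}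

theorem end_units_finite [Finite M] : Finite (AddMonoid.End M)ˣ := by
  haveI : Finite (AddMonoid.End M) :=
    Finite.of_injective (fun f : AddMonoid.End M => (f : M → M)) DFunLike.coe_injective
  infer_instance

namespace Md

variable [Finite G] [Finite M] [Fintype F] [Fact p.Prime]
variable {f : G →* Matrix.ProjectiveSpecialLinearGroup (Fin 2) F}
variable (C : Coords p F Q S T' f) (hM : Md Q S T' ε A B (Fintype.card F))
include C hM

theorem ker_preserves [CharP F p] {k : G} (hk : k ∈ f.ker) {a : M} (ha : a ∈ A) : ε k a ∈ A := by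
  classical
  haveI : Finite (AddMonoid.End M)ˣ := end_units_finite
  set εu : G →* (AddMonoid.End M)ˣ := ε.toHomUnits with hεu
  have hval : ∀ x : G, ((εu x : (AddMonoid.End M)ˣ) : AddMonoid.End M) = ε x := fun x => rfl
  set Sb := S.map εu with hSb
  set Kb := f.ker.map εu with hKb
  have hP := C.pair
  obtain ⟨n, -, hn⟩ := FiniteField.card F p
  haveI hSc : IsMulCommutative ↥Sb := ⟨⟨by
    rintro ⟨_, x, hx, rfl⟩ ⟨_, y, hy, rfl⟩
    refine Subtype.ext ?_
    show εu x * εu y = εu y * εu x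
    rw [← map_mul, ← map_mul]
    refine Units.ext ?_
    rw [hval, hval, show x * y = x * y * x⁻¹ * y⁻¹ * (y * x) by group, map_mul, hM.trivQ _ (C.comm x hx y hy),
      one_mul]⟩⟩
  have hexpS : ∀ u ∈ Sb, u ^ p = 1 := by
    rintro _ ⟨x, hx, rfl⟩
    rw [← map_pow]
    exact Units.ext (hM.trivQ _ (C.exp x hx))
  have hcardS : Nat.card Sb = Fintype.card F := by
    obtain ⟨b, hb, hb0⟩ := exists_ne_zero hP hM
    let φ : Sb → A := fun u => ⟨((u : (AddMonoid.End M)ˣ) : AddMonoid.End M) b - b, by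
      obtain ⟨x, hx, he⟩ := u.2
      rw [← he, hval]; exact hM.moveA x hx b⟩
    refine le_antisymm ?_ ?_
    · rw [← card_A hP hM]
      refine Nat.card_le_card_of_injective φ ?_
      rintro ⟨_, x, hx, rfl⟩ ⟨_, y, hy, rfl⟩ h
      have h1 : ε x b - b = ε y b - b := congrArg Subtype.val h
      by_cases hQ : x⁻¹ * y ∈ Q
      · refine Subtype.ext ?_
        show εu x = εu y
        have h2 : εu (x⁻¹ * y) = 1 := Units.ext (hM.trivQ _ hQ)
        rwa [map_mul, map_inv, inv_mul_eq_one] at h2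
      · exfalso
        refine hb0 (free_B hP hM (S.mul_mem (S.inv_mem hx) hy) hQ hb ?_)
        rw [← sub_eq_zero, inv_mul_apply hM.symm hx hy, h1, sub_self]
    · rw [← card_A hP hM]
      refine Nat.card_le_card_of_surjective φ ?_
      rintro ⟨a', ha'⟩
      obtain ⟨x, hx, he⟩ := surj_A hP hM hb hb0 ha'
      exact ⟨⟨εu x, x, hx, rfl⟩, Subtype.ext he⟩
  have hKp : ¬ p ∣ Nat.card Kb := by
    intro hd
    obtain ⟨⟨u, k', hk', hu⟩, hord⟩ := exists_prime_orderOf_dvd_card' p hd
    rw [← orderOf_injective _ Kb.subtype_injective] at hord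
    change orderOf u = p at hord
    obtain ⟨e, m, hm, hkm⟩ := Nat.exists_eq_pow_mul_and_not_dvd (orderOf_pos k').ne' p (Fact.out : p.Prime).ne_one
    have hp1 : (k' ^ m) ^ p ^ e = 1 := by rw [← pow_mul, mul_comm, ← hkm, pow_orderOf_eq_one]
    have hQ := C.ker_p _ (f.ker.pow_mem hk' m) ⟨e, hp1⟩
    have h1 : u ^ m = 1 := by rw [← hu, ← map_pow]; exact Units.ext (hM.trivQ _ hQ)
    exact hm (hord ▸ orderOf_dvd_of_pow_eq_one h1)
  set Stab : Subgroup (AddMonoid.End M)ˣ :=
    { carrier := {u | ∀ x ∈ A, (u : AddMonoid.End M) x ∈ A ∧ ((u⁻¹ : (AddMonoid.End M)ˣ) : AddMonoid.End M) x ∈ A}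
      one_mem' := fun x hx => by simp [hx]
      mul_mem' := fun {u w} hu hw x hx => by
        refine ⟨(hu _ (hw x hx).1).1, ?_⟩
        rw [mul_inv_rev]
        exact (hw _ (hu x hx).2).2
      inv_mem' := fun {u} hu x hx => by rw [inv_inv]; exact (hu x hx).symm } with hStab
  suffices h : εu k ∈ Stab from (h a ha).1
  by_cases hnp : (n : ℕ) = 1
  · -- prime field: lines
    rw [hnp, pow_one] at hn
    have hkey : ∀ k' ∈ f.ker, ∀ a' ∈ A, ε k' a' ∈ A := by
      intro k' hk' a' ha'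
      obtain ⟨x, hx, y, hy, hxy⟩ := hM.sup (ε k' a')
      by_cases hy0 : y = 0
      · rw [← hxy, hy0, add_zero]; exact hx
      exfalso
      obtain ⟨s, hs, hse⟩ := surj_A hP hM hy hy0 (A.neg_mem hx)
      set c := s * k' with hc
      have hca : ε c a' = y := by
        rw [hc, end_mul_apply, ← hxy, map_add, hM.fixA s hs x hx, ← sub_add_cancel (ε s y) y, hse]
        abel
      have ha'0 : a' ≠ 0 := fun h => hy0 (by rw [← hca, h, map_zero])
      have hcardA : Nat.card A = p := by rw [card_A hP hM, hn]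
      have hgenA : ∀ z ∈ A, ∃ i : ℤ, i • a' = z := by
        intro z hz
        have h0 : (⟨a', ha'⟩ : A) ≠ 0 := fun h => ha'0 (congrArg Subtype.val h)
        have := mem_zmultiples_of_prime_card hcardA h0 (g' := (⟨z, hz⟩ : A))
        obtain ⟨i, hi⟩ := AddSubgroup.mem_zmultiples_iff.mp this
        exact ⟨i, congrArg Subtype.val hi⟩
      have hgenB : ∀ z ∈ B, ∃ i : ℤ, i • y = z := by
        intro z hz
        have h0 : (⟨y, hy⟩ : B) ≠ 0 := fun h => hy0 (congrArg Subtype.val h)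
        have := mem_zmultiples_of_prime_card (show Nat.card B = p by rw [card_B hP hM, hn]) h0 (g' := (⟨z, hz⟩ : B))
        obtain ⟨i, hi⟩ := AddSubgroup.mem_zmultiples_iff.mp this
        exact ⟨i, congrArg Subtype.val hi⟩
      -- `c` carries `A` onto `B`
      have hcA : ∀ z ∈ A, ε c z ∈ B := fun z hz => by
        obtain ⟨i, rfl⟩ := hgenA z hz
        rw [map_zsmul, hca]; exact B.zsmul_mem hy i
      have hcB : ∀ z ∈ B, ε c⁻¹ z ∈ A := fun z hz => by
        obtain ⟨i, rfl⟩ := hgenB z hz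
        rw [map_zsmul, ← hca, end_inv_apply]; exact A.zsmul_mem ha' i
      set L := ε.ker with hL
      haveI : L.Normal := MonoidHom.normal_ker ε
      have hLS : L ⊔ S ≠ ⊤ := by
        intro htop
        obtain ⟨t, ht, htQ⟩ := exists_mem hP.symm hM.symm
        obtain ⟨l, hl, s', hs', hls⟩ := Subgroup.mem_sup_of_normal_left.mp
          (show t ∈ L ⊔ S by rw [htop]; exact mem_top t)
        refine ha'0 (free_A hP hM ht htQ ha' ?_)
        rw [← hls, map_mul, MonoidHom.mem_ker.mp hl, one_mul, hM.fixA s' hs' a' ha']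
      refine C.notTop L inferInstance hLS ?_
      obtain ⟨w, hw, hwQ⟩ := exists_mem hP hM
      refine top_le_iff.mp ((C.gen w hw hwQ).ge.trans (sup_le
        ((Subgroup.closure_le _).mpr (Set.singleton_subset_iff.mpr (mem_sup_right hw))) fun t ht => ?_))
      -- `t` agrees on the module with a conjugate of an element of `S`
      obtain ⟨a₀, ha₀, ha₀0⟩ := exists_ne_zero hP.symm hM.symm
      have hb' : ε c⁻¹ (ε t a₀ - a₀) ∈ A := hcB _ (hM.moveB t ht a₀)
      obtain ⟨u₀, v₀, hu₀, hv₀, hsum⟩ : ∃ u₀ v₀, u₀ ∈ A ∧ v₀ ∈ B ∧ u₀ + v₀ = ε c⁻¹ a₀ :=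
        let ⟨u₀, hu₀, v₀, hv₀, h⟩ := hM.sup (ε c⁻¹ a₀); ⟨u₀, v₀, hu₀, hv₀, h⟩
      have hv00 : v₀ ≠ 0 := by
        intro h
        refine ha₀0 (inf_eq hP hM ha₀ ?_)
        have := hcA _ hu₀
        rwa [show u₀ = ε c⁻¹ a₀ by rw [← hsum, h, add_zero], end_inv_apply'] at this
      obtain ⟨s₁, hs₁, hs₁e⟩ := surj_A hP hM hv₀ hv00 hb'
      set z := c * s₁ * c⁻¹ with hz
      have hzB : ∀ b ∈ B, ε z b = b := fun b hb => by
        rw [hz, end_mul_apply, end_mul_apply, hM.fixA s₁ hs₁ _ (hcB b hb), end_inv_apply']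
      have hzmove : ∀ m, ε z m - m ∈ B := fun m => by
        have e : ε z m - m = ε c (ε s₁ (ε c⁻¹ m) - ε c⁻¹ m) := by
          rw [hz, end_mul_apply, end_mul_apply, map_sub, end_inv_apply']
        rw [e]; exact hcA _ (hM.moveA s₁ hs₁ _)
      have hz0 : ε z a₀ = ε t a₀ := by
        rw [hz, end_mul_apply, end_mul_apply, ← hsum, map_add, hM.fixA s₁ hs₁ u₀ hu₀,
          ← sub_add_cancel (ε s₁ v₀) v₀, hs₁e, add_left_comm, hsum, map_add, end_inv_apply', end_inv_apply']
        abel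
      have heq : ∀ m, ε (z⁻¹ * t) m = m := by
        intro m
        obtain ⟨x', hx', y', hy', rfl⟩ := hM.sup m
        have hx'' : ε z x' = ε t x' := by
          obtain ⟨i, rfl⟩ := hgenA x' hx'
          obtain ⟨j, hj⟩ := hgenA a₀ ha₀
          have hne : ¬ (p : ℤ) ∣ j := by
            rintro ⟨r, rfl⟩
            refine ha₀0 ?_
            rw [← hj, mul_smul, natCast_zsmul, p_smul_B hP.symm hM.symm C.exp (A.zsmul_mem ha' r)]
          obtain ⟨r, r', hr⟩ := ((Nat.prime_iff_prime_int.mp (Fact.out : p.Prime)).coprime_iff_not_dvd.mpr hne)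
          have e : a' = r' • a₀ := by
            have h1 : (r * (p : ℤ) + r' * j) • a' = a' := by rw [hr, one_smul]
            rw [add_smul, mul_smul, natCast_zsmul, p_smul_B hP.symm hM.symm C.exp ha', smul_zero, zero_add,
              mul_smul, hj] at h1
            exact h1.symm
          simp only [e, map_zsmul, hz0]
        rw [map_add, end_mul_apply, end_mul_apply, hM.fixB t ht y' hy', ← hx'', end_inv_apply]
        conv_lhs => rw [← hzB y' hy', end_inv_apply]
      have ht' : z⁻¹ * t ∈ L := by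
        rw [hL, MonoidHom.mem_ker]; exact AddMonoidHom.ext heq
      have hzm : z ∈ L ⊔ f.ker ⊔ S := by
        have hsm : s ∈ L ⊔ f.ker ⊔ S := mem_sup_right hs
        have hkm : k' ∈ L ⊔ f.ker ⊔ S := mem_sup_left (mem_sup_right hk')
        rw [hz, hc]
        exact mul_mem (mul_mem (mul_mem hsm hkm) (mem_sup_right hs₁)) (inv_mem (mul_mem hsm hkm))
      rw [show t = z * (z⁻¹ * t) by group]
      exact mul_mem hzm (mem_sup_left (mem_sup_left ht'))
    exact fun x hx => ⟨hkey k hk x hx, by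
      rw [← map_inv, hval]; exact hkey k⁻¹ (inv_mem hk) x hx⟩
  · -- larger fields: coprime generation
    have hncyc : ¬ IsCyclic ↥Sb := by
      intro hcyc
      obtain ⟨g, hg⟩ := IsCyclic.exists_generator (α := ↥Sb)
      have h1 : orderOf g = Nat.card ↥Sb := orderOf_eq_card_of_forall_mem_zpowers hg
      have h2 : orderOf g ∣ p := orderOf_dvd_of_pow_eq_one (Subtype.ext (hexpS _ g.2))
      rw [h1, hcardS, hn] at h2
      have h3 : p ^ (n : ℕ) ≤ p ^ 1 := by rw [pow_one]; exact Nat.le_of_dvd (Fact.out : p.Prime).pos h2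
      have := (Nat.pow_le_pow_iff_right (Fact.out : p.Prime).one_lt).mp h3
      have := n.pos
      omega
    have hnorm : Sb ≤ Subgroup.normalizer (Kb : Set (AddMonoid.End M)ˣ) := by
      refine le_trans ?_ (Subgroup.le_normalizer_map εu)
      refine Subgroup.map_mono ?_
      rw [Subgroup.normalizer_eq_top]; exact le_top
    have hcop : (Nat.card Sb).Coprime (Nat.card Kb) := by
      rw [hcardS, hn]; exact Nat.Coprime.pow_left _ ((Fact.out : p.Prime).coprime_iff_not_dvd.mpr hKp)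
    have hgen := CfsgLib.coprime_generated_by_centralizers hncyc hnorm hcop
    refine (hgen.ge.trans (iSup₂_le fun w hw => ?_)) ⟨k, hk, rfl⟩
    obtain ⟨⟨x, hx, rfl⟩, hne⟩ := hw
    have hxQ : x ∉ Q := fun h => hne (Units.ext (hM.trivQ x h))
    rintro u ⟨-, hu⟩
    replace hu : u * εu x = εu x * u := Subgroup.mem_centralizer_singleton_iff.mp hu
    intro z hz
    constructor
    · refine mem_A_of_fixed hP hM hx hxQ ?_
      show (((εu x : (AddMonoid.End M)ˣ) : AddMonoid.End M) * (u : AddMonoid.End M)) z = _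
      rw [← Units.val_mul, ← hu, Units.val_mul]
      show (u : AddMonoid.End M) (ε x z) = _
      rw [hM.fixA x hx z hz]
    · refine mem_A_of_fixed hP hM hx hxQ ?_
      have hu' : εu x * u⁻¹ = u⁻¹ * εu x := (Commute.inv_left (show Commute u (εu x) from hu)).symm.eq
      show (((εu x : (AddMonoid.End M)ˣ) : AddMonoid.End M) * ((u⁻¹ : (AddMonoid.End M)ˣ) : AddMonoid.End M)) z = _
      rw [← Units.val_mul, hu', Units.val_mul]
      show ((u⁻¹ : (AddMonoid.End M)ˣ) : AddMonoid.End M) (ε x z) = _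
      rw [hM.fixA x hx z hz]

theorem ker_comm_S [CharP F p] {k s : G} (hk : k ∈ f.ker) (hs : s ∈ S) : ε (k * s) = ε (s * k) := by
  classical
  have hP := C.pair
  have hker : ∀ j ∈ f.ker, ∀ z ∈ A, ε j z ∈ A := fun j hj z hz => ker_preserves C hM hj hz
  set c := k * s * k⁻¹ * s⁻¹ with hc
  have hcker : c ∈ f.ker := by
    rw [hc, show k * s * k⁻¹ * s⁻¹ = k * (s * k⁻¹ * s⁻¹) by group]
    exact mul_mem hk ((MonoidHom.normal_ker f).conj_mem _ (inv_mem hk) s)
  have hfix : ∀ z ∈ A, ε c z = z := fun z hz => by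
    rw [hc, end_mul_apply, end_mul_apply, end_mul_apply, hM.fixA _ (S.inv_mem hs) z hz,
      hM.fixA s hs _ (hker _ (inv_mem hk) z hz), end_inv_apply']
  have hmove : ∀ m, ε c m - m ∈ A := fun m => by
    set m₁ := ε s⁻¹ m with hm₁
    have e : ε c m - m = ε k (ε s (ε k⁻¹ m₁) - ε k⁻¹ m₁) + (m₁ - m) := by
      rw [hc, end_mul_apply, end_mul_apply, end_mul_apply, map_sub, end_inv_apply' (ε := ε) k m₁]
      abel
    rw [e]
    exact A.add_mem (hker k hk _ (hM.moveA s hs _)) (hM.moveA _ (S.inv_mem hs) m)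
  have hcp : ε (c ^ p) = 1 := by
    refine AddMonoidHom.ext fun m => ?_
    have : ∀ i : ℕ, ε (c ^ i) m = m + i • (ε c m - m) := by
      intro i
      induction i with
      | zero => rw [pow_zero, end_one_apply, zero_smul, add_zero]
      | succ i ih =>
        rw [pow_succ', end_mul_apply, ih, map_add, map_nsmul, hfix _ (hmove m), succ_nsmul]
        abel
    refine (this p).trans ?_
    rw [p_smul_B hP.symm hM.symm C.exp (hmove m), add_zero]
    rfl
  obtain ⟨e, m, hm, hcm⟩ := Nat.exists_eq_pow_mul_and_not_dvd (orderOf_pos c).ne' p (Fact.out : p.Prime).ne_one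
  have hQ := C.ker_p _ (f.ker.pow_mem hcker m) ⟨e, by rw [← pow_mul, mul_comm, ← hcm, pow_orderOf_eq_one]⟩
  have h1 : orderOf (ε c) ∣ Nat.gcd p m := Nat.dvd_gcd
    (orderOf_dvd_of_pow_eq_one (by rw [← map_pow]; exact hcp))
    (orderOf_dvd_of_pow_eq_one (by rw [← map_pow]; exact hM.trivQ _ hQ))
  rw [(Fact.out : p.Prime).coprime_iff_not_dvd.mpr hm, Nat.dvd_one, orderOf_eq_one_iff] at h1
  rw [show k * s = c * (s * k) by rw [hc]; group, map_mul, h1, one_mul]

theorem ker_comm_T [CharP F p] {k t : G} (hk : k ∈ f.ker) (ht : t ∈ T') : ε (k * t) = ε (t * k) := by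
  obtain ⟨g₀, hg₀⟩ := C.conj
  have hs : g₀⁻¹ * t * g₀ ∈ S := mem_cj.mp (hg₀ ▸ ht)
  have hk' : g₀⁻¹ * k * g₀ ∈ f.ker := by
    simpa using (MonoidHom.normal_ker f).conj_mem k hk g₀⁻¹
  have h := ker_comm_S C hM hk' hs
  calc ε (k * t) = ε g₀ * ε (g₀⁻¹ * k * g₀ * (g₀⁻¹ * t * g₀)) * ε g₀⁻¹ := by
        rw [← map_mul, ← map_mul]; congr 1; group
    _ = ε g₀ * ε (g₀⁻¹ * t * g₀ * (g₀⁻¹ * k * g₀)) * ε g₀⁻¹ := by rw [h]
    _ = _ := by rw [← map_mul, ← map_mul]; congr 1; group

end Md

end CfsgLib.PushUp
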