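import Mathlib
import Cfsg.Agent.Lib.PushUp.Kernel
import Cfsg.Agent.Lib.PushUp.Jordan

/-!
Coordinates: the module is the natural `SL₂(q)`-module.
-/

set_option autoImplicit false
set_option linter.unusedSectionVars false

namespace CfsgLib.PushUp

open Subgroup CfsgLib.PSL2 Matrix

universe u v

variable {G : Type u} [Group G] {p : ℕ} {F : Type} [Field F]
variable {M : Type v} [AddCommGroup M] {ε : G →* AddMonoid.End M}
variable {Q S T' : Subgroup G} {A B : AddSubgroup M}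

theorem mulVec_uSL (t : F) (x : Fin 2 → F) : (uSL t).1.mulVec x = ![x 0 + t * x 1, x 1] := by
  funext i
  fin_cases i <;> simp [coe_uSL, Matrix.mulVec, dotProduct, Fin.sum_univ_two]

theorem mulVec_vSL (t : F) (x : Fin 2 → F) : (vSL t).1.mulVec x = ![x 0, t * x 0 + x 1] := by
  funext i
  fin_cases i <;> simp [coe_vSL, Matrix.mulVec, dotProduct, Fin.sum_univ_two]

theorem sl_eq_of_mulVec {g h : Matrix.SpecialLinearGroup (Fin 2) F} (H : ∀ x, g.1.mulVec x = h.1.mulVec x) :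
    g = h := by
  refine Subtype.ext (Matrix.ext fun i j => ?_)
  have := congrFun (H (Pi.single j 1)) i
  simpa using this

theorem sl_top_of_transvections {H : Subgroup (Matrix.SpecialLinearGroup (Fin 2) F)}
    (hu : ∀ t, uSL t ∈ H) (hv : ∀ t, vSL t ∈ H) : H = ⊤ := by
  rw [eq_top_iff]
  intro A _
  refine SL2.transvection_induction (fun A => A ∈ H) (fun i j hij c => ?_) (fun A B => H.mul_mem) A
  fin_cases i <;> fin_cases j
  · exact absurd rfl hij
  · have e : uSL c = SpecialLinearGroup.transvection (zero_ne_one : (0 : Fin 2) ≠ 1) c := by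
      apply Subtype.ext
      show !![1, c; 0, 1] = 1 + Matrix.single 0 1 c
      ext a b; fin_cases a <;> fin_cases b <;> simp
    exact e ▸ hu c
  · have e : vSL c = SpecialLinearGroup.transvection (one_ne_zero : (1 : Fin 2) ≠ 0) c := by
      apply Subtype.ext
      show !![1, 0; c, 1] = 1 + Matrix.single 1 0 c
      ext a b; fin_cases a <;> fin_cases b <;> simp
    exact e ▸ hv c
  · exact absurd rfl hij

namespace Md

variable [Finite G] [Finite M] [Fintype F] [Fact p.Prime] [CharP F p]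
variable {f : G →* Matrix.ProjectiveSpecialLinearGroup (Fin 2) F}
variable (C : Coords p F Q S T' f) (hM : Md Q S T' ε A B (Fintype.card F))
include C hM

theorem eq_one_of_pow {k : G} (hk : k ∈ f.ker) (h : ε k ^ p = 1) : ε k = 1 := by
  obtain ⟨e, m, hm, hkm⟩ := Nat.exists_eq_pow_mul_and_not_dvd (orderOf_pos k).ne' p (Fact.out : p.Prime).ne_one
  have hQ := C.ker_p _ (f.ker.pow_mem hk m) ⟨e, by rw [← pow_mul, mul_comm, ← hkm, pow_orderOf_eq_one]⟩
  have h1 : orderOf (ε k) ∣ Nat.gcd p m := Nat.dvd_gcd (orderOf_dvd_of_pow_eq_one h)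
    (orderOf_dvd_of_pow_eq_one (by rw [← map_pow]; exact hM.trivQ _ hQ))
  rwa [(Fact.out : p.Prime).coprime_iff_not_dvd.mpr hm, Nat.dvd_one, orderOf_eq_one_iff] at h1

theorem eq_of_image_eq_S {x y : G} (hx : x ∈ S) (hy : y ∈ S) (h : f x = f y) : ε x = ε y := by
  have h1 : x⁻¹ * y ∈ Q := C.ker_S _ (S.mul_mem (S.inv_mem hx) hy) (by rw [map_mul, map_inv, h, inv_mul_cancel])
  rw [show y = x * (x⁻¹ * y) by group, map_mul, hM.trivQ _ h1, mul_one]

theorem eq_of_image_eq_T {x y : G} (hx : x ∈ T') (hy : y ∈ T') (h : f x = f y) : ε x = ε y := by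
  have h1 : x⁻¹ * y ∈ Q := C.ker_T _ (T'.mul_mem (T'.inv_mem hx) hy) (by rw [map_mul, map_inv, h, inv_mul_cancel])
  rw [show y = x * (x⁻¹ * y) by group, map_mul, hM.trivQ _ h1, mul_one]

/-- The coordinates and the representation. -/
theorem exists_natural :
    ∃ (Φ : (Fin 2 → F) ≃+ M) (ρ : G →* Matrix.SpecialLinearGroup (Fin 2) F), Function.Surjective ρ ∧
      (∀ g x, ε g (Φ x) = Φ ((ρ g).1.mulVec x)) ∧ (∀ s ∈ S, ∀ t, f s = uu t → ρ s = uSL t) ∧
      (∀ l ∈ T', ∀ t, f l = vv t → ρ l = vSL t) ∧ ∀ x, Φ x ∈ A ↔ x 1 = 0 := by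
  classical
  have hP := C.pair
  choose sP hsP hfsP using fun t : F => C.exists_s t
  choose lP hlP hflP using fun t : F => C.exists_l t
  let P : F → M → M := fun t m => ε (sP t) m - m
  let R : F → M → M := fun t m => ε (lP t) m - m
  have hPA : ∀ t m, P t m ∈ A := fun t m => hM.moveA _ (hsP t) m
  have hRB : ∀ t m, R t m ∈ B := fun t m => hM.moveB _ (hlP t) m
  have hsm : ∀ t m, ε (sP t) m = m + P t m := fun t m => by simp only [P]; abel
  have hlm : ∀ t m, ε (lP t) m = m + R t m := fun t m => by simp only [R]; abel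
  have hPadd : ∀ t w m, P (t + w) m = P t m + P w m := fun t w m => by
    show ε (sP (t + w)) m - m = _
    rw [eq_of_image_eq_S C hM (hsP (t + w)) (S.mul_mem (hsP t) (hsP w)) (by rw [map_mul, hfsP, hfsP, hfsP, uu_add]),
      mul_apply hM.symm (hsP t) (hsP w)]
  have hRadd : ∀ t w m, R (t + w) m = R t m + R w m := fun t w m => by
    show ε (lP (t + w)) m - m = _
    rw [eq_of_image_eq_T C hM (hlP (t + w)) (T'.mul_mem (hlP t) (hlP w)) (by rw [map_mul, hflP, hflP, hflP, vv_add]),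
      mul_apply hM (hlP t) (hlP w)]
  have hPmap : ∀ t m n, P t (m + n) = P t m + P t n := fun t m n => by simp only [P, map_add]; abel
  have hRmap : ∀ t m n, R t (m + n) = R t m + R t n := fun t m n => by simp only [R, map_add]; abel
  have hP0A : ∀ t, ∀ a ∈ A, P t a = 0 := fun t a ha => by simp only [P, hM.fixA _ (hsP t) a ha, sub_self]
  have hR0 : ∀ m, R 0 m = 0 := fun m => by
    have h := hRadd 0 0 m
    rw [add_zero] at h
    exact (add_eq_left.mp h.symm)
  have hRneg : ∀ t m, R (-t) m = -R t m := fun t m => by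
    rw [eq_neg_iff_add_eq_zero, ← hRadd, neg_add_cancel, hR0]
  have hPneg : ∀ t m, P t (-m) = -P t m := fun t m => by simp only [P, map_neg]; abel
  -- the Weyl elements
  let n : F → G := fun t => sP t * lP (-t⁻¹) * sP t
  have hconj : ∀ t : F, t ≠ 0 → ∀ x ∈ S, ∀ σ, f x = uu σ →
      ε (n t * x * (n t)⁻¹) = ε (lP (-(t⁻¹) ^ 2 * σ)) := by
    intro t ht x hx σ hxσ
    set y := lP (-(t⁻¹) ^ 2 * σ) with hy
    set k := n t * x * (n t)⁻¹ * y⁻¹ with hk
    have hker : k ∈ f.ker := by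
      rw [MonoidHom.mem_ker, hk, map_mul, map_mul, map_mul, map_inv, map_inv, hy, hflP, hxσ]
      simp only [n, map_mul, hfsP, hflP]
      rw [weyl_conj t σ ht, mul_inv_cancel]
    have hky : k * y = n t * x * (n t)⁻¹ := by rw [hk]; group
    have hcomm : Commute (ε k) (ε y) := by
      show ε k * ε y = ε y * ε k
      rw [← map_mul, ← map_mul]; exact ker_comm_T C hM hker (hlP _)
    have hp1 : ε (k * y) ^ p = 1 := by
      rw [hky, ← map_pow, conj_pow]
      exact hM.trivQ _ (C.normal.conj_mem _ (C.exp x hx) _)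
    have hp2 : ε y ^ p = 1 := by rw [← map_pow]; exact hM.trivQ _ (C.exp' y (hlP _))
    rw [map_mul, hcomm.mul_pow, hp2, mul_one] at hp1
    rw [← hky, map_mul, eq_one_of_pow C hM hker hp1, one_mul]
  have hnA : ∀ t : F, t ≠ 0 → ∀ a ∈ A, ε (n t) a ∈ B := by
    intro t ht a ha
    set y := lP (-(t⁻¹) ^ 2 * 1) with hy
    have hyQ : y ∉ Q := fun h => by
      have h1 := MonoidHom.mem_ker.mp (C.Q_ker h)
      rw [hy, hflP, ← vv_zero] at h1
      have := vv_injective h1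
      simp [ht] at this
    refine mem_B_of_fixed hP hM (hlP _) hyQ ?_
    rw [← hconj t ht (sP 1) (hsP 1) 1 (hfsP 1), end_mul_apply, end_mul_apply, end_inv_apply,
      hM.fixA _ (hsP 1) a ha]
  have hna : ∀ t : F, ∀ a ∈ A, ε (n t) a = (a + P t (R (-t⁻¹) a)) + R (-t⁻¹) a := by
    intro t a ha
    simp only [n, end_mul_apply, hM.fixA _ (hsP t) a ha, hlm, hsm, hPmap, hP0A t a ha]
    abel
  have E0 : ∀ t : F, t ≠ 0 → ∀ a ∈ A, a + P t (R (-t⁻¹) a) = 0 := by
    intro t ht a ha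
    have h1 := hnA t ht a ha
    rw [hna t a ha] at h1
    exact inf_eq hP hM (A.add_mem ha (hPA _ _)) ((B.add_mem_cancel_right (hRB _ _)).mp h1)
  have E1 : ∀ t : F, t ≠ 0 → ∀ a ∈ A, P t (R t⁻¹ a) = a := by
    intro t ht a ha
    have h := E0 t ht a ha
    rw [hRneg, hPneg, ← sub_eq_add_neg, sub_eq_zero] at h
    exact h.symm
  have hPinj : ∀ t : F, t ≠ 0 → ∀ b ∈ B, P t b = 0 → b = 0 := fun t ht b hb h =>
    free_B hP hM (hsP t) (fun hQ => uu_ne_one ht (hfsP t ▸ MonoidHom.mem_ker.mp (C.Q_ker hQ))) hb (sub_eq_zero.mp h)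
  have E1' : ∀ t : F, t ≠ 0 → ∀ b ∈ B, R t⁻¹ (P t b) = b := by
    intro t ht b hb
    refine sub_eq_zero.mp (hPinj t ht _ (B.sub_mem (hRB _ _) hb) ?_)
    rw [sub_eq_add_neg, hPmap, hPneg, E1 t ht _ (hPA t b), add_neg_cancel]
  have hn1A : ∀ a ∈ A, ε (n 1) a = -R 1 a := by
    intro a ha
    have h0 := E0 1 one_ne_zero a ha
    rw [hna 1 a ha, h0, zero_add, inv_one, hRneg]
  have hn1B : ∀ b ∈ B, ε (n 1) b = P 1 b := by
    intro b hb
    have hl : ε (lP (-1⁻¹)) b = b := hM.fixB _ (hlP _) b hb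
    have h1 : R 1 (P 1 b) = b := by simpa using E1' 1 one_ne_zero b hb
    have e : ε (lP (-1⁻¹)) (b + P 1 b) = P 1 b := by
      rw [map_add, hl, hlm, inv_one, hRneg, h1]
      abel
    calc ε (n 1) b = ε (sP 1) (ε (lP (-1⁻¹)) (ε (sP 1) b)) := by simp only [n, end_mul_apply]
      _ = ε (sP 1) (P 1 b) := by rw [hsm 1 b, e]
      _ = P 1 b := hM.fixA _ (hsP 1) _ (hPA 1 b)
  have E2 : ∀ σ : F, ∀ b ∈ B, R σ (P 1 b) = R 1 (P σ b) := by
    intro σ b hb
    have h := congrArg (fun e : AddMonoid.End M => e (ε (n 1) b)) (hconj 1 one_ne_zero (sP σ) (hsP σ) σ (hfsP σ))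
    simp only [end_mul_apply, end_inv_apply] at h
    rw [hsm, map_add, hn1B b hb, hn1A _ (hPA σ b), hlm, add_right_inj, inv_one, one_pow, neg_one_mul, hRneg,
      neg_inj] at h
    exact h.symm
  have E3 : ∀ t : F, ∀ a ∈ A, R t a = R 1 (P t (R 1 a)) := by
    intro t a ha
    have h1 : P 1 (R 1 a) = a := by simpa using E1 1 one_ne_zero a ha
    conv_lhs => rw [← h1]
    exact E2 t _ (hRB _ _)
  -- the field acting on `A`
  have hev : ∀ (u w : AddMonoid.End A) (a : A), (u + w) a = u a + w a := fun u w a => rfl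
  let ψ : F →+ AddMonoid.End A := AddMonoidHom.mk'
    (fun t => AddMonoidHom.mk' (fun a : A => (⟨P t (R 1 (a : M)), hPA _ _⟩ : A))
      (fun a b => Subtype.ext (by simp only [AddSubgroup.coe_add, hRmap, hPmap])))
    (fun t w => AddMonoidHom.ext fun a => Subtype.ext (hPadd t w _))
  have hψ : ∀ t (a : A), ((ψ t a : A) : M) = P t (R 1 (a : M)) := fun t a => rfl
  have h1 : ψ 1 = 1 := AddMonoidHom.ext fun a => Subtype.ext (by
    show P 1 (R 1 (a : M)) = (a : M)
    simpa using E1 1 one_ne_zero (a : M) a.2)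
  have hinv : ∀ t : F, t ≠ 0 → ψ t * ψ t⁻¹ = 1 := fun t ht => AddMonoidHom.ext fun a => Subtype.ext (by
    show ((ψ t (ψ t⁻¹ a) : A) : M) = (a : M)
    rw [hψ, hψ, ← E3 t⁻¹ _ a.2, E1 t ht _ a.2])
  have hmul : ∀ t w : F, ∀ a : A, ψ t (ψ w a) = ψ (t * w) a := fun t w a => by
    rw [map_mul_of_inv ψ h1 hinv]; rfl
  obtain ⟨a₀, ha₀, ha₀0⟩ := exists_ne_zero hP.symm hM.symm
  set z : A := ⟨a₀, ha₀⟩ with hz
  have hzinj : ∀ t : F, ψ t z = 0 → t = 0 := by
    intro t h
    by_contra ht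
    have h2 := hmul t⁻¹ t z
    rw [h, map_zero, inv_mul_cancel₀ ht, h1] at h2
    exact ha₀0 (congrArg Subtype.val h2).symm
  have hzsurj : ∀ a : A, ∃ t : F, ψ t z = a := by
    intro a
    haveI := Fintype.ofFinite A
    have hinj : Function.Injective (fun t : F => ψ t z) := fun t w h => by
      refine sub_eq_zero.mp (hzinj _ ?_)
      rw [map_sub]
      exact sub_eq_zero.mpr h
    refine ((Fintype.bijective_iff_injective_and_card _).mpr ⟨hinj, ?_⟩).2 a
    rw [← card_A hP hM, Nat.card_eq_fintype_card]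
  let Φ₀ : (Fin 2 → F) →+ M := AddMonoidHom.mk' (fun x => (ψ (x 0) z : A) + R 1 ((ψ (x 1) z : A) : M))
    (fun x y => by
      simp only [Pi.add_apply, map_add, hev, AddSubgroup.coe_add, hRmap]
      abel)
  have hΦ : ∀ x, Φ₀ x = (ψ (x 0) z : A) + R 1 ((ψ (x 1) z : A) : M) := fun x => rfl
  have hR1inj : ∀ a ∈ A, R 1 a = 0 → a = 0 := fun a ha h => by
    have h2 := E1 1 one_ne_zero a ha
    rw [inv_one, h] at h2
    rw [← h2]; simp [P]
  have hbij : Function.Bijective Φ₀ := by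
    refine ⟨(injective_iff_map_eq_zero Φ₀).mpr fun x h => ?_, fun m => ?_⟩
    · rw [hΦ, ← add_zero (0 : M)] at h
      obtain ⟨hh1, hh2⟩ := decomp_unique hP hM (ψ (x 0) z).2 A.zero_mem (hRB _ _) B.zero_mem h
      funext i
      fin_cases i
      · exact hzinj _ (Subtype.ext hh1)
      · exact hzinj _ (Subtype.ext (hR1inj _ (ψ (x 1) z).2 hh2))
    · obtain ⟨a, ha, b, hb, rfl⟩ := hM.sup m
      obtain ⟨t, ht⟩ := hzsurj ⟨a, ha⟩
      obtain ⟨w, hw⟩ := hzsurj ⟨P 1 b, hPA _ _⟩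
      refine ⟨![t, w], ?_⟩
      rw [hΦ]
      simp only [Matrix.cons_val_zero, Matrix.cons_val_one]
      rw [ht, hw]
      exact congrArg (a + ·) (by simpa using E1' 1 one_ne_zero b hb)
  let Φ : (Fin 2 → F) ≃+ M := AddEquiv.ofBijective Φ₀ hbij
  have hΦe : ∀ x, Φ x = (ψ (x 0) z : A) + R 1 ((ψ (x 1) z : A) : M) := fun x => rfl
  have hactS : ∀ t x, ε (sP t) (Φ x) = Φ ((uSL t).1.mulVec x) := by
    intro t x
    rw [mulVec_uSL, hΦe, hΦe]
    simp only [Matrix.cons_val_zero, Matrix.cons_val_one, hsm, hPmap, map_add, hev,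
      AddSubgroup.coe_add, hP0A t _ (ψ (x 0) z).2, zero_add]
    rw [← hψ, hmul]
    abel
  have hactT : ∀ t x, ε (lP t) (Φ x) = Φ ((vSL t).1.mulVec x) := by
    intro t x
    rw [mulVec_vSL, hΦe, hΦe]
    simp only [Matrix.cons_val_zero, Matrix.cons_val_one, map_add, hev, AddSubgroup.coe_add,
      hRmap]
    rw [hlm, hM.fixB _ (hlP t) _ (hRB _ _), E3 t _ (ψ (x 0) z).2, ← hψ, hmul]
    abel
  let L : Subgroup G :=
    { carrier := {g | ∃ N : Matrix.SpecialLinearGroup (Fin 2) F, ∀ x, ε g (Φ x) = Φ (N.1.mulVec x)}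
      one_mem' := ⟨1, fun x => by simp [end_one_apply]⟩
      mul_mem' := fun {g h} ⟨N, hN⟩ ⟨N', hN'⟩ => ⟨N * N', fun x => by
        rw [end_mul_apply, hN', hN, Matrix.mulVec_mulVec]; rfl⟩
      inv_mem' := fun {g} ⟨N, hN⟩ => ⟨N⁻¹, fun x => by
        refine end_injective (ε := ε) g ?_
        rw [end_inv_apply', hN, Matrix.mulVec_mulVec,
          show N.1 * (N⁻¹).1 = 1 from congrArg Subtype.val (mul_inv_cancel N), Matrix.one_mulVec]⟩ }
  have hLS : ∀ s ∈ S, ∀ t, f s = uu t → ∀ x, ε s (Φ x) = Φ ((uSL t).1.mulVec x) := fun s hs t ht x => by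
    rw [eq_of_image_eq_S C hM hs (hsP t) (ht.trans (hfsP t).symm), hactS]
  have hLT : ∀ l ∈ T', ∀ t, f l = vv t → ∀ x, ε l (Φ x) = Φ ((vSL t).1.mulVec x) := fun l hl t ht x => by
    rw [eq_of_image_eq_T C hM hl (hlP t) (ht.trans (hflP t).symm), hactT]
  have hL : ∀ g : G, g ∈ L := fun g => by
    have htop : (⊤ : Subgroup G) ≤ L := (gen_top hP hM).ge.trans (sup_le
      (fun s hs => let ⟨t, ht⟩ := C.param_s hs; ⟨_, hLS s hs t ht⟩)
      (fun l hl => let ⟨t, ht⟩ := C.param_l hl; ⟨_, hLT l hl t ht⟩))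
    exact htop (mem_top g)
  choose ρ₀ hρ₀ using hL
  let ρ : G →* Matrix.SpecialLinearGroup (Fin 2) F := MonoidHom.mk' ρ₀ fun g h => sl_eq_of_mulVec fun x =>
    Φ.injective (by rw [← hρ₀, end_mul_apply, hρ₀, hρ₀, Matrix.mulVec_mulVec]; rfl)
  have huniq : ∀ g N, (∀ x, ε g (Φ x) = Φ ((N : Matrix.SpecialLinearGroup (Fin 2) F).1.mulVec x)) → ρ g = N :=
    fun g N hN => sl_eq_of_mulVec fun x => Φ.injective ((hρ₀ g x).symm.trans (hN x))
  refine ⟨Φ, ρ, ?_, hρ₀, fun s hs t ht => huniq _ _ (hLS s hs t ht),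
    fun l hl t ht => huniq _ _ (hLT l hl t ht), fun x => ?_⟩
  · rw [← MonoidHom.range_eq_top]
    exact sl_top_of_transvections (fun t => ⟨sP t, huniq _ _ (hactS t)⟩) fun t => ⟨lP t, huniq _ _ (hactT t)⟩
  · rw [hΦe]
    constructor
    · intro h
      refine hzinj _ (Subtype.ext (hR1inj _ (ψ (x 1) z).2 ?_))
      exact inf_eq hP hM ((A.add_mem_cancel_left (ψ (x 0) z).2).mp h) (hRB _ _)
    · intro h
      rw [h, map_zero]
      simp [R]

end Md

end CfsgLib.PushUp
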