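import Mathlib
import Cfsg.Agent.Lib.PushUp.Natural
import Cfsg.Agent.Lib.ZJ.Replacement

/-!
Natural sections of a group.
-/

set_option autoImplicit false
set_option linter.unusedSectionVars false

namespace CfsgLib.PushUp

open Subgroup CfsgLib.PSL2 Matrix

universe u

variable {G : Type u} [Group G] {p : ℕ} {F : Type} [Field F]

/-- `Y / X` is the natural module through `ρ`, with coordinates `φ`. -/
structure Sect (ρ : G →* Matrix.SpecialLinearGroup (Fin 2) F) (Y X : Subgroup G) (φ : G → Fin 2 → F) : Prop where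
  mul : ∀ a ∈ Y, ∀ b ∈ Y, φ (a * b) = φ a + φ b
  ker : ∀ y ∈ Y, (φ y = 0 ↔ y ∈ X)
  onto : ∀ x : Fin 2 → F, ∃ y ∈ Y, φ y = x
  equiv : ∀ (g : G), ∀ y ∈ Y, φ (g * y * g⁻¹) = (ρ g).1.mulVec (φ y)

namespace Sect

variable {ρ : G →* Matrix.SpecialLinearGroup (Fin 2) F} {Y X : Subgroup G} {φ : G → Fin 2 → F} (h : Sect ρ Y X φ)
include h

theorem map_one : φ 1 = 0 := (h.ker 1 Y.one_mem).mpr X.one_mem

theorem map_inv {a : G} (ha : a ∈ Y) : φ a⁻¹ = -φ a := by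
  rw [eq_neg_iff_add_eq_zero, ← h.mul _ (Y.inv_mem ha) _ ha, inv_mul_cancel, h.map_one]

theorem map_pow {a : G} (ha : a ∈ Y) : ∀ n : ℕ, φ (a ^ n) = n • φ a := by
  intro n
  induction n with
  | zero => rw [pow_zero, h.map_one, zero_smul]
  | succ n ih => rw [pow_succ, h.mul _ (Y.pow_mem ha n) _ ha, ih, succ_nsmul]

theorem map_comm [Y.Normal] (g : G) {y : G} (hy : y ∈ Y) :
    φ (g * y * g⁻¹ * y⁻¹) = (ρ g).1.mulVec (φ y) - φ y := by
  rw [h.mul _ (‹Y.Normal›.conj_mem y hy g) _ (Y.inv_mem hy), h.equiv g y hy, h.map_inv hy, sub_eq_add_neg]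

end Sect

theorem card_map_mul_ker {H : Type*} [Group H] (f : G →* H) (A : Subgroup G) :
    Nat.card (A.map f) * Nat.card ↥(A ⊓ f.ker) = Nat.card A := by
  have h1 := Subgroup.card_eq_card_quotient_mul_card_subgroup (f.subgroupMap A).ker
  rw [Nat.card_congr (QuotientGroup.quotientKerEquivOfSurjective _ (f.subgroupMap_surjective A)).toEquiv] at h1
  rw [h1]
  congr 1
  refine Nat.card_congr
    { toFun := fun x => ⟨⟨x.1, x.2.1⟩, Subtype.ext (MonoidHom.mem_ker.mp x.2.2)⟩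
      invFun := fun x => ⟨x.1.1, x.1.2, MonoidHom.mem_ker.mpr (congrArg Subtype.val (MonoidHom.mem_ker.mp x.2))⟩
      left_inv := fun x => rfl
      right_inv := fun x => rfl }

theorem eq_of_eq_on_pair {H : Type*} [Group H] {S T' : Subgroup G} (hST : S ⊔ T' = ⊤) {ρ ρ' : G →* H}
    (h1 : ∀ s ∈ S, ρ s = ρ' s) (h2 : ∀ t ∈ T', ρ t = ρ' t) : ρ = ρ' := by
  refine MonoidHom.ext fun g => ?_
  have : (⊤ : Subgroup G) ≤ ρ.eqLocus ρ' := hST.ge.trans (sup_le h1 h2)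
  exact this (mem_top g)

variable {Q S T' : Subgroup G} {f : G →* Matrix.ProjectiveSpecialLinearGroup (Fin 2) F}

theorem Coords.card_S [Finite G] [Fintype F] (C : Coords p F Q S T' f) :
    Nat.card S = Fintype.card F * Nat.card Q := by
  rw [← card_map_mul_ker f S, C.map_S]
  have h1 : S ⊓ f.ker = Q := le_antisymm (fun x hx => C.ker_S x hx.1 (MonoidHom.mem_ker.mp hx.2))
    (le_inf C.Q_le C.Q_ker)
  rw [h1]
  congr 1
  have hinj : Function.Injective (uHom : Multiplicative F →* Matrix.ProjectiveSpecialLinearGroup (Fin 2) F) :=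
    fun a b h => Multiplicative.toAdd.injective (uu_injective (show uu a.toAdd = uu b.toAdd from h))
  rw [← Nat.card_congr (MonoidHom.ofInjective hinj).toEquiv, Nat.card_congr Multiplicative.toAdd,
    Nat.card_eq_fintype_card]

variable [Finite G] [Fintype F] [Fact p.Prime] [CharP F p]

/-- Recognition of a natural section. -/
theorem exists_sect (C : Coords p F Q S T' f) (X Y A B : Subgroup G) [X.Normal] [Y.Normal]
    (hab : ∀ a ∈ Y, ∀ b ∈ Y, a * b * a⁻¹ * b⁻¹ ∈ X) (hA : A ≤ Y) (hB : B ≤ Y)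
    (hsplit : ∀ y ∈ Y, ∃ a ∈ A, ∃ b ∈ B, (a * b)⁻¹ * y ∈ X)
    (hfixA : ∀ s ∈ S, ∀ a ∈ A, s * a * s⁻¹ * a⁻¹ ∈ X)
    (hmoveA : ∀ s ∈ S, ∀ y ∈ Y, s * y * s⁻¹ * y⁻¹ ∈ A ⊔ X)
    (hfixB : ∀ t ∈ T', ∀ b ∈ B, t * b * t⁻¹ * b⁻¹ ∈ X)
    (hmoveB : ∀ t ∈ T', ∀ y ∈ Y, t * y * t⁻¹ * y⁻¹ ∈ B ⊔ X)
    (hcA : Nat.card A * Nat.card Q ≤ Nat.card S * Nat.card ↥(A ⊓ X))
    (hcB : Nat.card B * Nat.card Q ≤ Nat.card S * Nat.card ↥(B ⊓ X))
    (htriv : ∀ x ∈ Q, ∀ y ∈ Y, x * y * x⁻¹ * y⁻¹ ∈ X)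
    (hne : ∃ g : G, ∃ y ∈ Y, g * y * g⁻¹ * y⁻¹ ∉ X) :
    ∃ (ρ : G →* Matrix.SpecialLinearGroup (Fin 2) F) (φ : G → Fin 2 → F), Sect ρ Y X φ ∧ Function.Surjective ρ ∧
      (∀ s ∈ S, ∀ t, f s = uu t → ρ s = uSL t) ∧ (∀ l ∈ T', ∀ t, f l = vv t → ρ l = vSL t) ∧
      ∀ y ∈ Y, (φ y 1 = 0 ↔ ∃ a ∈ A, a⁻¹ * y ∈ X) := by
  classical
  set N := X.subgroupOf Y with hN
  haveI : N.Normal := by rw [hN]; infer_instance
  letI : CommGroup (Y ⧸ N) :=
    { (inferInstance : Group (Y ⧸ N)) with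
      mul_comm := fun a b => by
        obtain ⟨a, rfl⟩ := QuotientGroup.mk'_surjective N a
        obtain ⟨b, rfl⟩ := QuotientGroup.mk'_surjective N b
        rw [← map_mul, ← map_mul]
        refine (QuotientGroup.eq.mpr ?_)
        rw [hN, Subgroup.mem_subgroupOf]
        have h := hab _ (Y.inv_mem b.2) _ (Y.inv_mem a.2)
        simpa [mul_assoc] using h }
  let M := Additive (Y ⧸ N)
  let π : Y → M := fun y => Additive.ofMul (QuotientGroup.mk' N y)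
  have hπmul : ∀ a b : Y, π (a * b) = π a + π b := fun a b => by simp only [π, map_mul]; rfl
  have hπker : ∀ a : Y, π a = 0 ↔ (a : G) ∈ X := fun a => by
    show Additive.ofMul _ = Additive.ofMul 1 ↔ _
    rw [Additive.ofMul.apply_eq_iff_eq, QuotientGroup.mk'_apply, QuotientGroup.eq_one_iff, hN,
      Subgroup.mem_subgroupOf]
  have hπeq : ∀ a b : Y, π a = π b ↔ (a : G)⁻¹ * b ∈ X := fun a b => by
    show Additive.ofMul _ = Additive.ofMul _ ↔ _
    rw [Additive.ofMul.apply_eq_iff_eq, QuotientGroup.mk'_apply, QuotientGroup.mk'_apply, QuotientGroup.eq, hN,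
      Subgroup.mem_subgroupOf]
    rfl
  have hπsurj : ∀ m : M, ∃ a : Y, π a = m := fun m => by
    obtain ⟨a, ha⟩ := QuotientGroup.mk'_surjective N (Additive.toMul m)
    exact ⟨a, congrArg Additive.ofMul ha⟩
  let c : G → (Y →* Y) := fun g =>
    { toFun := fun y => ⟨g * y * g⁻¹, ‹Y.Normal›.conj_mem _ y.2 g⟩
      map_one' := by ext; simp
      map_mul' := fun a b => by ext; simp [mul_assoc] }
  have hcN : ∀ g, N ≤ N.comap (c g) := fun g y hy => by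
    rw [Subgroup.mem_comap, hN, Subgroup.mem_subgroupOf] at *
    exact ‹X.Normal›.conj_mem _ hy g
  let e : G → AddMonoid.End M := fun g => MonoidHom.toAdditive (QuotientGroup.map N N (c g) (hcN g))
  have he : ∀ g (y : Y), e g (π y) = π ⟨g * y * g⁻¹, ‹Y.Normal›.conj_mem _ y.2 g⟩ := fun g y => rfl
  let ε : G →* AddMonoid.End M :=
    { toFun := e
      map_one' := AddMonoidHom.ext fun m => by
        obtain ⟨y, rfl⟩ := hπsurj m
        exact (he 1 y).trans (congrArg π (Subtype.ext (by simp)))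
      map_mul' := fun g h => AddMonoidHom.ext fun m => by
        obtain ⟨y, rfl⟩ := hπsurj m
        refine (he (g * h) y).trans (Eq.trans ?_ ((congrArg (e g) (he h y)).trans (he g _)).symm)
        exact congrArg π (Subtype.ext (by simp [mul_assoc])) }
  have hε : ∀ g (y : Y), ε g (π y) = π ⟨g * y * g⁻¹, ‹Y.Normal›.conj_mem _ y.2 g⟩ := he
  have hεsub : ∀ g (y : Y), ε g (π y) - π y = π ⟨g * y * g⁻¹ * (y : G)⁻¹,
      Y.mul_mem (‹Y.Normal›.conj_mem _ y.2 g) (Y.inv_mem y.2)⟩ := fun g y => by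
    rw [sub_eq_iff_eq_add, hε, ← hπmul]
    exact congrArg π (Subtype.ext (by simp))
  let line : Subgroup G → AddSubgroup M := fun U =>
    Subgroup.toAddSubgroup ((U.subgroupOf Y).map (QuotientGroup.mk' N))
  have hline : ∀ (U : Subgroup G) (y : Y), π y ∈ line U ↔ ∃ a ∈ U, a ∈ Y ∧ a⁻¹ * (y : G) ∈ X := by
    intro U y
    show QuotientGroup.mk' N y ∈ (U.subgroupOf Y).map (QuotientGroup.mk' N) ↔ _
    constructor
    · rintro ⟨a, ha, hae⟩
      rw [QuotientGroup.mk'_apply, QuotientGroup.mk'_apply, QuotientGroup.eq, hN, Subgroup.mem_subgroupOf] at hae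
      exact ⟨a, ha, a.2, hae⟩
    · rintro ⟨a, ha, haY, hae⟩
      refine ⟨⟨a, haY⟩, ha, ?_⟩
      rw [QuotientGroup.mk'_apply, QuotientGroup.mk'_apply, QuotientGroup.eq, hN, Subgroup.mem_subgroupOf]
      exact hae
  have hcard : ∀ U : Subgroup G, U ≤ Y → Nat.card U * Nat.card Q ≤ Nat.card S * Nat.card ↥(U ⊓ X) →
      Nat.card (line U) ≤ Fintype.card F := by
    intro U hU hc
    have h1 := card_map_mul_ker (QuotientGroup.mk' N) (U.subgroupOf Y)
    have h2 : U.subgroupOf Y ⊓ N = (U ⊓ X).subgroupOf Y := by rw [hN]; rfl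
    rw [QuotientGroup.ker_mk', h2, Nat.card_congr (Subgroup.subgroupOfEquivOfLe hU).toEquiv,
      Nat.card_congr (Subgroup.subgroupOfEquivOfLe (inf_le_left.trans hU : U ⊓ X ≤ Y)).toEquiv] at h1
    rw [← h1, C.card_S] at hc
    show Nat.card ((U.subgroupOf Y).map (QuotientGroup.mk' N)) ≤ _
    refine Nat.le_of_mul_le_mul_right ?_ (Nat.mul_pos (Nat.card_pos (α := ↥(U ⊓ X))) (Nat.card_pos (α := Q)))
    calc _ = Nat.card ((U.subgroupOf Y).map (QuotientGroup.mk' N)) * Nat.card ↥(U ⊓ X) * Nat.card Q := by ring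
      _ ≤ _ := hc
      _ = _ := by ring
  have hM : Md Q S T' ε (line A) (line B) (Fintype.card F) := by
    refine ⟨fun m => ?_, fun s hs m hm => ?_, fun s hs m => ?_, fun t ht m hm => ?_, fun t ht m => ?_,
      hcard A hA hcA, hcard B hB hcB, fun x hx => ?_, ?_⟩
    · obtain ⟨y, rfl⟩ := hπsurj m
      obtain ⟨a, ha, b, hb, hab'⟩ := hsplit y y.2
      refine ⟨π ⟨a, hA ha⟩, (hline A _).mpr ⟨a, ha, hA ha, by simp⟩,
        π ⟨b, hB hb⟩, (hline B _).mpr ⟨b, hb, hB hb, by simp⟩, ?_⟩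
      rw [← hπmul, hπeq]
      exact hab'
    · obtain ⟨y, rfl⟩ := hπsurj m
      obtain ⟨a, ha, haY, hay⟩ := (hline A y).mp hm
      rw [← (hπeq ⟨a, haY⟩ y).mpr hay, ← sub_eq_zero, hεsub, hπker]
      exact hfixA s hs a ha
    · obtain ⟨y, rfl⟩ := hπsurj m
      rw [hεsub, hline]
      obtain ⟨a, ha, x, hx, hax⟩ := exists_mul'
        (le_normalizer_of_normal'' (N := X) inferInstance A) (hmoveA s hs y y.2)
      exact ⟨a, ha, hA ha, by show a⁻¹ * (s * y * s⁻¹ * (y : G)⁻¹) ∈ X; rw [← hax, inv_mul_cancel_left]; exact hx⟩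
    · obtain ⟨y, rfl⟩ := hπsurj m
      obtain ⟨a, ha, haY, hay⟩ := (hline B y).mp hm
      rw [← (hπeq ⟨a, haY⟩ y).mpr hay, ← sub_eq_zero, hεsub, hπker]
      exact hfixB t ht a ha
    · obtain ⟨y, rfl⟩ := hπsurj m
      rw [hεsub, hline]
      obtain ⟨a, ha, x, hx, hax⟩ := exists_mul'
        (le_normalizer_of_normal'' (N := X) inferInstance B) (hmoveB t ht y y.2)
      exact ⟨a, ha, hB ha, by show a⁻¹ * (t * y * t⁻¹ * (y : G)⁻¹) ∈ X; rw [← hax, inv_mul_cancel_left]; exact hx⟩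
    · refine AddMonoidHom.ext fun m => ?_
      obtain ⟨y, rfl⟩ := hπsurj m
      show ε x (π y) = π y
      rw [← sub_eq_zero, hεsub, hπker]
      exact htriv x hx y y.2
    · obtain ⟨g, y, hy, hgy⟩ := hne
      refine ⟨g, π ⟨y, hy⟩, fun h => hgy ?_⟩
      rw [← sub_eq_zero, hεsub, hπker] at h
      exact h
  obtain ⟨Φ, ρ, hsurj, hact, hρS, hρT, hΦA⟩ := Md.exists_natural C hM
  let φ : G → Fin 2 → F := fun g => if h : g ∈ Y then Φ.symm (π ⟨g, h⟩) else 0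
  have hφ : ∀ g (h : g ∈ Y), φ g = Φ.symm (π ⟨g, h⟩) := fun g h => dif_pos h
  refine ⟨ρ, φ, ⟨fun a ha b hb => ?_, fun y hy => ?_, fun x => ?_, fun g y hy => ?_⟩, hsurj, hρS, hρT, fun y hy => ?_⟩
  · rw [hφ _ ha, hφ _ hb, hφ _ (Y.mul_mem ha hb), ← map_add, ← hπmul]
    rfl
  · rw [hφ _ hy, AddEquiv.map_eq_zero_iff, hπker]
  · obtain ⟨y, hy⟩ := hπsurj (Φ x)
    exact ⟨y, y.2, by rw [hφ _ y.2, hy, AddEquiv.symm_apply_apply]⟩
  · rw [hφ _ hy, hφ _ (‹Y.Normal›.conj_mem y hy g)]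
    apply Φ.injective
    rw [← hact, AddEquiv.apply_symm_apply, AddEquiv.apply_symm_apply, hε]
  · rw [hφ _ hy, ← hΦA, AddEquiv.apply_symm_apply, hline]
    exact ⟨fun ⟨a, ha, _, h⟩ => ⟨a, ha, h⟩, fun ⟨a, ha, h⟩ => ⟨a, ha, hA ha, h⟩⟩
where
  le_normalizer_of_normal'' {N : Subgroup G} (hN : N.Normal) (H : Subgroup G) : H ≤ normalizer (N : Set G) := by
    haveI := hN
    rw [Subgroup.normalizer_eq_top]; exact le_top

end CfsgLib.PushUp
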