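import Mathlib
import Cfsg.Agent.Lib.PushUp.GroupFacts
import Cfsg.Agent.Lib.PushUp.Section
import Cfsg.Agent.Lib.PResidual

/-!
Facts shared by both configurations: the module is natural, and coprime elements are pushed down.
-/

set_option autoImplicit false
set_option linter.unusedSectionVars false

namespace CfsgLib.PushUp

open Cfsg Subgroup CfsgLib.PushRankOne CfsgLib.PSL2

universe u

variable {G : Type u} [Group G] {p : ℕ}

theorem normalizer_top (N : Subgroup G) [N.Normal] (H : Subgroup G) : H ≤ normalizer (N : Set G) := by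
  rw [Subgroup.normalizer_eq_top]; exact le_top

/-- A coprime element fixing the step `[r, q]` modulo `X` fixes `q` modulo `X`. -/
theorem push_down [Finite G] [Fact p.Prime] {X : Subgroup G} [X.Normal] {r q d : G}
    (hr : (orderOf r).Coprime p) (hd : r * q * r⁻¹ = d * q) (hdp : ∃ k : ℕ, d ^ p ^ k ∈ X)
    (hrd : r * d * r⁻¹ * d⁻¹ ∈ X) : d ∈ X := by
  set π := QuotientGroup.mk' X with hπ
  have hc : π r * π d = π d * π r := by
    have h : π (r * d * r⁻¹ * d⁻¹) = 1 := (QuotientGroup.eq_one_iff _).mpr hrd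
    rwa [map_mul, map_mul, map_mul, map_inv, map_inv, mul_inv_eq_one, mul_inv_eq_iff_eq_mul] at h
  have hn : ∀ n : ℕ, π r ^ n * π q = π d ^ n * π q * π r ^ n := by
    intro n
    induction n with
    | zero => simp
    | succ n ih =>
      have h1 : π r * π q = π d * π q * π r := by
        rw [← map_mul, ← map_mul, ← map_mul, ← hd, inv_mul_cancel_right]
      calc π r ^ (n + 1) * π q = π r * (π r ^ n * π q) := by rw [pow_succ', mul_assoc]
        _ = (π r * π d ^ n) * π q * π r ^ n := by rw [ih]; simp only [mul_assoc]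
        _ = π d ^ n * (π r * π q) * π r ^ n := by
            rw [((show Commute (π r) (π d) from hc).pow_right n).eq]; simp only [mul_assoc]
        _ = π d ^ n * π d * π q * (π r * π r ^ n) := by rw [h1]; simp only [mul_assoc]
        _ = _ := by rw [← pow_succ, ← pow_succ']
  have h1 : π d ^ orderOf r = 1 := by
    have h := hn (orderOf r)
    rw [← map_pow π r, pow_orderOf_eq_one, map_one, one_mul, mul_one] at h
    exact (mul_eq_right.mp h.symm)
  obtain ⟨k, hk⟩ := hdp
  have h2 : π d ^ p ^ k = 1 := by rw [← map_pow]; exact (QuotientGroup.eq_one_iff _).mpr hk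
  have h3 : orderOf (π d) ∣ Nat.gcd (orderOf r) (p ^ k) :=
    Nat.dvd_gcd (orderOf_dvd_of_pow_eq_one h1) (orderOf_dvd_of_pow_eq_one h2)
  rw [hr.pow_right k, Nat.dvd_one, orderOf_eq_one_iff] at h3
  exact (QuotientGroup.eq_one_iff _).mp h3

variable [Finite G] [Fact p.Prime] {S : Sylow p G}

theorem res_sup : Cfsg.pResidual p G ⊔ (S : Subgroup G) = ⊤ := by
  rw [sup_comm]; exact CfsgLib.PResidual.pResidual_sup_sylow S

theorem res_le {L : Subgroup G} [L.Normal] (hL : L ⊔ (S : Subgroup G) = ⊤) : Cfsg.pResidual p G ≤ L :=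
  CfsgLib.PResidual.pResidual_le_of_pow fun x =>
    CfsgLib.PResidual.pow_mem_sylow_sup S.isPGroup' (by rw [sup_comm, hL]; exact mem_top x)

/-- A normal subgroup with `S ⊄ Q` meeting it outside `Q` contains the residual. -/
theorem res_le_of_mem (hS : Setting S) {L : Subgroup G} [L.Normal] {x : G} (hx : x ∈ (S : Subgroup G)) (hxL : x ∈ L)
    (hxQ : x ∉ pCore p G) : Cfsg.pResidual p G ≤ L :=
  res_le ((hS.normal_cases L inferInstance).resolve_right fun h => hxQ (h ⟨hxL, hx⟩))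

theorem exists_pow_mem_of_mem_core (hS : Setting S) (X : Subgroup G) {d : G} (hd : d ∈ pCore p G) :
    ∃ k : ℕ, d ^ p ^ k ∈ X := by
  obtain ⟨k, hk⟩ := S.isPGroup' ⟨d, hS.core_le hd⟩
  exact ⟨k, by rw [show d ^ p ^ k = 1 from congrArg Subtype.val hk]; exact X.one_mem⟩

/-- Commutators with the residual go down one layer. -/
theorem res_push (hS : Setting S) {Y X : Subgroup G} [Y.Normal] [X.Normal] (hY : Y ≤ pCore p G)
    {Z : Subgroup G}
    (hZY : ∀ z ∈ Z, ∀ r ∈ Cfsg.pResidual p G, r * z * r⁻¹ * z⁻¹ ∈ Y)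
    (hYX : ∀ y ∈ Y, ∀ r ∈ Cfsg.pResidual p G, r * y * r⁻¹ * y⁻¹ ∈ X) :
    ∀ z ∈ Z, ∀ r ∈ Cfsg.pResidual p G, r * z * r⁻¹ * z⁻¹ ∈ X := by
  intro z hz r hr
  induction hr using Subgroup.closure_induction with
  | mem r hr =>
    have hrR : r ∈ Cfsg.pResidual p G := Subgroup.subset_closure hr
    refine push_down (q := z) hr (by group) (exists_pow_mem_of_mem_core hS X (hY (hZY z hz r hrR))) ?_
    exact hYX _ (hZY z hz r hrR) r hrR
  | one => simp
  | mul a b _ _ iha ihb =>
    have e : a * b * z * (a * b)⁻¹ * z⁻¹ = a * (b * z * b⁻¹ * z⁻¹) * a⁻¹ * (a * z * a⁻¹ * z⁻¹) := by group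
    rw [e]
    exact mul_mem (‹X.Normal›.conj_mem _ ihb a) iha
  | inv a _ iha =>
    have e : a⁻¹ * z * a⁻¹⁻¹ * z⁻¹ = a⁻¹ * (a * z * a⁻¹ * z⁻¹)⁻¹ * a⁻¹⁻¹ := by group
    rw [e]
    exact ‹X.Normal›.conj_mem _ (inv_mem iha) _

/-- The fixed module of the whole group. -/
abbrev zc (S : Sylow p G) : Subgroup G := vmod S ⊓ center G

theorem fx_comm (hS : Setting S) (hd : Mild S) {T' : Subgroup G} :
    ∀ a ∈ fx (vmod S) T', ∀ b ∈ vmod S, a * b = b * a := fun a ha b hb =>
  (vmod_mdl hS hd).comm a ha.1 b hb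

theorem card_fx_sq (hS : Setting S) (hd : Mild S) :
    Nat.card (fx (vmod S) (S : Subgroup G)) * Nat.card (fx (vmod S) (S : Subgroup G)) =
      Nat.card (vmod S) * Nat.card (zc S) := by
  have hV := vmod_mdl hS hd
  obtain ⟨g, -, hN⟩ := natural_module hS hd hV (fun v hv => vmod_pow hS hd hv)
  set F₁ := fx (vmod S) (S : Subgroup G) with hF₁
  set F₂ := fx (vmod S) ((S : Subgroup G).map (MulAut.conj g).toMonoidHom) with hF₂
  have h1 := CfsgLib.ZJ.card_mul_eq_of_le_normalizer (H := F₁) (K := F₂)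
    fun x hx => mem_normalizer_of_conj fun y hy => by rwa [hV.comm x hx.1 y hy.1, mul_inv_cancel_right]
  rw [hN.sup] at h1
  have h2 : F₁ ⊓ F₂ = zc S := le_antisymm (le_inf (inf_le_left.trans inf_le_left) hN.inf)
    (le_inf (le_inf inf_le_left (inf_le_right.trans fun x hx y _ => Subgroup.mem_center_iff.mp hx y))
      (le_inf inf_le_left (inf_le_right.trans fun x hx y _ => Subgroup.mem_center_iff.mp hx y)))
  rw [h2] at h1
  have h3 : Nat.card F₂ = Nat.card F₁ := card_fx_conj hV _ g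
  rw [h3] at h1
  exact h1

variable {T' : Subgroup G}

theorem opp_fix (hS : Setting S) (hopp : Opp ⊤ (pCore p G) (S : Subgroup G) T') :
    (S : Subgroup G) ⊔ T' = ⊤ := by
  obtain ⟨x, hx, hxQ⟩ := hS.exists_mem
  exact top_le_iff.mp ((hopp.left x hx hxQ).ge.trans
    (sup_le_sup_right ((Subgroup.closure_le _).mpr (Set.singleton_subset_iff.mpr hx)) _))

theorem fx_inf (hS : Setting S) (hopp : Opp ⊤ (pCore p G) (S : Subgroup G) T') :
    fx (vmod S) (S : Subgroup G) ⊓ fx (vmod S) T' ≤ zc S := fun v hv => ⟨hv.1.1, Subgroup.mem_center_iff.mpr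
  fun y => by
    have h : (⊤ : Subgroup G) ≤ centralizer {v} := (opp_fix hS hopp).ge.trans (sup_le
      (fun s hs => mem_centralizer_singleton_iff.mpr (hv.1.2 s hs))
      fun s hs => mem_centralizer_singleton_iff.mpr (hv.2.2 s hs))
    exact mem_centralizer_singleton_iff.mp (h (mem_top y))⟩

theorem fx_sup_eq (hS : Setting S) (hd : Mild S) (hopp : Opp ⊤ (pCore p G) (S : Subgroup G) T')
    (hconj : ∃ g : G, T' = cj g (S : Subgroup G)) :
    fx (vmod S) (S : Subgroup G) ⊔ fx (vmod S) T' = vmod S := by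
  have hV := vmod_mdl hS hd
  obtain ⟨g, rfl⟩ := hconj
  set F₁ := fx (vmod S) (S : Subgroup G) with hF₁
  set F₂ := fx (vmod S) (cj g (S : Subgroup G)) with hF₂
  have h1 := CfsgLib.ZJ.card_mul_eq_of_le_normalizer (H := F₁) (K := F₂)
    fun x hx => mem_normalizer_of_conj fun y hy => by rwa [hV.comm x hx.1 y hy.1, mul_inv_cancel_right]
  have h3 : Nat.card F₂ = Nat.card F₁ := card_fx_conj hV _ g
  rw [h3, card_fx_sq hS hd] at h1
  refine Subgroup.eq_of_le_of_card_ge (sup_le inf_le_left inf_le_left) ?_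
  refine Nat.le_of_mul_le_mul_right ?_ (Nat.card_pos (α := zc S))
  calc Nat.card (vmod S) * Nat.card (zc S) = _ := h1
    _ ≤ _ := Nat.mul_le_mul le_rfl (Subgroup.card_le_of_le (fx_inf hS hopp))

/-- An element moved by `x ∈ S ∖ Q` into the centre is fixed by `x`. -/
theorem not_central (hS : Setting S) (hd : Mild S) (hopp : Opp ⊤ (pCore p G) (S : Subgroup G) T')
    (hconj : ∃ g : G, T' = cj g (S : Subgroup G)) {x v : G} (hx : x ∈ (S : Subgroup G)) (hxQ : x ∉ pCore p G)
    (hv : v ∈ vmod S) (hc : x * v * x⁻¹ * v⁻¹ ∈ center G) : x * v * x⁻¹ * v⁻¹ = 1 := by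
  have hV := vmod_mdl hS hd
  obtain ⟨z, hz, z', hz', rfl⟩ := exists_mul (X := fx (vmod S) (S : Subgroup G)) (Y := fx (vmod S) T')
    (fun a ha => mem_normalizer_of_conj fun b hb => by rwa [hV.comm a ha.1 b hb.1, mul_inv_cancel_right])
    ((fx_sup_eq hS hd hopp hconj).ge hv)
  have hxz : Commute x z := hz.2 x hx
  have e : x * (z * z') * x⁻¹ * (z * z')⁻¹ = x * z' * x⁻¹ * z'⁻¹ := by
    have h2 : Commute z (x * z' * x⁻¹ * z'⁻¹) := hV.comm z hz.1 _ (hV.comm_mem hz'.1 x)
    calc x * (z * z') * x⁻¹ * (z * z')⁻¹ = (x * z) * z' * x⁻¹ * z'⁻¹ * z⁻¹ := by group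
      _ = z * (x * z' * x⁻¹ * z'⁻¹) * z⁻¹ := by rw [hxz.eq]; group
      _ = _ := by rw [h2.eq, mul_inv_cancel_right]
  rw [e] at hc ⊢
  let L : Subgroup G :=
    { carrier := {h | h * z' * h⁻¹ * z'⁻¹ ∈ center G}
      one_mem' := by simp
      mul_mem' := fun {a b} ha hb => by
        show a * b * z' * (a * b)⁻¹ * z'⁻¹ ∈ center G
        have e : a * b * z' * (a * b)⁻¹ * z'⁻¹ = (a * (b * z' * b⁻¹ * z'⁻¹) * a⁻¹) * (a * z' * a⁻¹ * z'⁻¹) := by group
        rw [e]
        exact mul_mem ((inferInstance : (center G).Normal).conj_mem _ hb a) ha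
      inv_mem' := fun {a} ha => by
        show a⁻¹ * z' * a⁻¹⁻¹ * z'⁻¹ ∈ center G
        have e : a⁻¹ * z' * a⁻¹⁻¹ * z'⁻¹ = a⁻¹ * (a * z' * a⁻¹ * z'⁻¹)⁻¹ * a⁻¹⁻¹ := by group
        rw [e]
        exact (inferInstance : (center G).Normal).conj_mem _ (inv_mem ha) _ }
  have hL : (⊤ : Subgroup G) ≤ L := (hopp.left x hx hxQ).ge.trans (sup_le
    ((Subgroup.closure_le _).mpr (Set.singleton_subset_iff.mpr hc)) fun t ht => by
      show t * z' * t⁻¹ * z'⁻¹ ∈ center G
      rw [show t * z' = z' * t from hz'.2 t ht, mul_inv_cancel_right, mul_inv_cancel]; exact one_mem _)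
  have h3 := (flag_top hS hd).fixmod z' hz'.1 fun t _ => by
    rw [Subgroup.coe_top, Subgroup.centralizer_univ]; exact hL (mem_top t)
  rw [show x * z' = z' * x from h3 x hx, mul_inv_cancel_right, mul_inv_cancel]

variable {F : Type} [Field F] [Fintype F] [CharP F p]
  {f : G →* Matrix.ProjectiveSpecialLinearGroup (Fin 2) F}

/-- The module is natural. -/
theorem exists_sect_vmod (hS : Setting S) (hd : Mild S)
    (hopp : Opp ⊤ (pCore p G) (S : Subgroup G) T') (hconj : ∃ g : G, T' = cj g (S : Subgroup G))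
    (C : Coords p F (pCore p G) (S : Subgroup G) T' f) :
    ∃ (ρ : G →* Matrix.SpecialLinearGroup (Fin 2) F) (φ : G → Fin 2 → F), Sect ρ (vmod S) (zc S) φ ∧
      Function.Surjective ρ ∧ (∀ s ∈ (S : Subgroup G), ∀ t, f s = uu t → ρ s = uSL t) ∧
      (∀ l ∈ T', ∀ t, f l = vv t → ρ l = vSL t) ∧
      ∀ y ∈ vmod S, (φ y 1 = 0 ↔ ∃ a ∈ fx (vmod S) (S : Subgroup G), a⁻¹ * y ∈ zc S) := by
  have hV := vmod_mdl hS hd
  haveI : (vmod S).Normal := normalClosure_normal
  haveI : (zc S).Normal := Subgroup.normal_inf_normal _ _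
  obtain ⟨g, hg⟩ := hconj
  have hidx : Nat.card (S : Subgroup G) * Nat.card (fx (vmod S) (S : Subgroup G)) =
      Nat.card (pCore p G) * Nat.card (vmod S) := by
    obtain ⟨g', -, hN⟩ := natural_module hS hd hV (fun v hv => vmod_pow hS hd hv)
    exact hN.index
  have hcard : Nat.card (fx (vmod S) (S : Subgroup G)) * Nat.card (pCore p G) =
      Nat.card (S : Subgroup G) * Nat.card (zc S) := by
    refine Nat.eq_of_mul_eq_mul_right (Nat.card_pos (α := fx (vmod S) (S : Subgroup G))) ?_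
    calc _ = Nat.card (pCore p G) * (Nat.card (fx (vmod S) (S : Subgroup G)) *
          Nat.card (fx (vmod S) (S : Subgroup G))) := by ring
      _ = Nat.card (zc S) * (Nat.card (pCore p G) * Nat.card (vmod S)) := by rw [card_fx_sq hS hd]; ring
      _ = Nat.card (zc S) * (Nat.card (S : Subgroup G) * Nat.card (fx (vmod S) (S : Subgroup G))) := by rw [hidx]
      _ = _ := by ring
  have hzle : ∀ R : Subgroup G, fx (vmod S) R ⊓ zc S = zc S := fun R => inf_eq_right.mpr fun z hz =>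
    ⟨hz.1, fun y _ => Subgroup.mem_center_iff.mp hz.2 y⟩
  have hquad : ∀ s ∈ (S : Subgroup G), ∀ y ∈ vmod S, s * y * s⁻¹ * y⁻¹ ∈ fx (vmod S) (S : Subgroup G) :=
    fun s hs y hy => ⟨hV.comm_mem hy s, (flag_top hS hd).quad y hy s hs⟩
  refine exists_sect C (zc S) (vmod S) (fx (vmod S) (S : Subgroup G)) (fx (vmod S) T') ?_ inf_le_left inf_le_left
    ?_ ?_ ?_ ?_ ?_ ?_ ?_ ?_ ?_
  · intro a ha b hb
    rw [hV.comm a ha b hb, mul_inv_cancel_right, mul_inv_cancel]; exact one_mem _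
  · intro y hy
    obtain ⟨a, ha, b, hb, hab⟩ := exists_mul (X := fx (vmod S) (S : Subgroup G)) (Y := fx (vmod S) T')
      (fun a ha => mem_normalizer_of_conj fun b hb => by rwa [hV.comm a ha.1 b hb.1, mul_inv_cancel_right])
      ((fx_sup_eq hS hd hopp ⟨g, hg⟩).ge hy)
    exact ⟨a, ha, b, hb, by rw [hab, inv_mul_cancel]; exact one_mem _⟩
  · intro s hs a ha
    rw [show s * a = a * s from ha.2 s hs, mul_inv_cancel_right, mul_inv_cancel]; exact one_mem _
  · exact fun s hs y hy => mem_sup_left (hquad s hs y hy)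
  · intro s hs a ha
    rw [show s * a = a * s from ha.2 s hs, mul_inv_cancel_right, mul_inv_cancel]; exact one_mem _
  · intro t ht y hy
    refine mem_sup_left ⟨hV.comm_mem hy t, ?_⟩
    rw [hg] at ht ⊢
    have hy' : g⁻¹ * y * g ∈ vmod S := by simpa using hV.mem_conj hy g⁻¹
    have h := (hquad _ (mem_cj.mp ht) _ hy').2
    intro z hz
    have h2 := h _ (mem_cj.mp hz)
    calc z * (t * y * t⁻¹ * y⁻¹) = g * ((g⁻¹ * z * g) * (g⁻¹ * t * g * (g⁻¹ * y * g) * (g⁻¹ * t * g)⁻¹ *
          (g⁻¹ * y * g)⁻¹)) * g⁻¹ := by group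
      _ = g * ((g⁻¹ * t * g * (g⁻¹ * y * g) * (g⁻¹ * t * g)⁻¹ * (g⁻¹ * y * g)⁻¹) * (g⁻¹ * z * g)) * g⁻¹ := by
          rw [h2]
      _ = _ := by group
  · rw [hzle, hcard]
  · rw [hzle, hg, show Nat.card (fx (vmod S) (cj g (S : Subgroup G))) = Nat.card (fx (vmod S) (S : Subgroup G))
      from card_fx_conj hV _ g, hcard]
  · intro x hx y hy
    rw [show x * y = y * x from hV.cent y hy x hx, mul_inv_cancel_right, mul_inv_cancel]
    exact one_mem _
  · by_contra hno
    push Not at hno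
    obtain ⟨x, hx, hxQ⟩ := hS.exists_mem
    refine hxQ ((flag_top hS hd).mem_of_cent hx fun v hv => ?_)
    have h := not_central hS hd hopp ⟨g, hg⟩ hx hxQ hv (hno x v hv).2
    exact mul_inv_eq_iff_eq_mul.mp (mul_inv_eq_one.mp h)

/-- The group centralises nothing in a natural section but the zero. -/
theorem exists_fpf (ρ : G →* Matrix.SpecialLinearGroup (Fin 2) F) (hρ : Function.Surjective ρ) :
    ∃ r : G, (orderOf r).Coprime p ∧ ∀ x : Fin 2 → F, (ρ r).1.mulVec x = x → x = 0 := by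
  classical
  have hpp : p.Prime := Fact.out
  obtain ⟨w, hw, hfp⟩ : ∃ w : Matrix.SpecialLinearGroup (Fin 2) F, (orderOf w).Coprime p ∧
      ∀ x : Fin 2 → F, w.1.mulVec x = x → x = 0 := by
    by_cases hp2 : p = 2
    · subst hp2
      refine ⟨⟨!![1, 1; 1, 0], ?_⟩, ?_, fun x hx => ?_⟩
      · have h2 : (2 : F) = 0 := by exact_mod_cast CharP.cast_eq_zero F 2
        rw [Matrix.det_fin_two_of]
        linear_combination -h2
      · refine Nat.Coprime.coprime_dvd_left (orderOf_dvd_of_pow_eq_one (n := 3) ?_) (by norm_num)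
        refine (pow_three' _).trans ?_
        apply Subtype.ext
        have h2 : (2 : F) = 0 := by exact_mod_cast CharP.cast_eq_zero F 2
        show (!![1, 1; 1, 0] : Matrix (Fin 2) (Fin 2) F) * !![1, 1; 1, 0] * !![1, 1; 1, 0] = 1
        ext i j
        fin_cases i <;> fin_cases j <;> simp [Matrix.mul_apply, Fin.sum_univ_two] <;>
          first | linear_combination h2 | linear_combination (2 : F) * h2
      · have e0 := congrFun hx 0
        have e1 := congrFun hx 1
        simp [Matrix.mulVec, dotProduct, Fin.sum_univ_two] at e0 e1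
        funext i
        fin_cases i
        · simpa [e0] using e1
        · exact e0
    · refine ⟨-1, ?_, fun x hx => ?_⟩
      · refine Nat.Coprime.coprime_dvd_left (orderOf_dvd_of_pow_eq_one (n := 2) ?_) ?_
        · exact neg_one_sq
        · exact ((Nat.coprime_primes Nat.prime_two hpp).mpr (Ne.symm hp2))
      · funext i
        have e := congrFun hx i
        simp only [Matrix.SpecialLinearGroup.coe_neg, Matrix.SpecialLinearGroup.coe_one, Matrix.neg_mulVec,
          Matrix.one_mulVec, Pi.neg_apply] at e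
        have h2 : (2 : F) ≠ 0 := by
          intro h
          have h' : ((2 : ℕ) : F) = 0 := by exact_mod_cast h
          exact hp2 ((Nat.prime_dvd_prime_iff_eq hpp Nat.prime_two).mp ((CharP.cast_eq_zero_iff F p 2).mp h'))
        exact (mul_eq_zero.mp (show (2 : F) * x i = 0 by linear_combination -e)).resolve_left h2
  obtain ⟨g, rfl⟩ := hρ w
  obtain ⟨k, hk⟩ := CfsgLib.PResidual.exists_pow_coprime (p := p) g
  refine ⟨g ^ p ^ k, hk, fun x hx => hfp x ?_⟩
  obtain ⟨j, hj⟩ := exists_pow_eq_self_of_coprime ((hw.pow_right k).symm)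
  have : ∀ n : ℕ, (ρ ((g ^ p ^ k) ^ n)).1.mulVec x = x := by
    intro n
    induction n with
    | zero => simp
    | succ n ih =>
      rw [pow_succ, map_mul, Matrix.SpecialLinearGroup.coe_mul, ← Matrix.mulVec_mulVec, hx, ih]
  have h := this j
  rwa [map_pow, map_pow, hj] at h

/-- Nothing fixed by the residual lies in a natural section. -/
theorem mem_of_res_fixed {ρ : G →* Matrix.SpecialLinearGroup (Fin 2) F} {Y X : Subgroup G} [Y.Normal]
    {φ : G → Fin 2 → F} (h : Sect ρ Y X φ) (hρ : Function.Surjective ρ) {y : G} (hy : y ∈ Y)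
    (hfix : ∀ r ∈ Cfsg.pResidual p G, r * y * r⁻¹ * y⁻¹ ∈ X) : y ∈ X := by
  obtain ⟨r, hr, hfp⟩ := exists_fpf (p := p) ρ hρ
  refine (h.ker y hy).mp (hfp _ (sub_eq_zero.mp ?_))
  rw [← h.map_comm r hy]
  exact (h.ker _ (Y.mul_mem (‹Y.Normal›.conj_mem y hy r) (Y.inv_mem hy))).mpr (hfix r (Subgroup.subset_closure hr))

/-- The kernel of the representation is the core. -/
theorem ker_eq_core (hS : Setting S) (C : Coords p F (pCore p G) (S : Subgroup G) T' f)
    {ρ : G →* Matrix.SpecialLinearGroup (Fin 2) F}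
    (hρS : ∀ s ∈ (S : Subgroup G), ∀ t, f s = uu t → ρ s = uSL t)
    (hco : ∀ r : G, (orderOf r).Coprime p → ρ r = 1 → ∀ q ∈ pCore p G, r * q = q * r)
    (hQ : pCore p G ≤ ρ.ker) : ρ.ker = pCore p G := by
  refine le_antisymm (fun g hg => ?_) hQ
  obtain ⟨k, hk⟩ := CfsgLib.PResidual.exists_pow_coprime (p := p) g
  have h1 : g ^ p ^ k ∈ pCore p G := hS.charP fun q hq => (hco _ hk (ρ.ker.pow_mem hg _) q hq).symm
  obtain ⟨e, he⟩ := S.isPGroup' ⟨_, hS.core_le h1⟩
  have h2 : g ^ p ^ (k + e) = 1 := by rw [pow_add, pow_mul]; exact congrArg Subtype.val he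
  have hp : IsPGroup p (zpowers g) := by
    rintro ⟨y, hy⟩
    obtain ⟨i, rfl⟩ := Subgroup.mem_zpowers_iff.mp hy
    refine ⟨k + e, Subtype.ext ?_⟩
    show (g ^ i) ^ p ^ (k + e) = 1
    rw [← zpow_natCast, ← zpow_mul, mul_comm, zpow_mul, zpow_natCast, h2, one_zpow]
  obtain ⟨P, hP⟩ := hp.exists_le_sylow
  obtain ⟨z, hz⟩ := MulAction.exists_smul_eq G S P
  have h3 : g ∈ cj z (S : Subgroup G) := by
    have := hP (mem_zpowers g)
    rwa [← hz] at this
  have h4 : z⁻¹ * g * z ∈ pCore p G := by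
    have hs : z⁻¹ * g * z ∈ (S : Subgroup G) := mem_cj.mp h3
    obtain ⟨t, ht⟩ := C.param_s hs
    have h5 : ρ (z⁻¹ * g * z) = 1 := by simp [MonoidHom.mem_ker.mp hg]
    rw [hρS _ hs t ht] at h5
    have ht0 : t = 0 := by simpa [coe_uSL] using congrFun (congrFun (congrArg Subtype.val h5) 0) 1
    exact C.ker_S _ hs (by rw [ht, ht0, uu_zero])
  simpa [mul_assoc] using (inferInstance : (pCore p G).Normal).conj_mem _ h4 z

end CfsgLib.PushUp
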