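import Mathlib
import Cfsg.Agent.Lib.PushUp.Common
import Cfsg.Prelude.Def_LocalEven
import Cfsg.Prelude.Def_PLocal

/-!
Layers of the core: kernels of actions, characteristic subgroups fixed by the residual, chief factors.
-/

set_option autoImplicit false
set_option linter.unusedSectionVars false

namespace CfsgLib.PushUp

open Cfsg Subgroup CfsgLib.PushRankOne
open scoped commutatorElement

universe u

variable {G : Type u} [Group G] {p : ℕ}

/-- The elements acting trivially on `Y` modulo `X`. -/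
def actKer (Y X : Subgroup G) [Y.Normal] [X.Normal] : Subgroup G where
  carrier := {h | ∀ y ∈ Y, h * y * h⁻¹ * y⁻¹ ∈ X}
  one_mem' := fun y _ => by simp
  mul_mem' := fun {a b} ha hb y hy => by
    have e : a * b * y * (a * b)⁻¹ * y⁻¹ = a * (b * y * b⁻¹ * y⁻¹) * a⁻¹ * (a * y * a⁻¹ * y⁻¹) := by group
    rw [e]
    exact mul_mem (‹X.Normal›.conj_mem _ (hb y hy) a) (ha y hy)
  inv_mem' := fun {a} ha y hy => by
    have e : a⁻¹ * y * a⁻¹⁻¹ * y⁻¹ = a⁻¹ * (a * y * a⁻¹ * y⁻¹)⁻¹ * a⁻¹⁻¹ := by group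
    rw [e]
    exact ‹X.Normal›.conj_mem _ (inv_mem (ha y hy)) _

instance actKer_normal (Y X : Subgroup G) [Y.Normal] [X.Normal] : (actKer Y X).Normal := by
  refine ⟨fun h hh g y hy => ?_⟩
  have hy' : g⁻¹ * y * g ∈ Y := by simpa using ‹Y.Normal›.conj_mem y hy g⁻¹
  have e : g * h * g⁻¹ * y * (g * h * g⁻¹)⁻¹ * y⁻¹ = g * (h * (g⁻¹ * y * g) * h⁻¹ * (g⁻¹ * y * g)⁻¹) * g⁻¹ := by
    group
  rw [e]
  exact ‹X.Normal›.conj_mem _ (hh _ hy') g

/-- A commutator of two subgroups lies in a normal subgroup when the elementary commutators do. -/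
theorem commutator_le' {A B N : Subgroup G} (h : ∀ a ∈ A, ∀ b ∈ B, a * b * a⁻¹ * b⁻¹ ∈ N) : ⁅A, B⁆ ≤ N :=
  Subgroup.commutator_le.mpr fun a ha b hb => h a ha b hb

theorem comm_swap {N : Subgroup G} {a b : G} (h : a * b * a⁻¹ * b⁻¹ ∈ N) : b * a * b⁻¹ * a⁻¹ ∈ N := by
  have e : b * a * b⁻¹ * a⁻¹ = (a * b * a⁻¹ * b⁻¹)⁻¹ := by group
  rw [e]; exact inv_mem h

variable [Finite G] [Fact p.Prime] {S : Sylow p G}

/-- A subgroup of `S` invariant under its automorphisms and fixed by the residual is trivial. -/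
theorem eq_bot_of_res_fixed (hd : NoChar (S : Subgroup G)) {K : Subgroup G} (hK : K ≤ (S : Subgroup G))
    (hinv : AutInv (S : Subgroup G) K) (hfix : ∀ r ∈ Cfsg.pResidual p G, ∀ k ∈ K, r * k = k * r) : K = ⊥ := by
  by_contra hne
  refine hd K hK hne hinv (Subgroup.normalizer_eq_top_iff.mp (top_le_iff.mp ((res_sup (S := S)).ge.trans
    (sup_le ?_ ?_))))
  · exact fun r hr => mem_normalizer_of_conj fun k hk => by rwa [hfix r hr k hk, mul_inv_cancel_right]
  · intro s hs
    refine mem_normalizer_of_conj fun k hk => ?_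
    exact hinv (MulAut.conj (⟨s, hs⟩ : ↥(S : Subgroup G))) ⟨k, hK hk⟩ hk

/-- Subgroups of `S` coming from its own characteristic subgroups. -/
theorem autInv_map (K : Subgroup ↥(S : Subgroup G)) [hK : K.Characteristic] :
    AutInv (S : Subgroup G) (K.map (S : Subgroup G).subtype) := by
  rintro φ x ⟨y, hy, hyx⟩
  obtain rfl : y = x := Subtype.ext hyx
  refine ⟨φ y, ?_, rfl⟩
  have := Subgroup.characteristic_iff_comap_eq.mp hK φ
  exact (this.symm.le hy : y ∈ K.comap φ.toMonoidHom)

theorem autInv_lcs : ∀ n, AutInv (S : Subgroup G) ((S : Subgroup G).lowerCentralSeries n) := by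
  intro n
  have h : ∀ n, (S : Subgroup G).lowerCentralSeries n =
      ((⊤ : Subgroup ↥(S : Subgroup G)).lowerCentralSeries n).map (S : Subgroup G).subtype := by
    intro n
    induction n with
    | zero => exact (Subgroup.range_subtype _).symm.trans (MonoidHom.range_eq_map _)
    | succ n ih =>
      show ⁅(S : Subgroup G).lowerCentralSeries n, (S : Subgroup G)⁆ =
        Subgroup.map _ ⁅(⊤ : Subgroup ↥(S : Subgroup G)).lowerCentralSeries n, ⊤⁆
      rw [Subgroup.map_commutator, ← ih, ← MonoidHom.range_eq_map, Subgroup.range_subtype]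
  have hc : ∀ n, ((⊤ : Subgroup ↥(S : Subgroup G)).lowerCentralSeries n).Characteristic := by
    intro n
    induction n with
    | zero => exact (inferInstance : (⊤ : Subgroup ↥(S : Subgroup G)).Characteristic)
    | succ n ih =>
      show Subgroup.Characteristic (⁅(⊤ : Subgroup ↥(S : Subgroup G)).lowerCentralSeries n, (⊤ : Subgroup ↥(S : Subgroup G))⁆ : Subgroup ↥(S : Subgroup G))
      exact Subgroup.commutator_characteristic _ _
  rw [h]
  haveI := hc n
  exact autInv_map _

/-- Powers fixed by the residual are trivial. -/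
theorem pow_eq_one_of_res_fixed (hd : NoChar (S : Subgroup G)) (m : ℕ)
    (hfix : ∀ r ∈ Cfsg.pResidual p G, ∀ s ∈ (S : Subgroup G), r * s ^ m = s ^ m * r) {s : G}
    (hs : s ∈ (S : Subgroup G)) : s ^ m = 1 := by
  set K : Subgroup ↥(S : Subgroup G) := Subgroup.closure {x | ∃ y : ↥(S : Subgroup G), x = y ^ m} with hK
  haveI : K.Characteristic := by
    refine Subgroup.characteristic_iff_map_le.mpr fun φ => ?_
    rw [hK, MonoidHom.map_closure]
    refine Subgroup.closure_mono ?_
    rintro _ ⟨_, ⟨y, rfl⟩, rfl⟩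
    exact ⟨φ y, map_pow φ y m⟩
  have hbot := eq_bot_of_res_fixed hd (Subgroup.map_subtype_le K) (autInv_map K) fun r hr k hk => by
    obtain ⟨k, hk, rfl⟩ := hk
    have : K ≤ (centralizer {r}).comap (S : Subgroup G).subtype := (Subgroup.closure_le _).mpr (by
      rintro _ ⟨y, rfl⟩
      show ((y ^ m : ↥(S : Subgroup G)) : G) ∈ centralizer {r}
      rw [mem_centralizer_singleton_iff, SubmonoidClass.coe_pow]
      exact (hfix r hr y y.2).symm)
    exact (mem_centralizer_singleton_iff.mp (this hk)).symm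
  have : s ^ m ∈ K.map (S : Subgroup G).subtype :=
    ⟨⟨s, hs⟩ ^ m, Subgroup.subset_closure ⟨⟨s, hs⟩, rfl⟩, by simp⟩
  rwa [hbot, Subgroup.mem_bot] at this

theorem iterCommutator_le_sup {N X : Subgroup G} [N.Normal] [X.Normal]
    (hres : ∀ n ∈ N, ∀ r ∈ Cfsg.pResidual p G, r * n * r⁻¹ * n⁻¹ ∈ X) :
    ∀ k, Cfsg.iterCommutator N ⊤ k ≤ X ⊔ Cfsg.iterCommutator N (S : Subgroup G) k := by
  intro k
  haveI : ∀ k, (Cfsg.iterCommutator N ⊤ k).Normal := fun k => by
    induction k with
    | zero => assumption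
    | succ k ih =>
      haveI := ih
      exact Subgroup.commutator_normal _ _
  induction k with
  | zero => exact le_sup_right
  | succ k ih =>
    show ⁅Cfsg.iterCommutator N ⊤ k, ⊤⁆ ≤ X ⊔ ⁅Cfsg.iterCommutator N (S : Subgroup G) k, (S : Subgroup G)⁆
    have hN : Cfsg.iterCommutator N ⊤ k ≤ N := by
      clear ih
      induction k with
      | zero => exact le_refl N
      | succ k ih => exact le_trans (Subgroup.commutator_mono ih le_rfl) (Subgroup.commutator_le_left _ _)
    refine Subgroup.commutator_le.mpr fun a ha g _ => ?_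
    haveI := CfsgLib.PResidual.pResidual_normal (G := G) (p := p)
    obtain ⟨r, hr, s, hs, rfl⟩ := exists_mul (X := Cfsg.pResidual p G) (Y := (S : Subgroup G))
      (normalizer_top _ _) ((res_sup (S := S)).ge (mem_top g))
    obtain ⟨x, hx, i, hi, rfl⟩ := exists_mul (X := X) (normalizer_top X _) (ih ha)
    set i₁ := ⁅i, s⁆ with hi₁
    have hi1 : i₁ ∈ ⁅Cfsg.iterCommutator N (S : Subgroup G) k, (S : Subgroup G)⁆ :=
      Subgroup.commutator_mem_commutator hi hs
    have h1 : ⁅x * i, r⁆ ∈ X := by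
      rw [commutatorElement_def]
      exact comm_swap (hres _ (hN ha) r hr)
    have h2 : ⁅x * i, s⁆ = x * i₁ * x⁻¹ * ⁅x, s⁆ := by
      rw [hi₁, commutatorElement_def, commutatorElement_def, commutatorElement_def]; group
    have hxs : ⁅x, s⁆ ∈ X := by
      rw [commutatorElement_def, show x * s * x⁻¹ * s⁻¹ = x * (s * x⁻¹ * s⁻¹) by group]
      exact mul_mem hx (‹X.Normal›.conj_mem _ (inv_mem hx) s)
    set π := QuotientGroup.mk' X with hπ
    have hmem : π ⁅x * i, r * s⁆ = π i₁ := by
      have hx1 : π x = 1 := (QuotientGroup.eq_one_iff _).mpr hx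
      have e : ⁅x * i, r * s⁆ = ⁅x * i, r⁆ * (r * ⁅x * i, s⁆ * r⁻¹) := by
        simp only [commutatorElement_def]; group
      have hxs1 : π ⁅x, s⁆ = 1 := (QuotientGroup.eq_one_iff _).mpr hxs
      have hr1 : π r * π i₁ * (π r)⁻¹ = π i₁ := by
        have hiN : i₁ ∈ N := by
          have hiterN : ∀ j, Cfsg.iterCommutator N (S : Subgroup G) j ≤ N := by
            intro j
            induction j with
            | zero => exact le_refl N
            | succ j ihj => exact le_trans (Subgroup.commutator_mono ihj le_rfl) (Subgroup.commutator_le_left _ _)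
          exact Subgroup.commutator_le_left N (S : Subgroup G) (Subgroup.commutator_mem_commutator (hiterN k hi) hs)
        have h3 : π (r * i₁ * r⁻¹ * i₁⁻¹) = 1 := (QuotientGroup.eq_one_iff _).mpr (hres _ hiN r hr)
        rwa [map_mul, map_mul, map_mul, map_inv, map_inv, mul_inv_eq_one] at h3
      rw [e, h2]
      have h1' : π ⁅x * i, r⁆ = 1 := (QuotientGroup.eq_one_iff _).mpr h1
      simp only [map_mul, map_inv, h1', hxs1, hx1, one_mul, mul_one, inv_one]
      exact hr1
    rw [show ⁅x * i, r * s⁆ = (⁅x * i, r * s⁆ * i₁⁻¹) * i₁ by group]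
    refine mul_mem (mem_sup_left ((QuotientGroup.eq_one_iff _).mp ?_)) (mem_sup_right hi1)
    show π (⁅x * i, r * s⁆ * i₁⁻¹) = 1
    rw [map_mul, hmem, map_inv, mul_inv_cancel]

/-- A layer on which the residual acts trivially is hypercentral. -/
theorem exists_iter_le {N X : Subgroup G} [N.Normal] [X.Normal] (hN : N ≤ (S : Subgroup G))
    (hres : ∀ n ∈ N, ∀ r ∈ Cfsg.pResidual p G, r * n * r⁻¹ * n⁻¹ ∈ X) :
    ∃ k : ℕ, Cfsg.iterCommutator N ⊤ k ≤ X := by
  obtain ⟨k, hk⟩ := Subgroup.nilpotent_iff_lowerCentralSeries.mp (S.isPGroup'.isNilpotent)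
  refine ⟨k, (iterCommutator_le_sup (S := S) hres k).trans (sup_le le_rfl ?_)⟩
  have h : ∀ j, Cfsg.iterCommutator N (S : Subgroup G) j ≤
      ((⊤ : Subgroup ↥(S : Subgroup G)).lowerCentralSeries j).map (S : Subgroup G).subtype := by
    intro j
    induction j with
    | zero =>
      show N ≤ Subgroup.map _ ⊤
      rw [← MonoidHom.range_eq_map, Subgroup.range_subtype]; exact hN
    | succ j ihj =>
      show ⁅_, (S : Subgroup G)⁆ ≤ Subgroup.map _ ⁅_, ⊤⁆
      rw [Subgroup.map_commutator, ← MonoidHom.range_eq_map, Subgroup.range_subtype]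
      exact Subgroup.commutator_mono ihj le_rfl
  refine (h k).trans ?_
  rw [hk, Subgroup.map_bot]
  exact bot_le

end CfsgLib.PushUp
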