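import Mathlib
import Cfsg.Agent.Lib.PushUp.Flag

/-!
Critical chains in a system of flags, and their extension in general position.
-/

set_option autoImplicit false

namespace CfsgLib.PushUp

open Subgroup

variable {Γ : Type*} [Group Γ] [Finite Γ] {p : ℕ}

/-- Two mutually acting flags. -/
theorem cover {H Q V T H' Q' V' T' : Subgroup Γ} (F : Flag p H Q V T) (F' : Flag p H' Q' V' T')
    (hV : V ≤ T') (hV' : V' ≤ T) (hne : ¬ V ≤ Q') :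
    ¬ V' ≤ Q ∧ V' ⊔ Q = T ∧ V ⊔ Q' = T' ∧ Nat.card Q * Nat.card T' = Nat.card T * Nat.card Q' := by
  obtain ⟨y, hy, hyQ⟩ := SetLike.not_le_iff_exists.mp hne
  have hne' : ¬ V' ≤ Q := fun hle =>
    hyQ (F'.mem_of_cent (hV hy) fun v hv => ((F.V_cent _ (hle hv) y hy)).symm)
  obtain ⟨z, hz, hzQ⟩ := SetLike.not_le_iff_exists.mp hne'
  have half : ∀ {H Q V T H' Q' V' T' : Subgroup Γ}, Flag p H Q V T → Flag p H' Q' V' T' →
      V' ≤ T → ∀ y ∈ V, y ∈ T' → y ∉ Q' →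
      Nat.card Q * Nat.card T' ≤ Nat.card ↥(Q ⊔ V') * Nat.card Q' := by
    intro H Q V T H' Q' V' T' F F' hV' y hy hyT hyQ
    have h1 := CfsgLib.ZJ.card_mul_eq_of_le_normalizer (H := Q) (K := V') (hV'.trans F.T_le_norm_Q)
    have h2 : Q ⊓ V' ≤ V' ⊓ centralizer (T' : Set Γ) := fun w hw =>
      ⟨hw.2, F'.fixed y hyT hyQ w hw.2 (F.V_cent w hw.1 y hy).symm⟩
    have h3 : Nat.card Q * Nat.card V' ≤ Nat.card ↥(Q ⊔ V') * Nat.card ↥(V' ⊓ centralizer (T' : Set Γ)) :=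
      h1.le.trans (Nat.mul_le_mul le_rfl (Subgroup.card_le_of_le h2))
    refine Nat.le_of_mul_le_mul_right ?_ (Nat.card_pos (α := ↥(V' ⊓ centralizer (T' : Set Γ))))
    calc Nat.card Q * Nat.card T' * Nat.card ↥(V' ⊓ centralizer (T' : Set Γ))
        = Nat.card Q * (Nat.card Q' * Nat.card V') := by rw [mul_assoc, F'.index]
      _ = Nat.card Q * Nat.card V' * Nat.card Q' := by ring
      _ ≤ Nat.card ↥(Q ⊔ V') * Nat.card ↥(V' ⊓ centralizer (T' : Set Γ)) * Nat.card Q' :=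
          Nat.mul_le_mul h3 le_rfl
      _ = _ := by ring
  have hA := half F F' hV' y hy (hV hy) hyQ
  have hB := half F' F hV z hz (hV' hz) hzQ
  have hle : Q ⊔ V' ≤ T := sup_le F.Q_le hV'
  have hle' : Q' ⊔ V ≤ T' := sup_le F'.Q_le hV
  refine ⟨hne', ?_, ?_, le_antisymm (hA.trans (Nat.mul_le_mul (Subgroup.card_le_of_le hle) le_rfl)) ?_⟩
  · rw [sup_comm]
    refine Subgroup.eq_of_le_of_card_ge hle
      (Nat.le_of_mul_le_mul_right ?_ (Nat.card_pos (α := Q')))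
    calc Nat.card T * Nat.card Q' = Nat.card Q' * Nat.card T := mul_comm _ _
      _ ≤ Nat.card ↥(Q' ⊔ V) * Nat.card Q := hB
      _ ≤ Nat.card T' * Nat.card Q := Nat.mul_le_mul (Subgroup.card_le_of_le hle') le_rfl
      _ = Nat.card Q * Nat.card T' := mul_comm _ _
      _ ≤ _ := hA
  · rw [sup_comm]
    refine Subgroup.eq_of_le_of_card_ge hle'
      (Nat.le_of_mul_le_mul_right ?_ (Nat.card_pos (α := Q)))
    calc Nat.card T' * Nat.card Q = Nat.card Q * Nat.card T' := mul_comm _ _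
      _ ≤ Nat.card ↥(Q ⊔ V') * Nat.card Q' := hA
      _ ≤ Nat.card T * Nat.card Q' := Nat.mul_le_mul (Subgroup.card_le_of_le hle) le_rfl
      _ = Nat.card Q' * Nat.card T := mul_comm _ _
      _ ≤ _ := hB
  · calc Nat.card T * Nat.card Q' = Nat.card Q' * Nat.card T := mul_comm _ _
      _ ≤ Nat.card ↥(Q' ⊔ V) * Nat.card Q := hB
      _ ≤ Nat.card T' * Nat.card Q := Nat.mul_le_mul (Subgroup.card_le_of_le hle') le_rfl
      _ = _ := mul_comm _ _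

namespace Sys

variable (𝒮 : Sys Γ p)

theorem le_W {u : 𝒮.α} {T : Subgroup Γ} (h : 𝒮.edge u T) (hm : 𝒮.mem u) : 𝒮.V u ≤ 𝒮.W T :=
  le_iSup (fun u : {u : 𝒮.α // 𝒮.edge u T ∧ 𝒮.mem u} => 𝒮.V u) ⟨u, h, hm⟩

theorem W_le {T X : Subgroup Γ} (h : ∀ u, 𝒮.edge u T → 𝒮.mem u → 𝒮.V u ≤ X) : 𝒮.W T ≤ X :=
  iSup_le fun u => h u u.2.1 u.2.2

theorem le_normalizer_W (T : Subgroup Γ) : T ≤ normalizer (𝒮.W T : Set Γ) := by
  intro t ht
  refine mem_normalizer_of_conj fun x hx => ?_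
  have hle : 𝒮.W T ≤ (𝒮.W T).comap (MulAut.conj t).toMonoidHom := by
    refine 𝒮.W_le fun u hu hm w hw => ?_
    have h1 : 𝒮.edge (𝒮.mv t u) T := by
      have := 𝒮.edge_mv t u T hu
      rwa [cj_eq_self (Subgroup.le_normalizer ht)] at this
    exact 𝒮.le_W h1 (𝒮.mem_mv t u hm) (by rw [𝒮.V_mv]; exact ⟨w, hw, rfl⟩)
  exact hle hx

end Sys

/-- A chain of vertices. -/
structure Chain (𝒮 : Sys Γ p) (b L : ℕ) where
  c : ℕ → 𝒮.α
  e : ℕ → Subgroup Γ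
  edge_l : ∀ i, i < L → 𝒮.edge (c i) (e i)
  edge_r : ∀ i, i < L → 𝒮.edge (c (i + 1)) (e i)
  hb : 1 ≤ b
  hL : b ≤ L
  below : 𝒮.Below b

namespace Chain

variable {𝒮 : Sys Γ p} {b L : ℕ} (C : Chain 𝒮 b L)

theorem exists_edge {i : ℕ} (hi : i ≤ L) : ∃ T, 𝒮.edge (C.c i) T := by
  rcases Nat.lt_or_eq_of_le hi with h | h
  · exact ⟨_, C.edge_l i h⟩
  · have := C.hb; have := C.hL
    refine ⟨C.e (i - 1), ?_⟩
    have h1 := C.edge_r (i - 1) (by omega)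
    rwa [show i - 1 + 1 = i by omega] at h1

theorem reach {i : ℕ} : ∀ d, i + d ≤ L → 𝒮.Reach d (C.c i) (C.c (i + d)) := by
  intro d
  induction d with
  | zero => intro _; rfl
  | succ d ih =>
    intro h
    exact 𝒮.reach_append d 1 _ _ _ (ih (by omega))
      ⟨C.c (i + d + 1), ⟨C.e (i + d), C.edge_l _ (by omega), C.edge_r _ (by omega)⟩, rfl⟩

theorem reach' {i j : ℕ} (hi : i ≤ L) (hj : j ≤ L) : 𝒮.Reach ((i - j) + (j - i)) (C.c i) (C.c j) := by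
  rcases Nat.le_total i j with h | h
  · obtain ⟨d, rfl⟩ := Nat.le.dest h
    rw [show i - (i + d) + (i + d - i) = d by omega]
    exact C.reach d hj
  · obtain ⟨d, rfl⟩ := Nat.le.dest h
    rw [show j + d - j + (j - (j + d)) = d by omega]
    exact 𝒮.reach_symm d _ _ (C.reach d hi)

theorem near {i j : ℕ} (hi : i ≤ L) (hj : j ≤ L) (h1 : i < j + b) (h2 : j < i + b) :
    𝒮.V (C.c i) ≤ 𝒮.Q (C.c j) :=
  C.below _ (by omega) _ _ (C.reach' hi hj)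

/-- Vertices at distance one from a vertex of the chain. -/
theorem near_adj {u : 𝒮.α} {i j : ℕ} {T : Subgroup Γ} (hu : 𝒮.edge u T) (hT : 𝒮.edge (C.c i) T)
    (hi : i ≤ L) (hj : j ≤ L) (h : (i - j) + (j - i) + 1 < b) : 𝒮.V u ≤ 𝒮.Q (C.c j) :=
  C.below _ (show 1 + ((i - j) + (j - i)) < b by omega) _ _
    (𝒮.reach_append 1 _ _ _ _ ⟨_, ⟨T, hu, hT⟩, rfl⟩ (C.reach' hi hj))

theorem comm_adj {u : 𝒮.α} {i j : ℕ} {T : Subgroup Γ} (hu : 𝒮.edge u T) (hT : 𝒮.edge (C.c i) T)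
    (hi : i ≤ L) (hj : j ≤ L) (h : (i - j) + (j - i) + 1 < b) : Comm (𝒮.V u) (𝒮.V (C.c j)) := by
  obtain ⟨T', hT'⟩ := C.exists_edge hj
  exact fun x hx y hy => (𝒮.flag _ _ hT').V_cent x (C.near_adj hu hT hi hj h hx) y hy

theorem comm {i j : ℕ} (hi : i ≤ L) (hj : j ≤ L) (h1 : i < j + b) (h2 : j < i + b) :
    Comm (𝒮.V (C.c i)) (𝒮.V (C.c j)) := by
  obtain ⟨T', hT'⟩ := C.exists_edge hj
  exact fun x hx y hy => (𝒮.flag _ _ hT').V_cent x (C.near hi hj h1 h2 hx) y hy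

theorem flag_l {i : ℕ} (hi : i < L) : Flag p (𝒮.H (C.c i)) (𝒮.Q (C.c i)) (𝒮.V (C.c i)) (C.e i) :=
  𝒮.flag _ _ (C.edge_l i hi)

theorem flag_r {i : ℕ} (hi : i < L) :
    Flag p (𝒮.H (C.c (i + 1))) (𝒮.Q (C.c (i + 1))) (𝒮.V (C.c (i + 1))) (C.e i) :=
  𝒮.flag _ _ (C.edge_r i hi)

theorem V_le_edge_l {i j : ℕ} (hi : i ≤ L) (hj : j < L) (h1 : i < j + 1 + b) (h2 : j + 1 < i + b) :
    𝒮.V (C.c i) ≤ C.e j :=
  (C.near hi hj h1 h2).trans (C.flag_r hj).Q_le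

theorem V_le_edge_r {i j : ℕ} (hi : i ≤ L) (hj : j < L) (h1 : i < j + b) (h2 : j < i + b) :
    𝒮.V (C.c i) ≤ C.e j :=
  (C.near hi hj.le h1 h2).trans (C.flag_l hj).Q_le

theorem cover_at {i : ℕ} (hi : i + b ≤ L) (hc : ¬ 𝒮.V (C.c i) ≤ 𝒮.Q (C.c (i + b))) :
    ¬ 𝒮.V (C.c (i + b)) ≤ 𝒮.Q (C.c i) ∧ 𝒮.V (C.c (i + b)) ⊔ 𝒮.Q (C.c i) = C.e i ∧
      𝒮.V (C.c i) ⊔ 𝒮.Q (C.c (i + b)) = C.e (i + b - 1) := by
  have hb := C.hb
  have hflag : Flag p (𝒮.H (C.c (i + b))) (𝒮.Q (C.c (i + b))) (𝒮.V (C.c (i + b))) (C.e (i + b - 1)) := by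
    have h := C.flag_r (i := i + b - 1) (by omega)
    rwa [show i + b - 1 + 1 = i + b by omega] at h
  have h := cover (C.flag_l (by omega)) hflag
    ((C.near (by omega) (j := i + b - 1) (by omega) (by omega) (by omega)).trans (C.flag_l (by omega)).Q_le)
    ((C.near (j := i + 1) hi (by omega) (by omega) (by omega)).trans (C.flag_r (by omega)).Q_le) hc
  exact ⟨h.1, h.2.1, h.2.2.1⟩

theorem cover_card {i : ℕ} (hi : i + b ≤ L) (hc : ¬ 𝒮.V (C.c i) ≤ 𝒮.Q (C.c (i + b))) :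
    Nat.card (𝒮.Q (C.c i)) * Nat.card (C.e (i + b - 1)) = Nat.card (C.e i) * Nat.card (𝒮.Q (C.c (i + b))) := by
  have hb := C.hb
  have hflag : Flag p (𝒮.H (C.c (i + b))) (𝒮.Q (C.c (i + b))) (𝒮.V (C.c (i + b))) (C.e (i + b - 1)) := by
    have h := C.flag_r (i := i + b - 1) (by omega)
    rwa [show i + b - 1 + 1 = i + b by omega] at h
  exact (cover (C.flag_l (by omega)) hflag
    ((C.near (by omega) (j := i + b - 1) (by omega) (by omega) (by omega)).trans (C.flag_l (by omega)).Q_le)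
    ((C.near (j := i + 1) hi (by omega) (by omega) (by omega)).trans (C.flag_r (by omega)).Q_le) hc).2.2.2

theorem split_r {i : ℕ} (hi : i + b ≤ L) (hc : ¬ 𝒮.V (C.c i) ≤ 𝒮.Q (C.c (i + b))) {x : Γ} (hx : x ∈ C.e i) :
    ∃ w ∈ 𝒮.V (C.c (i + b)), ∃ q ∈ 𝒮.Q (C.c i), w * q = x := by
  have hb := C.hb
  obtain ⟨-, h, -⟩ := C.cover_at hi hc
  refine exists_mul' ?_ (h.ge hx)
  exact ((C.near (j := i + 1) hi (by omega) (by omega) (by omega)).trans (C.flag_r (by omega)).Q_le).trans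
    (C.flag_l (by omega)).T_le_norm_Q

theorem split_l {i : ℕ} (hi : i + b ≤ L) (hc : ¬ 𝒮.V (C.c i) ≤ 𝒮.Q (C.c (i + b))) {x : Γ}
    (hx : x ∈ C.e (i + b - 1)) :
    ∃ w ∈ 𝒮.V (C.c i), ∃ q ∈ 𝒮.Q (C.c (i + b)), w * q = x := by
  have hb := C.hb
  obtain ⟨-, -, h⟩ := C.cover_at hi hc
  refine exists_mul' ?_ (h.ge hx)
  have hflag := C.flag_r (i := i + b - 1) (by omega)
  rw [show i + b - 1 + 1 = i + b by omega] at hflag
  exact ((C.near (by omega) (j := i + b - 1) (by omega) (by omega) (by omega)).trans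
    (C.flag_l (by omega)).Q_le).trans hflag.T_le_norm_Q

/-- A critical chain extends to the left, in general position. -/
theorem shift (hc : ¬ 𝒮.V (C.c 0) ≤ 𝒮.Q (C.c b)) (hm : 𝒮.mem (C.c 0)) :
    ∃ u T', 𝒮.mem u ∧ 𝒮.edge u T' ∧ 𝒮.edge (C.c 0) T' ∧ Opp (𝒮.H (C.c 0)) (𝒮.Q (C.c 0)) T' (C.e 0) ∧
      ¬ 𝒮.V u ≤ 𝒮.Q (C.c (b - 1)) := by
  have hb := C.hb; have hL := C.hL
  obtain ⟨T', hT', hopp⟩ := 𝒮.exists_opp _ _ (C.edge_l 0 (by omega))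
  by_contra hno
  push Not at hno
  have hW : 𝒮.W T' ≤ 𝒮.Q (C.c (b - 1)) := 𝒮.W_le fun u hu hu' => hno u T' hu' hu hT' hopp.symm
  have hcz : ¬ 𝒮.V (C.c 0) ≤ 𝒮.Q (C.c (0 + b)) := by simpa using hc
  obtain ⟨hne, -, -⟩ := C.cover_at (i := 0) (by omega) hcz
  rw [Nat.zero_add] at hne
  obtain ⟨x, hx, hxQ⟩ := SetLike.not_le_iff_exists.mp hne
  have hxe : x ∈ C.e 0 := C.V_le_edge_l (i := b) (j := 0) hL (by omega) (by omega) (by omega) hx
  have hxN : x ∈ normalizer (𝒮.W T' : Set Γ) := by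
    refine mem_normalizer_of_conj fun w hw => ?_
    have hwe : w ∈ C.e (0 + b - 1) := by
      rw [Nat.zero_add]
      exact (C.flag_l (by omega)).Q_le (hW hw)
    obtain ⟨a, ha, q, hq, rfl⟩ := C.split_l (i := 0) (by omega) hcz hwe
    rw [Nat.zero_add] at hq
    obtain ⟨T, hT⟩ := C.exists_edge hL
    have hqx : q * x = x * q := (𝒮.flag _ _ hT).V_cent q hq x hx
    have e : x * (a * q) * x⁻¹ = (x * a * x⁻¹ * a⁻¹) * (a * q) := by
      calc x * (a * q) * x⁻¹ = x * a * (q * x⁻¹) := by group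
        _ = x * a * (x⁻¹ * q) := by rw [(Commute.inv_right (show Commute q x from hqx)).eq]
        _ = _ := by group
    rw [e]
    exact mul_mem (𝒮.le_W hT' hm ((C.flag_l (by omega)).comm_mem_V ((C.flag_l (by omega)).T_le hxe) ha)) hw
  refine 𝒮.alive _ _ hT' hm ?_
  rw [← hopp.left x hxe hxQ]
  exact sup_le ((Subgroup.closure_le _).mpr (Set.singleton_subset_iff.mpr hxN)) (𝒮.le_normalizer_W T')

end Chain

/-- A long critical chain in general position. -/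
structure Line (𝒮 : Sys Γ p) (b L : ℕ) extends Chain 𝒮 b L where
  opp : ∀ i, i + 1 < L → Opp (𝒮.H (c (i + 1))) (𝒮.Q (c (i + 1))) (e i) (e (i + 1))
  crit : ∀ i, i + b ≤ L → ¬ 𝒮.V (c i) ≤ 𝒮.Q (c (i + b))
  marked : ∀ i, i + b ≤ L → 𝒮.mem (c i)

theorem exists_extend {𝒮 : Sys Γ p} {b : ℕ} (C : Chain 𝒮 b b) (hc : ¬ 𝒮.V (C.c 0) ≤ 𝒮.Q (C.c b))
    (hm : 𝒮.mem (C.c 0)) :
    ∀ k, ∃ D : Chain 𝒮 b (b + k), (∀ i, i < k → Opp (𝒮.H (D.c (i + 1))) (𝒮.Q (D.c (i + 1))) (D.e i) (D.e (i + 1))) ∧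
      ∀ i, i ≤ k → ¬ 𝒮.V (D.c i) ≤ 𝒮.Q (D.c (i + b)) ∧ 𝒮.mem (D.c i) := by
  intro k
  induction k with
  | zero =>
    refine ⟨C, fun i hi => by omega, fun i hi => ?_⟩
    obtain rfl : i = 0 := by omega
    rw [Nat.zero_add]; exact ⟨hc, hm⟩
  | succ k ih =>
    obtain ⟨D, hopp, hcrit⟩ := ih
    obtain ⟨u, T', hum, hu, hT', ho, hn⟩ :=
      D.shift (by simpa using (hcrit 0 (Nat.zero_le _)).1) (hcrit 0 (Nat.zero_le _)).2
    have hb := C.hb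
    refine ⟨⟨fun i => match i with | 0 => u | j + 1 => D.c j, fun i => match i with | 0 => T' | j + 1 => D.e j,
      ?_, ?_, hb, by omega, C.below⟩, ?_, ?_⟩
    · rintro (_ | j) hj
      · exact hu
      · exact D.edge_l j (by omega)
    · rintro (_ | j) hj
      · exact hT'
      · exact D.edge_r j (by omega)
    · rintro (_ | j) hj
      · exact ho
      · exact hopp j (by omega)
    · rintro (_ | j) hj
      · refine ⟨?_, hum⟩
        show ¬ 𝒮.V u ≤ 𝒮.Q _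
        obtain ⟨b', rfl⟩ : ∃ b', b = b' + 1 := ⟨b - 1, by omega⟩
        simpa using hn
      · have h := hcrit j (by omega)
        refine ⟨?_, h.2⟩
        show ¬ 𝒮.V (D.c j) ≤ 𝒮.Q _
        rw [show j + 1 + b = (j + b) + 1 by omega]
        exact h.1

theorem exists_line {𝒮 : Sys Γ p} {b : ℕ} (C : Chain 𝒮 b b) (hc : ¬ 𝒮.V (C.c 0) ≤ 𝒮.Q (C.c b))
    (hm : 𝒮.mem (C.c 0)) (L : ℕ) (hL : b ≤ L) : Nonempty (Line 𝒮 b L) := by
  obtain ⟨D, hopp, hcrit⟩ := exists_extend C hc hm L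
  exact ⟨⟨⟨D.c, D.e, fun i hi => D.edge_l i (by omega), fun i hi => D.edge_r i (by omega), C.hb, hL, C.below⟩,
    fun i hi => hopp i (by omega), fun i hi => (hcrit i (by omega)).1, fun i hi => (hcrit i (by omega)).2⟩⟩

end CfsgLib.PushUp
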