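import Mathlib
import Cfsg.Agent.Lib.PushUp.GroupFacts
import Cfsg.Agent.Lib.PushUp.Chain

/-!
The system of flags of a rank-one pushing up group inside the symmetric group on its elements.
-/

set_option autoImplicit false

namespace CfsgLib.PushUp

open Cfsg Subgroup CfsgLib.PushRankOne

universe u

section Map

variable {G Γ : Type*} [Group G] [Group Γ] {f : G →* Γ}

theorem map_inf_cent (hf : Function.Injective f) (A B : Subgroup G) :
    A.map f ⊓ centralizer (B.map f : Set Γ) = (A ⊓ centralizer (B : Set G)).map f := by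
  ext y
  constructor
  · rintro ⟨⟨a, ha, rfl⟩, h⟩
    exact ⟨a, ⟨ha, fun b hb => hf (by rw [map_mul, map_mul]; exact h _ ⟨b, hb, rfl⟩)⟩, rfl⟩
  · rintro ⟨a, ⟨ha, h⟩, rfl⟩
    refine ⟨⟨a, ha, rfl⟩, ?_⟩
    rintro _ ⟨b, hb, rfl⟩
    rw [← map_mul, ← map_mul, h b hb]

theorem map_mem_cent (hf : Function.Injective f) {B : Subgroup G} {a : G} :
    f a ∈ centralizer (B.map f : Set Γ) ↔ a ∈ centralizer (B : Set G) := by
  constructor
  · exact fun h b hb => hf (by rw [map_mul, map_mul]; exact h _ ⟨b, hb, rfl⟩)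
  · intro h
    rintro _ ⟨b, hb, rfl⟩
    rw [← map_mul, ← map_mul, h b hb]

theorem map_le_normalizer {A B : Subgroup G} (h : A ≤ normalizer (B : Set G)) :
    A.map f ≤ normalizer (B.map f : Set Γ) :=
  (Subgroup.map_mono h).trans (Subgroup.le_normalizer_map f)

theorem Flag.map {p : ℕ} {H Q V T : Subgroup G} (F : Flag p H Q V T) (hf : Function.Injective f) :
    Flag p (H.map f) (Q.map f) (V.map f) (T.map f) where
  Q_le := Subgroup.map_mono F.Q_le
  T_le := Subgroup.map_mono F.T_le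
  V_le := Subgroup.map_mono F.V_le
  norm_Q := map_le_normalizer F.norm_Q
  norm_V := map_le_normalizer F.norm_V
  isP := F.isP.map f
  comm := by
    rintro _ ⟨t, ht, rfl⟩ _ ⟨t', ht', rfl⟩
    exact ⟨_, F.comm t ht t' ht', by simp⟩
  exp := by
    rintro _ ⟨t, ht, rfl⟩
    exact ⟨_, F.exp t ht, by simp⟩
  elem := by
    rintro _ ⟨v, hv, rfl⟩
    rw [← map_pow, F.elem v hv, map_one]
  abel := by
    rintro _ ⟨v, hv, rfl⟩ _ ⟨w, hw, rfl⟩
    rw [← map_mul, ← map_mul, F.abel v hv w hw]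
  center := by
    rintro _ ⟨x, hx, rfl⟩ hc hp
    exact ⟨x, F.center x hx (fun q hq => hf (by rw [map_mul, map_mul]; exact hc _ ⟨q, hq, rfl⟩))
      (hf (by rw [map_pow, map_one]; exact hp)), rfl⟩
  V_central := by
    rintro _ ⟨v, hv, rfl⟩ _ ⟨q, hq, rfl⟩
    rw [← map_mul, ← map_mul, F.V_cent q hq v hv]
  fx_le := by
    rw [map_inf_cent hf]
    exact Subgroup.map_mono F.fx_le
  cent := by rw [map_inf_cent hf, F.cent]
  fixed := by
    rintro _ ⟨x, hx, rfl⟩ hxQ _ ⟨v, hv, rfl⟩ h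
    rw [map_mem_cent hf]
    exact F.fixed x hx (fun h' => hxQ ⟨x, h', rfl⟩) v hv (hf (by rw [map_mul, map_mul]; exact h))
  quad := by
    rintro _ ⟨v, hv, rfl⟩ _ ⟨t, ht, rfl⟩
    rw [← map_mul, ← map_inv, ← map_mul, ← map_inv, ← map_mul, map_mem_cent hf]
    exact F.quad v hv t ht
  index := by
    rw [map_inf_cent hf]
    simp only [Subgroup.card_map_of_injective hf]
    exact F.index
  fixmod := by
    rintro _ ⟨v, hv, rfl⟩ h
    rw [map_mem_cent hf]
    refine F.fixmod v hv fun t ht => ?_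
    have h1 := h _ ⟨t, ht, rfl⟩
    rwa [← map_mul, ← map_inv, ← map_mul, ← map_inv, ← map_mul, map_mem_cent hf] at h1
  exists_mem := by
    obtain ⟨x, hx, hxQ⟩ := F.exists_mem
    exact ⟨f x, ⟨x, hx, rfl⟩, fun ⟨q, hq, h⟩ => hxQ (hf h ▸ hq)⟩
  cases := by
    intro L hL hn
    have hLeq : (L.comap f).map f = L := by
      rw [Subgroup.map_comap_eq]
      exact inf_eq_right.mpr (hL.trans (Subgroup.map_le_range f H))
    have h1 : L.comap f ≤ H := fun x hx => by
      obtain ⟨y, hy, hxy⟩ := hL hx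
      exact hf hxy ▸ hy
    have h2 : H ≤ normalizer (L.comap f : Set G) := fun x hx => by
      have h3 := Subgroup.mem_normalizer_iff.mp (hn ⟨x, hx, rfl⟩)
      rw [Subgroup.mem_normalizer_iff]
      intro y
      simp only [Subgroup.mem_comap, map_mul, map_inv]
      exact h3 (f y)
    rcases F.cases _ h1 h2 with h | h
    · left; rw [← h, Subgroup.map_sup, hLeq]
    · right
      rw [← hLeq, ← Subgroup.map_inf _ _ _ hf]
      exact Subgroup.map_mono h

theorem Opp.map {H Q T T' : Subgroup G} (h : Opp H Q T T') :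
    Opp (H.map f) (Q.map f) (T.map f) (T'.map f) := by
  constructor
  · rintro _ ⟨x, hx, rfl⟩ hxQ
    rw [← h.left x hx (fun h' => hxQ ⟨x, h', rfl⟩), Subgroup.map_sup, MonoidHom.map_closure, Set.image_singleton]
  · rintro _ ⟨x, hx, rfl⟩ hxQ
    rw [← h.right x hx (fun h' => hxQ ⟨x, h', rfl⟩), Subgroup.map_sup, MonoidHom.map_closure, Set.image_singleton]

theorem cj_cj (a b : Γ) (K : Subgroup Γ) : cj a (cj b K) = cj (a * b) K := by
  ext x; simp only [mem_cj, mul_inv_rev, mul_assoc]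

theorem map_cj (k : G) (X : Subgroup G) : (cj k X).map f = cj (f k) (X.map f) := by
  rw [cj, cj, Subgroup.map_map, Subgroup.map_map]
  congr 1
  ext x
  simp

theorem cj_one (K : Subgroup Γ) : cj 1 K = K := by
  ext x; simp [mem_cj]

theorem map_conj_comp (m : Γ) (X : Subgroup G) :
    X.map ((MulAut.conj m).toMonoidHom.comp f) = cj m (X.map f) := by
  rw [cj, Subgroup.map_map]

end Map

/-- Automorphisms of a subgroup are induced by permutations of the group. -/
theorem exists_perm {G : Type*} [Group G] (S : Subgroup G) (φ : ↥S ≃* ↥S) :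
    ∃ n : Equiv.Perm G, ∀ s : ↥S, n * MulAction.toPermHom G G (s : G) * n⁻¹ =
      MulAction.toPermHom G G ((φ s : ↥S) : G) := by
  classical
  let r : G → G := fun x => (x : G ⧸ S).out
  have hr : ∀ x : G, (r x)⁻¹ * x ∈ S := fun x => QuotientGroup.eq.mp (x : G ⧸ S).out_eq
  have hrm : ∀ x : G, ∀ s ∈ S, r (x * s) = r x := fun x s hs => by
    simp only [r, QuotientGroup.mk_mul_of_mem x hs]
  let m : (↥S ≃* ↥S) → G → G := fun ψ x => r x * (ψ ⟨(r x)⁻¹ * x, hr x⟩ : ↥S)
  have hmm : ∀ ψ : ↥S ≃* ↥S, ∀ x, m ψ.symm (m ψ x) = x := by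
    intro ψ x
    have h1 : r (m ψ x) = r x := by
      show r (r x * _) = r x
      rw [hrm _ _ (ψ _).2]
      simp only [r, QuotientGroup.out_eq']
    have h2 : (⟨(r (m ψ x))⁻¹ * m ψ x, hr _⟩ : ↥S) = ψ ⟨(r x)⁻¹ * x, hr x⟩ := Subtype.ext (by
      show (r (m ψ x))⁻¹ * m ψ x = _
      rw [h1]; simp [m])
    show r (m ψ x) * ((ψ.symm ⟨(r (m ψ x))⁻¹ * m ψ x, hr _⟩ : ↥S) : G) = x
    rw [h2, ψ.symm_apply_apply, h1]
    exact mul_inv_cancel_left _ _
  let M : Equiv.Perm G := ⟨m φ, m φ.symm, hmm φ, fun x => by simpa using hmm φ.symm x⟩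
  let I : Equiv.Perm G := Equiv.inv G
  refine ⟨I * M * I, fun s => ?_⟩
  rw [mul_inv_eq_iff_eq_mul]
  ext x
  simp only [Equiv.Perm.mul_apply, MulAction.toPermHom_apply, MulAction.toPerm_apply, smul_eq_mul]
  show (m φ ((s : G) * x)⁻¹)⁻¹ = ((φ s : ↥S) : G) * (m φ x⁻¹)⁻¹
  have h1 : r ((s : G) * x)⁻¹ = r x⁻¹ := by
    rw [mul_inv_rev]; exact hrm _ _ (inv_mem s.2)
  have h2 : (⟨(r ((s : G) * x)⁻¹)⁻¹ * ((s : G) * x)⁻¹, hr _⟩ : ↥S) = ⟨(r x⁻¹)⁻¹ * x⁻¹, hr _⟩ * s⁻¹ :=
    Subtype.ext (by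
      show (r ((s : G) * x)⁻¹)⁻¹ * ((s : G) * x)⁻¹ = _
      rw [h1]; simp [mul_assoc])
  show (r ((s : G) * x)⁻¹ * ((φ ⟨(r ((s : G) * x)⁻¹)⁻¹ * ((s : G) * x)⁻¹, hr _⟩ : ↥S) : G))⁻¹ = _
  rw [h2, h1, map_mul, map_inv]
  simp [m, mul_assoc]

section System

variable {G : Type u} [Group G] [Finite G] {p : ℕ} [Fact p.Prime] (S : Sylow p G)

/-- The left regular representation. -/
abbrev emb : G →* Equiv.Perm G := MulAction.toPermHom G G

omit [Finite G] in
theorem emb_injective : Function.Injective (emb : G →* Equiv.Perm G) := by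
  intro a b h
  have := congrArg (fun e : Equiv.Perm G => e 1) h
  simpa using this

variable {S}

/-- The edge relation of the system. -/
def IsEdge (S : Sylow p G) (g : Equiv.Perm G) (T : Subgroup (Equiv.Perm G)) : Prop :=
  (∃ γ, T = cj γ ((S : Subgroup G).map emb)) ∧ T ≤ cj g ((⊤ : Subgroup G).map emb)

theorem IsEdge.exists_eq {g : Equiv.Perm G} {T : Subgroup (Equiv.Perm G)} (h : IsEdge S g T) :
    ∃ k : G, T = cj (g * emb k) ((S : Subgroup G).map emb) := by
  obtain ⟨⟨γ, rfl⟩, hle⟩ := h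
  set T' := (cj (g⁻¹ * γ) ((S : Subgroup G).map emb)).comap emb with hT'
  have hsub : cj (g⁻¹ * γ) ((S : Subgroup G).map emb) ≤ (⊤ : Subgroup G).map emb := by
    intro x hx
    have h1 : g * x * g⁻¹ ∈ cj g ((⊤ : Subgroup G).map emb) := hle (by
      rw [mem_cj] at hx ⊢
      simpa [mul_assoc] using hx)
    simpa [mul_assoc] using mem_cj.mp h1
  have hmap : T'.map emb = cj (g⁻¹ * γ) ((S : Subgroup G).map emb) := by
    rw [hT', Subgroup.map_comap_eq]
    exact inf_eq_right.mpr (hsub.trans (Subgroup.map_le_range _ _))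
  have hcard : Nat.card T' = Nat.card (S : Subgroup G) := by
    rw [← Subgroup.card_map_of_injective (f := emb) emb_injective (K := T'), hmap,
      Subgroup.card_map_of_injective (MulEquiv.injective _), Subgroup.card_map_of_injective emb_injective]
  have hp : IsPGroup p T' := (((S.isPGroup'.map emb).map _)).comap_of_injective emb emb_injective
  obtain ⟨P, hP⟩ := hp.exists_le_sylow
  have hPT : T' = (P : Subgroup G) := Subgroup.eq_of_le_of_card_ge hP (by
    rw [hcard]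
    obtain ⟨k, rfl⟩ := MulAction.exists_smul_eq G S P
    exact (Subgroup.card_map_of_injective (MulEquiv.injective _)).le)
  obtain ⟨k, hk⟩ := MulAction.exists_smul_eq G S P
  refine ⟨k, ?_⟩
  have hk' : T' = cj k (S : Subgroup G) := by rw [hPT, ← hk]; rfl
  rw [← cj_cj g (emb k), show cj (emb k) ((S : Subgroup G).map emb) = (cj k (S : Subgroup G)).map emb from ?_,
    ← hk', hmap, cj_cj, mul_inv_cancel_left]
  exact (map_cj k (S : Subgroup G)).symm

theorem cj_emb {X : Subgroup G} {k : G} (hk : k ∈ normalizer (X : Set G)) :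
    cj (emb k) (X.map emb) = X.map emb :=
  cj_eq_self (Subgroup.le_normalizer_map (emb : G →* Equiv.Perm G) ⟨k, hk, rfl⟩)

theorem norm_of_normal (X : Subgroup G) [X.Normal] (k : G) : k ∈ normalizer (X : Set G) := by
  rw [Subgroup.normalizer_eq_top]; exact mem_top k

variable (hS : Setting S) (hd : Mild S)
include hS hd

theorem flag_edge (g : Equiv.Perm G) (k : G) :
    Flag p (cj g ((⊤ : Subgroup G).map emb)) (cj g ((pCore p G).map emb)) (cj g ((vmod S).map emb))
      (cj (g * emb k) ((S : Subgroup G).map emb)) := by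
  haveI : (vmod S).Normal := normalClosure_normal
  have hf : Function.Injective ((MulAut.conj (g * emb k)).toMonoidHom.comp (emb : G →* Equiv.Perm G)) :=
    fun a b h => emb_injective ((MulAut.conj (g * emb k)).injective h)
  have h := (flag_top hS hd).map hf
  rw [map_conj_comp, map_conj_comp, map_conj_comp, map_conj_comp] at h
  rwa [← cj_cj g _ ((⊤ : Subgroup G).map emb), ← cj_cj g _ ((pCore p G).map emb), ← cj_cj g _ ((vmod S).map emb),
    cj_emb (norm_of_normal ⊤ k), cj_emb (norm_of_normal _ k), cj_emb (norm_of_normal _ k)] at h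

omit hd in
theorem exists_system (hd : NoChar (S : Subgroup G))
    (hopp : ∃ g : G, Opp ⊤ (pCore p G) (S : Subgroup G) (cj g (S : Subgroup G))) :
    ∃ 𝒮 : Sys.{_, u} (Equiv.Perm G) p, ∃ o : 𝒮.α, ∃ b : ℕ, ∃ C : Chain 𝒮 b b,
      (∀ v, 𝒮.mem v) ∧ ¬ 𝒮.V (C.c 0) ≤ 𝒮.Q (C.c b) ∧
      ∀ v : 𝒮.α, ∃ g : Equiv.Perm G, 𝒮.H v = cj g (𝒮.H o) ∧ 𝒮.Q v = cj g (𝒮.Q o) ∧ 𝒮.V v = cj g (𝒮.V o) ∧
        (𝒮.H o = (⊤ : Subgroup G).map emb ∧ 𝒮.Q o = (pCore p G).map emb ∧ 𝒮.V o = (vmod S).map emb) ∧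
        ∀ T, 𝒮.edge v T → ∃ k : G, T = cj (g * emb k) ((S : Subgroup G).map emb) := by
  haveI hVn : (vmod S).Normal := normalClosure_normal
  set H0 := (⊤ : Subgroup G).map (emb : G →* Equiv.Perm G) with hH0
  set S0 := (S : Subgroup G).map (emb : G →* Equiv.Perm G) with hS0
  have hflag : ∀ g T, IsEdge S g T →
      Flag p (cj g H0) (cj g ((pCore p G).map emb)) (cj g ((vmod S).map emb)) T := by
    intro g T h
    obtain ⟨k, rfl⟩ := h.exists_eq
    exact flag_edge hS (hd.mild hS) g k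
  have hcjH : ∀ g : Equiv.Perm G, ∀ k : G, cj (g * emb k) H0 = cj g H0 := fun g k => by
    rw [← cj_cj, cj_emb (norm_of_normal ⊤ k)]
  have hedge0 : ∀ g : Equiv.Perm G, IsEdge S g (cj g S0) :=
    fun g => ⟨⟨g, rfl⟩, Subgroup.map_mono (Subgroup.map_mono le_top)⟩
  have hmv : ∀ g v T, IsEdge S v T → IsEdge S (g * v) (cj g T) := by
    rintro g v T ⟨⟨γ, rfl⟩, hle⟩
    exact ⟨⟨g * γ, cj_cj _ _ _⟩, (Subgroup.map_mono hle).trans (cj_cj _ _ _).le⟩
  have hnorm : ∀ φ : ↥(S : Subgroup G) ≃* ↥(S : Subgroup G), ∃ n : Equiv.Perm G, cj n S0 = S0 ∧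
      ∀ s : ↥(S : Subgroup G), n * emb (s : G) * n⁻¹ = emb ((φ s : ↥(S : Subgroup G)) : G) := by
    intro φ
    obtain ⟨n, hn⟩ := exists_perm (S : Subgroup G) φ
    refine ⟨n, Subgroup.eq_of_le_of_card_ge ?_ (Subgroup.card_map_of_injective (MulEquiv.injective _)).ge, hn⟩
    rintro _ ⟨_, ⟨s, hs, rfl⟩, rfl⟩
    exact ⟨_, (φ ⟨s, hs⟩).2, (hn ⟨s, hs⟩).symm⟩
  have halive : ∀ v T, IsEdge S v T →
      ¬ cj v H0 ≤ normalizer ((⨆ u : {u : Equiv.Perm G // IsEdge S u T ∧ True}, cj (u : Equiv.Perm G) ((vmod S).map emb) :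
        Subgroup (Equiv.Perm G)) : Set (Equiv.Perm G)) := by
    intro v T hv hle
    set W := (⨆ u : {u : Equiv.Perm G // IsEdge S u T ∧ True}, cj (u : Equiv.Perm G) ((vmod S).map emb) :
        Subgroup (Equiv.Perm G)) with hW
    obtain ⟨k, hk⟩ := hv.exists_eq
    set m := v * emb k with hm
    set X := (cj m⁻¹ W).comap (emb : G →* Equiv.Perm G) with hX
    have hXW : ∀ {u : Equiv.Perm G}, IsEdge S u T → cj u ((vmod S).map emb) ≤ W := fun {u} hu =>
      le_iSup (fun u : {u : Equiv.Perm G // IsEdge S u T ∧ True} => cj (u : Equiv.Perm G) ((vmod S).map emb)) ⟨u, hu, trivial⟩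
    have hWT : W ≤ T := iSup_le fun u => (hflag _ _ u.2.1).V_le_T
    have hXS : X ≤ (S : Subgroup G) := by
      intro x hx
      have h1 : emb x ∈ cj m⁻¹ T := (Subgroup.map_mono hWT) hx
      rw [hk, cj_cj, inv_mul_cancel, cj_one] at h1
      obtain ⟨s, hs, he⟩ := h1
      exact emb_injective he ▸ hs
    have hVX : vmod S ≤ X := by
      intro x hx
      refine mem_cj.mpr (hXW (u := m) (by rw [hk]; exact hedge0 m) ?_)
      rw [inv_inv]
      exact conj_mem_cj ⟨x, hx, rfl⟩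
    refine hd X hXS (fun h0 => zs_ne_bot hS (le_bot_iff.mp ((Subgroup.le_normalClosure).trans (hVX.trans h0.le)))) ?_ ?_
    · intro φ x hx
      obtain ⟨n, hn, hnx⟩ := hnorm φ
      have hN : cj (m * n * m⁻¹) T = T := by rw [hk, cj_cj, inv_mul_cancel_right, ← cj_cj, hn]
      have hW' : cj (m * n * m⁻¹) W ≤ W := by
        rw [cj, Subgroup.map_le_iff_le_comap]
        refine iSup_le fun u => ?_
        rw [← Subgroup.map_le_iff_le_comap]
        refine (cj_cj _ _ _).le.trans (hXW ?_)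
        have := hmv (m * n * m⁻¹) u.1 T u.2.1
        rwa [hN] at this
      show emb ((φ x : ↥(S : Subgroup G)) : G) ∈ cj m⁻¹ W
      have h1 : emb (x : G) ∈ cj m⁻¹ W := hx
      rw [← hnx, mem_cj, inv_inv] at *
      have h2 := hW' (conj_mem_cj (g := m * n * m⁻¹) h1)
      simpa [mul_assoc] using h2
    · refine ⟨fun x hx g => ?_⟩
      show emb (g * x * g⁻¹) ∈ cj m⁻¹ W
      have h1 : emb x ∈ cj m⁻¹ W := hx
      rw [mem_cj, inv_inv] at h1 ⊢
      have hg : m * emb g * m⁻¹ ∈ normalizer (W : Set (Equiv.Perm G)) := hle (by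
        rw [← hcjH v k]; exact conj_mem_cj ⟨g, mem_top g, rfl⟩)
      have h2 := conj_mem hg h1
      simpa [map_mul, map_inv, mul_assoc] using h2
  let 𝒮 : Sys.{_, u} (Equiv.Perm G) p :=
    { α := Equiv.Perm G
      mv := fun g v => g * v
      H := fun g => cj g H0
      Q := fun g => cj g ((pCore p G).map emb)
      V := fun g => cj g ((vmod S).map emb)
      edge := IsEdge S
      V_mv := fun g v => (cj_cj _ _ _).symm
      Q_mv := fun g v => (cj_cj _ _ _).symm
      edge_mv := hmv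
      edge_move := fun v T g hT hg => by
        obtain ⟨⟨γ, rfl⟩, hle⟩ := hT
        refine ⟨⟨g * γ, cj_cj _ _ _⟩, (Subgroup.map_mono hle).trans (le_of_eq ?_)⟩
        exact cj_eq_self (Subgroup.le_normalizer hg)
      flag := hflag
      exists_opp := fun v T hT => by
        obtain ⟨k, rfl⟩ := hT.exists_eq
        obtain ⟨g, hg⟩ := hopp
        haveI : (pCore p G).Normal := inferInstance
        refine ⟨cj (v * emb k) ((cj g (S : Subgroup G)).map emb), ⟨⟨v * emb k * emb g, ?_⟩, ?_⟩, ?_⟩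
        · rw [← cj_cj (v * emb k) (emb g), map_cj]
        · exact (Subgroup.map_mono (Subgroup.map_mono le_top)).trans (hcjH v k).le
        · have h := hg.map (f := (MulAut.conj (v * emb k)).toMonoidHom.comp (emb : G →* Equiv.Perm G))
          rw [map_conj_comp, map_conj_comp, map_conj_comp, map_conj_comp, hcjH v k,
            ← cj_cj v (emb k) ((pCore p G).map emb), cj_emb (norm_of_normal _ k)] at h
          exact h
      mem := fun _ => True
      mem_mv := fun _ _ _ => trivial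
      alive := fun v T hT _ => halive v T hT }
  have hadj : ∀ g : Equiv.Perm G, cj g S0 = S0 ∨ (∃ k : G, g = emb k) → 𝒮.Adj g 1 := by
    rintro g (h | ⟨k, rfl⟩)
    · exact ⟨S0, by rw [← h]; exact hedge0 g, by have := hedge0 1; rwa [cj_one] at this⟩
    · refine ⟨S0, ⟨⟨1, (cj_one _).symm⟩, ?_⟩, by have := hedge0 1; rwa [cj_one] at this⟩
      rw [cj_emb (norm_of_normal ⊤ k)]
      exact Subgroup.map_mono le_top
  have hreach : ∀ (m : ℕ) (g u v : Equiv.Perm G), 𝒮.Reach m u v → 𝒮.Reach m (g * u) (g * v) := by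
    intro m
    induction m with
    | zero =>
      intro g u v h
      obtain rfl : u = v := h
      rfl
    | succ m ih =>
      rintro g u v ⟨w, ⟨T, h1, h2⟩, hw⟩
      exact ⟨g * w, ⟨cj g T, hmv g u T h1, hmv g w T h2⟩, ih g w v hw⟩
  have hfail : ∃ m u v, 𝒮.Reach m u v ∧ ¬ 𝒮.V u ≤ 𝒮.Q v := by
    by_contra hno
    push Not at hno
    set Y := ⨆ u : {u : Equiv.Perm G // ∃ m, 𝒮.Reach m u (1 : Equiv.Perm G)}, 𝒮.V u with hY
    have hYQ : Y ≤ (pCore p G).map emb := iSup_le fun u => by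
      obtain ⟨m, hm⟩ := u.2
      have h := hno m u.1 (1 : Equiv.Perm G) hm
      change 𝒮.V u.1 ≤ cj (1 : Equiv.Perm G) _ at h
      rwa [cj_one] at h
    have hYinv : ∀ g : Equiv.Perm G, 𝒮.Adj g 1 → cj g Y ≤ Y := fun g hg => by
      rw [cj, Subgroup.map_le_iff_le_comap]
      refine iSup_le fun u => ?_
      rw [← Subgroup.map_le_iff_le_comap]
      obtain ⟨m, hm⟩ := u.2
      refine (cj_cj _ _ _).le.trans (le_iSup (fun u : {u : Equiv.Perm G // ∃ m, 𝒮.Reach m u (1 : Equiv.Perm G)} => 𝒮.V u)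
        ⟨g * u.1, m + 1, ?_⟩)
      have h1 := hreach m g u.1 1 hm
      rw [mul_one] at h1
      exact 𝒮.reach_append m 1 _ _ _ h1 ⟨1, hg, rfl⟩
    set X := Y.comap (emb : G →* Equiv.Perm G) with hX
    have hXS : X ≤ (S : Subgroup G) := fun x hx => by
      obtain ⟨q, hq, he⟩ := hYQ hx
      exact hS.core_le (emb_injective he ▸ hq)
    have hVX : vmod S ≤ X := fun x hx =>
      le_iSup (fun u : {u : Equiv.Perm G // ∃ m, 𝒮.Reach m u (1 : Equiv.Perm G)} => 𝒮.V u) ⟨1, 0, rfl⟩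
        (by show emb x ∈ cj 1 _; rw [cj_one]; exact ⟨x, hx, rfl⟩)
    refine hd X hXS (fun h0 => zs_ne_bot hS (le_bot_iff.mp ((Subgroup.le_normalClosure).trans (hVX.trans h0.le)))) ?_ ?_
    · intro φ x hx
      obtain ⟨n, hn, hnx⟩ := hnorm φ
      show emb ((φ x : ↥(S : Subgroup G)) : G) ∈ Y
      rw [← hnx]
      exact hYinv n (hadj n (Or.inl hn)) (conj_mem_cj hx)
    · refine ⟨fun x hx g => ?_⟩
      show emb (g * x * g⁻¹) ∈ Y
      rw [map_mul, map_mul, map_inv]
      exact hYinv _ (hadj _ (Or.inr ⟨g, rfl⟩)) (conj_mem_cj hx)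
  classical
  set b := Nat.find hfail with hb
  obtain ⟨u, v, huv, hne⟩ := Nat.find_spec hfail
  have hb1 : 1 ≤ b := by
    rcases Nat.eq_zero_or_pos b with h | h
    · exfalso
      rw [← hb, h] at huv
      obtain rfl : u = v := huv
      exact hne (hflag u _ (hedge0 u)).V_le
    · exact h
  have hbelow : 𝒮.Below b := fun m hm x y hxy => by
    by_contra h
    exact Nat.find_min hfail hm ⟨x, y, hxy, h⟩
  have hchain : ∀ m u v, 𝒮.Reach m u v → ∃ c : ℕ → Equiv.Perm G, ∃ e : ℕ → Subgroup (Equiv.Perm G),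
      c 0 = u ∧ c m = v ∧ (∀ i, i < m → 𝒮.edge (c i) (e i)) ∧ ∀ i, i < m → 𝒮.edge (c (i + 1)) (e i) := by
    intro m
    induction m with
    | zero =>
      intro u v h
      exact ⟨fun _ => u, fun _ => ⊥, rfl, h, fun i hi => by omega, fun i hi => by omega⟩
    | succ m ih =>
      rintro u v ⟨w, ⟨T, h1, h2⟩, hw⟩
      obtain ⟨c, e, hc0, hcm, hl, hr⟩ := ih w v hw
      refine ⟨fun i => match i with | 0 => u | j + 1 => c j, fun i => match i with | 0 => T | j + 1 => e j,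
        rfl, hcm, ?_, ?_⟩
      · rintro (_ | j) hj
        · exact h1
        · exact hl j (by omega)
      · rintro (_ | j) hj
        · show 𝒮.edge (c 0) T
          rw [hc0]; exact h2
        · exact hr j (by omega)
  obtain ⟨c, e, hc0, hcm, hl, hr⟩ := hchain b u v huv
  refine ⟨𝒮, (1 : Equiv.Perm G), b, ⟨c, e, hl, hr, hb1, le_rfl, hbelow⟩, fun _ => trivial, by simpa [hc0, hcm] using hne, fun g => ?_⟩
  refine ⟨g, ?_, ?_, ?_, ⟨cj_one _, cj_one _, cj_one _⟩, fun T hT => IsEdge.exists_eq hT⟩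
  · show cj g H0 = cj g (cj 1 H0); rw [cj_one]
  · show cj g _ = cj g (cj 1 _); rw [cj_one]
  · show cj g _ = cj g (cj 1 _); rw [cj_one]

end System

end CfsgLib.PushUp
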