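import Mathlib
import Cfsg.Agent.Lib.PushUp.Chain

/-!
There are no critical chains of length at least three.
-/

set_option autoImplicit false

namespace CfsgLib.PushUp

open Subgroup

variable {Γ : Type*} [Group Γ] [Finite Γ] {p : ℕ} {𝒮 : Sys Γ p}

/-- An element centralizing `T'` and one element of `T` outside `Q` centralizes the vertex group. -/
theorem Opp.cent_left {H Q T T' : Subgroup Γ} (h : Opp H Q T T') {x r : Γ} (hx : x ∈ T) (hxQ : x ∉ Q)
    (hxr : x * r = r * x) (hT : ∀ t ∈ T', t * r = r * t) : r ∈ centralizer (H : Set Γ) := by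
  have hle : H ≤ centralizer {r} := by
    rw [← h.left x hx hxQ]
    exact sup_le ((Subgroup.closure_le _).mpr (Set.singleton_subset_iff.mpr (mem_centralizer_singleton_iff.mpr hxr)))
      fun t ht => mem_centralizer_singleton_iff.mpr (hT t ht)
  exact fun y hy => mem_centralizer_singleton_iff.mp (hle hy)

theorem cent_apply {H : Subgroup Γ} {r h : Γ} (hr : r ∈ centralizer (H : Set Γ)) (hh : h ∈ H) : Commute h r := hr h hh

/-- Conjugation of a commutator with both entries multiplied by elements commuting with everything. -/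
theorem comm_mul_of_central {q x y x' y' : Γ} (hx : q * x * q⁻¹ = x' * x) (hy : q * y * q⁻¹ = y' * y)
    (h1 : Commute x' y) (h2 : Commute y' x) (h3 : Commute x' x) (h4 : Commute y' y) (h5 : Commute x' y') :
    q * (x * y * x⁻¹ * y⁻¹) * q⁻¹ = x * y * x⁻¹ * y⁻¹ := by
  have e : q * (x * y * x⁻¹ * y⁻¹) * q⁻¹ =
      (q * x * q⁻¹) * (q * y * q⁻¹) * (q * x * q⁻¹)⁻¹ * (q * y * q⁻¹)⁻¹ := by group
  rw [e, hx, hy]
  calc x' * x * (y' * y) * (x' * x)⁻¹ * (y' * y)⁻¹
      = x' * x * y' * y * x⁻¹ * x'⁻¹ * y⁻¹ * y'⁻¹ := by group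
    _ = x' * y' * x * y * x⁻¹ * (x'⁻¹ * y⁻¹) * y'⁻¹ := by
        rw [mul_assoc x' x y', ← h2.eq, ← mul_assoc x' y' x]; group
    _ = x' * y' * (x * y * x⁻¹ * y⁻¹) * x'⁻¹ * y'⁻¹ := by
        rw [(h1.inv_inv).eq]; group
    _ = x * y * x⁻¹ * y⁻¹ * (x' * y' * x'⁻¹ * y'⁻¹) := by
        have ha : Commute (x' * y') (x * y * x⁻¹ * y⁻¹) :=
          ((((h3.mul_left h2).mul_right (h1.mul_left h4)).mul_right (h3.mul_left h2).inv_right).mul_right
            (h1.mul_left h4).inv_right)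
        rw [ha.eq]; group
    _ = _ := by rw [h5.eq]; group

theorem no_long {b : ℕ} (C : Line 𝒮 b (3 * b)) (hb : 3 ≤ b) : False := by
  obtain ⟨a, rfl⟩ : ∃ a, b = a + 3 := ⟨b - 3, by omega⟩
  -- vertices: `a + 2` plays `-1`, `a + 3` plays `0`
  set y0 := a + 2 with hy0
  set o := a + 3 with ho
  set m := a + a + 5 with hm
  set z := a + a + 6 with hz
  have hc0 : ¬ 𝒮.V (C.c y0) ≤ 𝒮.Q (C.c (y0 + (a + 3))) := C.crit y0 (by omega)
  have hc1 : ¬ 𝒮.V (C.c o) ≤ 𝒮.Q (C.c (o + (a + 3))) := C.crit o (by omega)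
  obtain ⟨hne1, -, -⟩ := C.cover_at (i := o) (by omega) hc1
  rw [show o + (a + 3) = z by omega] at hne1
  obtain ⟨x₀, hx₀, hx₀Q⟩ := SetLike.not_le_iff_exists.mp hne1
  have hF0 := C.flag_l (i := o) (by omega)
  have hFm := C.flag_r (i := y0) (by omega)
  have hF1 := C.flag_r (i := o) (by omega)
  have hopp0 := C.opp y0 (by omega)
  have hopp1 := C.opp o (by omega)
  rw [show y0 + 1 = o by omega] at hopp0 hFm
  have hVb : 𝒮.V (C.c z) ≤ C.e o := C.V_le_edge_l (by omega) (by omega) (by omega) (by omega)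
  have hVm : 𝒮.V (C.c y0) ≤ C.e y0 := (C.flag_l (i := y0) (by omega)).V_le_T
  -- elements of `V(-1) ∩ V(b-1)` centralized by the edge are central in both `H(0)` and `H(1)`
  have hR : ∀ r ∈ 𝒮.V (C.c y0), r ∈ 𝒮.V (C.c m) → r ∈ centralizer (C.e y0 : Set Γ) →
      r ∈ centralizer (𝒮.H (C.c o) : Set Γ) ∧ r ∈ centralizer (𝒮.H (C.c (o + 1)) : Set Γ) := by
    intro r hr hrm hre
    have h0 : r ∈ centralizer (𝒮.H (C.c o) : Set Γ) :=
      hopp0.symm.cent_left (hVb hx₀) hx₀Q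
        (C.comm (by omega) (by omega) (by omega) (by omega) x₀ hx₀ r hrm) (fun t ht => hre t ht)
    refine ⟨h0, ?_⟩
    obtain ⟨hne2, -, -⟩ := C.cover_at (i := o + 1) (by omega) (C.crit (o + 1) (by omega))
    obtain ⟨x', hx', hx'Q⟩ := SetLike.not_le_iff_exists.mp hne2
    exact hopp1.symm.cent_left (C.V_le_edge_l (by omega) (by omega) (by omega) (by omega) hx') hx'Q
      (C.comm (by omega) (by omega) (by omega) (by omega) x' hx' r hrm) (fun t ht => h0 t (hF0.T_le ht))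
  have hz1 : ∀ y ∈ 𝒮.V (C.c y0), ∀ x ∈ 𝒮.V (C.c z), x * y * x⁻¹ * y⁻¹ ∈ 𝒮.V (C.c o) := by
    intro y hy x hx
    set v := x * y * x⁻¹ * y⁻¹ with hv
    have hxH : x ∈ 𝒮.H (C.c o) := hF0.T_le (hVb hx)
    have hyQ0 : y ∈ 𝒮.Q (C.c o) := C.near (by omega) (by omega) (by omega) (by omega) hy
    have hyH : y ∈ 𝒮.H (C.c m) :=
      (C.flag_r (i := a + a + 4) (by omega)).T_le
        (C.V_le_edge_r (i := y0) (j := a + a + 4) (by omega) (by omega) (by omega) (by omega) hy)
    -- conjugate vertices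
    have hx1 : x * y * x⁻¹ ∈ 𝒮.V (𝒮.mv x (C.c y0)) := by
      rw [𝒮.V_mv]; exact conj_mem_cj hy
    have hx1e : 𝒮.edge (𝒮.mv x (C.c y0)) (cj x (C.e y0)) := 𝒮.edge_mv _ _ _ (C.edge_l y0 (by omega))
    have hx1e' : 𝒮.edge (C.c o) (cj x (C.e y0)) := by
      have := C.edge_r y0 (by omega)
      rw [show y0 + 1 = o by omega] at this
      exact 𝒮.edge_move _ _ _ this hxH
    have hy1 : y * x⁻¹ * y⁻¹ ∈ 𝒮.V (𝒮.mv y (C.c z)) := by
      rw [𝒮.V_mv]; exact conj_mem_cj (inv_mem hx)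
    have hy1e : 𝒮.edge (𝒮.mv y (C.c z)) (cj y (C.e m)) := by
      have := C.edge_r m (by omega)
      rw [show m + 1 = z by omega] at this
      exact 𝒮.edge_mv _ _ _ this
    have hy1e' : 𝒮.edge (C.c m) (cj y (C.e m)) := 𝒮.edge_move _ _ _ (C.edge_l m (by omega)) hyH
    have hvVb : ∀ x' ∈ 𝒮.V (C.c z), Commute v x' := by
      intro x' hx'
      have h1 : Commute x x' := (C.flag_r (i := m) (by omega)).abel x
        (by rw [show m + 1 = z by omega]; exact hx) x' (by rw [show m + 1 = z by omega]; exact hx')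
      have h2 : Commute (y * x⁻¹ * y⁻¹) x' := C.comm_adj hy1e hy1e' (by omega) (by omega) (by omega) _ hy1 x' hx'
      rw [hv, show x * y * x⁻¹ * y⁻¹ = x * (y * x⁻¹ * y⁻¹) by group]
      exact h1.mul_left h2
    -- elements of `Q(0) ∩ Q(b-1)`
    have hbase : ∀ q ∈ 𝒮.Q (C.c o), q ∈ 𝒮.Q (C.c m) → Commute q v := by
      intro q hq hq'
      obtain ⟨w, hw, q1, hq1, e1⟩ := C.split_r (i := y0) (by omega) hc0 (hFm.Q_le hq)
      rw [show y0 + (a + 3) = m by omega] at hw
      have hwe : w ∈ C.e y0 := C.V_le_edge_l (j := y0) (by omega) (by omega) (by omega) (by omega) hw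
      have hy' : q * y * q⁻¹ = (w * y * w⁻¹ * y⁻¹) * y := by
        have hc : Commute q1 y := (C.flag_l (i := y0) (by omega)).V_cent q1 hq1 y hy
        calc q * y * q⁻¹ = w * (q1 * y * q1⁻¹) * w⁻¹ := by rw [← e1]; group
          _ = _ := by rw [hc.eq]; group
      have hr1 : w * y * w⁻¹ * y⁻¹ ∈ 𝒮.V (C.c y0) :=
        (C.flag_l (i := y0) (by omega)).comm_mem_V ((C.flag_l (i := y0) (by omega)).T_le hwe) hy
      have hym : y ∈ normalizer (𝒮.V (C.c m) : Set Γ) := (C.flag_l (i := m) (by omega)).norm_V hyH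
      have hr1m : w * y * w⁻¹ * y⁻¹ ∈ 𝒮.V (C.c m) := by
        rw [show w * y * w⁻¹ * y⁻¹ = w * (y * w⁻¹ * y⁻¹) by group]
        exact mul_mem hw (conj_mem hym (inv_mem hw))
      obtain ⟨u, hu, q2, hq2, e2⟩ := C.split_l (i := o) (by omega) hc1
        (show q ∈ C.e (o + (a + 3) - 1) by
          rw [show o + (a + 3) - 1 = m by omega]; exact (C.flag_l (i := m) (by omega)).Q_le hq')
      rw [show o + (a + 3) = z by omega] at hq2
      have hFz := C.flag_r (i := m) (by omega)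
      rw [show m + 1 = z by omega] at hFz
      have hx' : q * x * q⁻¹ = (u * x * u⁻¹ * x⁻¹) * x := by
        have hc : Commute q2 x := hFz.V_cent q2 hq2 x hx
        calc q * x * q⁻¹ = u * (q2 * x * q2⁻¹) * u⁻¹ := by rw [← e2]; group
          _ = _ := by rw [hc.eq]; group
      have huz : u ∈ C.e m := C.V_le_edge_r (j := m) (by omega) (by omega) (by omega) (by omega) hu
      have hr0 : u * x * u⁻¹ * x⁻¹ ∈ 𝒮.V (C.c z) := hFz.comm_mem_V (hFz.T_le huz) hx
      have hr0o : u * x * u⁻¹ * x⁻¹ ∈ 𝒮.V (C.c o) := by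
        rw [show u * x * u⁻¹ * x⁻¹ = u * (x * u⁻¹ * x⁻¹) by group]
        exact mul_mem hu (conj_mem (hF0.norm_V hxH) (inv_mem hu))
      have h := comm_mul_of_central hx' hy'
        (C.comm (by omega) (by omega) (by omega) (by omega) _ hr0o y hy)
        (C.comm (by omega) (by omega) (by omega) (by omega) _ hr1m x hx)
        (hFz.abel _ hr0 x hx) ((C.flag_l (i := y0) (by omega)).abel _ hr1 y hy)
        (C.comm (by omega) (by omega) (by omega) (by omega) _ hr0o _ hr1)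
      show q * v = v * q
      calc q * v = (q * v * q⁻¹) * q := by group
        _ = v * q := by rw [hv, h]
    have hE : ∀ d k, k + d = a + 2 → 1 ≤ k → ∀ q, (∀ i, i ≤ k → q ∈ 𝒮.Q (C.c (o + i))) → Commute q v := by
      intro d
      induction d with
      | zero =>
        intro k hk h1 q hq
        refine hbase q (by simpa using hq 0 (Nat.zero_le _)) ?_
        have := hq (a + 2) (by omega)
        rwa [show o + (a + 2) = m by omega] at this
      | succ d ih =>
        intro k hk h1 q hq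
        have hcj : ¬ 𝒮.V (C.c (k + 1)) ≤ 𝒮.Q (C.c (k + 1 + (a + 3))) := C.crit _ (by omega)
        obtain ⟨w, hw, q', hq', rfl⟩ := C.split_l (i := k + 1) (by omega) hcj
          (show q ∈ C.e (k + 1 + (a + 3) - 1) by
            rw [show k + 1 + (a + 3) - 1 = o + k by omega]
            exact (C.flag_l (i := o + k) (by omega)).Q_le (hq k le_rfl))
        have hwv : Commute w v := by
          have h2 : Commute (x * y * x⁻¹) w :=
            C.comm_adj (j := k + 1) hx1e hx1e' (by omega) (by omega) (by omega) _ hx1 w hw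
          have h3 : Commute y w := C.comm (by omega) (by omega) (by omega) (by omega) y hy w hw
          exact ((h2.mul_left h3.inv_left)).symm
        refine hwv.mul_left (ih (k + 1) (by omega) (by omega) q' fun i hi => ?_)
        rcases Nat.lt_or_eq_of_le hi with hlt | rfl
        · have hwQ : w ∈ 𝒮.Q (C.c (o + i)) := C.near (by omega) (by omega) (by omega) (by omega) hw
          simpa using mul_mem (inv_mem hwQ) (hq i (by omega))
        · rwa [show o + (k + 1) = k + 1 + (a + 3) by omega]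
    have hx1Q : x ∈ 𝒮.Q (C.c (o + 1)) := C.near (by omega) (by omega) (by omega) (by omega) hx
    have hy1Q : y ∈ 𝒮.Q (C.c (o + 1)) := C.near (by omega) (by omega) (by omega) (by omega) hy
    have hv1Q : v ∈ 𝒮.Q (C.c (o + 1)) := mul_mem (mul_mem (mul_mem hx1Q hy1Q) (inv_mem hx1Q)) (inv_mem hy1Q)
    have hvp : v ^ p = 1 := by
      have h2 : Commute (x * y * x⁻¹) y :=
        C.comm_adj (j := y0) hx1e hx1e' (by omega) (by omega) (by omega) _ hx1 y hy
      have hyp : y ^ p = 1 := (C.flag_l (i := y0) (by omega)).elem y hy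
      rw [hv, h2.inv_right.mul_pow, inv_pow, conj_pow, hyp, mul_one, mul_inv_cancel, inv_one, mul_one]
    have hv1 : v ∈ 𝒮.V (C.c (o + 1)) := by
      refine hF1.center v hv1Q (fun q hq => ?_) hvp
      obtain ⟨w, hw, q', hq', rfl⟩ := C.split_r (i := o) (by omega) hc1 (hF1.Q_le hq)
      rw [show o + (a + 3) = z by omega] at hw
      refine ((hvVb w hw).symm.mul_left (hE (a + 1) 1 (by omega) le_rfl q' fun i hi => ?_)).eq
      rcases Nat.lt_or_eq_of_le hi with hlt | rfl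
      · obtain rfl : i = 0 := by omega
        simpa using hq'
      · have hwQ : w ∈ 𝒮.Q (C.c (o + 1)) := C.near (by omega) (by omega) (by omega) (by omega) hw
        simpa using mul_mem (inv_mem hwQ) hq
    have hconjQ : ∀ q ∈ 𝒮.Q (C.c o), ∃ r, r ∈ centralizer (𝒮.H (C.c o) : Set Γ) ∧
        r ∈ centralizer (𝒮.H (C.c (o + 1)) : Set Γ) ∧ q * y * q⁻¹ = r * y := by
      intro q hq
      obtain ⟨w, hw, q1, hq1, e1⟩ := C.split_r (i := y0) (by omega) hc0 (hFm.Q_le hq)
      rw [show y0 + (a + 3) = m by omega] at hw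
      have hFy := C.flag_l (i := y0) (by omega)
      have hwe : w ∈ C.e y0 := C.V_le_edge_l (j := y0) (by omega) (by omega) (by omega) (by omega) hw
      obtain ⟨h1, h2⟩ := hR (w * y * w⁻¹ * y⁻¹) (hFy.comm_mem_V (hFy.T_le hwe) hy)
        (by rw [show w * y * w⁻¹ * y⁻¹ = w * (y * w⁻¹ * y⁻¹) by group]
            exact mul_mem hw (conj_mem ((C.flag_l (i := m) (by omega)).norm_V hyH) (inv_mem hw)))
        (hFy.quad y hy w hwe)
      refine ⟨_, h1, h2, ?_⟩
      have hc : Commute q1 y := hFy.V_cent q1 hq1 y hy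
      calc q * y * q⁻¹ = w * (q1 * y * q1⁻¹) * w⁻¹ := by rw [← e1]; group
        _ = _ := by rw [hc.eq]; group
    have hvT : v ∈ centralizer (C.e o : Set Γ) := by
      refine hF1.fixmod v hv1 fun s hs => ?_
      obtain ⟨w, hw, q, hq, rfl⟩ := C.split_r (i := o) (by omega) hc1 hs
      rw [show o + (a + 3) = z by omega] at hw
      obtain ⟨r, hr0, hr1, hr⟩ := hconjQ q hq
      have hqx : x⁻¹ * q * x ∈ 𝒮.Q (C.c o) := conj_mem' (hF0.norm_Q hxH) hq
      obtain ⟨r', hr0', hr1', hr'⟩ := hconjQ _ hqx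
      have e3 : q * (x * y * x⁻¹) * q⁻¹ = r' * (x * y * x⁻¹) := by
        calc q * (x * y * x⁻¹) * q⁻¹ = x * ((x⁻¹ * q * x) * y * (x⁻¹ * q * x)⁻¹) * x⁻¹ := by group
          _ = x * (r' * y) * x⁻¹ := by rw [hr']
          _ = (x * r') * y * x⁻¹ := by group
          _ = _ := by rw [(cent_apply hr0' hxH).eq]; group
      have hvo : v ∈ 𝒮.H (C.c o) :=
        mul_mem (mul_mem (mul_mem hxH (hF0.T_le (hF0.Q_le hyQ0))) (inv_mem hxH)) (inv_mem (hF0.T_le (hF0.Q_le hyQ0)))
      have e4 : q * v * q⁻¹ = r' * r⁻¹ * v := by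
        calc q * v * q⁻¹ = (q * (x * y * x⁻¹) * q⁻¹) * (q * y * q⁻¹)⁻¹ := by rw [hv]; group
          _ = r' * (x * y * x⁻¹) * (r * y)⁻¹ := by rw [e3, hr]
          _ = r' * (v * r⁻¹) := by rw [hv]; group
          _ = r' * r⁻¹ * v := by rw [(cent_apply (inv_mem hr0) hvo).eq, mul_assoc]
      have hw1 : w ∈ 𝒮.H (C.c (o + 1)) := hF1.T_le (hVb hw)
      have hd : r' * r⁻¹ ∈ centralizer (𝒮.H (C.c (o + 1)) : Set Γ) := mul_mem hr1' (inv_mem hr1)
      have e5 : w * q * v * (w * q)⁻¹ * v⁻¹ = r' * r⁻¹ := by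
        calc w * q * v * (w * q)⁻¹ * v⁻¹ = w * (q * v * q⁻¹) * w⁻¹ * v⁻¹ := by group
          _ = (w * (r' * r⁻¹)) * v * w⁻¹ * v⁻¹ := by rw [e4]; group
          _ = (r' * r⁻¹) * (w * v) * w⁻¹ * v⁻¹ := by rw [(cent_apply hd hw1).eq]; group
          _ = _ := by rw [← (hvVb w hw).eq]; group
      rw [e5]; exact hd
    refine hF0.center v (show v ∈ 𝒮.Q (C.c o) from mul_mem (conj_mem (hF0.norm_Q hxH) hyQ0) (inv_mem hyQ0))
      (fun q hq => ?_) hvp
    exact hvT q (hF0.Q_le hq)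
  -- contradiction with `alive`
  refine 𝒮.alive (C.c o) (C.e y0) (by
    have := C.edge_r y0 (by omega); rwa [show y0 + 1 = o by omega] at this) (C.marked o (by omega)) ?_
  rw [← hopp0.right x₀ (hVb hx₀) hx₀Q]
  refine sup_le ((Subgroup.closure_le _).mpr (Set.singleton_subset_iff.mpr ?_)) (𝒮.le_normalizer_W _)
  have hedge : 𝒮.edge (C.c o) (C.e y0) := by
    have := C.edge_r y0 (by omega); rwa [show y0 + 1 = o by omega] at this
  refine mem_normalizer_of_conj (K := 𝒮.W (C.e y0)) fun w hw => ?_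
  have hwe : w ∈ C.e (y0 + (a + 3) - 1) := by
    rw [show y0 + (a + 3) - 1 = a + a + 4 by omega]
    refine (C.flag_l (i := a + a + 4) (by omega)).Q_le (𝒮.W_le (fun u hu _ => ?_) hw)
    exact C.near_adj hu hedge (by omega) (by omega) (by omega)
  obtain ⟨y, hy, q, hq, rfl⟩ := C.split_l (i := y0) (by omega) hc0 hwe
  rw [show y0 + (a + 3) = m by omega] at hq
  obtain ⟨v0, hv0, q', hq', rfl⟩ := C.split_l (i := o) (by omega) hc1
    (show q ∈ C.e (o + (a + 3) - 1) by
      rw [show o + (a + 3) - 1 = m by omega]; exact (C.flag_l (i := m) (by omega)).Q_le hq)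
  rw [show o + (a + 3) = z by omega] at hq'
  have hFz := C.flag_r (i := m) (by omega)
  rw [show m + 1 = z by omega] at hFz
  have hcq : Commute q' x₀ := hFz.V_cent q' hq' x₀ hx₀
  set d := (x₀ * y * x₀⁻¹ * y⁻¹) * (y * (x₀ * v0 * x₀⁻¹ * v0⁻¹) * y⁻¹) with hd
  have hdV : d ∈ 𝒮.V (C.c o) := by
    refine mul_mem (hz1 y hy x₀ hx₀) (conj_mem (hF0.norm_V (hFm.T_le ?_)) (hF0.comm_mem_V (hF0.T_le (hVb hx₀)) hv0))
    exact hVm hy
  have e : x₀ * (y * (v0 * q')) * x₀⁻¹ = d * (y * (v0 * q')) := by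
    calc x₀ * (y * (v0 * q')) * x₀⁻¹ = x₀ * y * v0 * (q' * x₀⁻¹) := by group
      _ = x₀ * y * v0 * (x₀⁻¹ * q') := by rw [hcq.inv_right.eq]
      _ = _ := by rw [hd]; group
  rw [e]
  exact mul_mem (𝒮.le_W hedge (C.marked o (by omega)) hdV) hw

end CfsgLib.PushUp
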