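import Mathlib
import Cfsg.Agent.Lib.PushUp.Ambient
import Cfsg.Agent.Lib.PushUp.Long

/-!
The two short configurations of rank-one pushing up, read off inside the group itself.
-/

set_option autoImplicit false
set_option linter.unusedSectionVars false

namespace CfsgLib.PushUp

open Cfsg Subgroup CfsgLib.PushRankOne

universe u
variable {G : Type u} [Group G] {p : ℕ} [Fact p.Prime]

/-- The configuration with `b = 1`. -/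
structure One (S : Sylow p G) (A : Subgroup G) : Prop where
  le : A ≤ (S : Subgroup G)
  abel : ∀ a ∈ A, ∀ b ∈ A, a * b = b * a
  elem : ∀ a ∈ A, a ^ p = 1
  norm : ∀ s ∈ (S : Subgroup G), ∀ a ∈ A, s * a * s⁻¹ ∈ A
  not_le : ¬ A ≤ pCore p G
  sup : A ⊔ pCore p G = (S : Subgroup G)
  cen : ∀ s ∈ (S : Subgroup G), ∀ a ∈ A, s * a * s⁻¹ * a⁻¹ ∈ fx (vmod S) (S : Subgroup G)

/-- The configuration with `b = 2` at a middle vertex. -/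
structure TwoBase (S : Sylow p G) (T' X Y A C D : Subgroup G) : Prop where
  opp : Opp ⊤ (pCore p G) (S : Subgroup G) T'
  conj : ∃ g : G, T' = cj g (S : Subgroup G)
  X_le : X ≤ (S : Subgroup G)
  Y_le : Y ≤ T'
  X_sup : X ⊔ pCore p G = (S : Subgroup G)
  Y_sup : Y ⊔ pCore p G = T'
  A_le : A ≤ pCore p G
  C_le : C ≤ pCore p G
  D_le : D ≤ pCore p G
  V_le : vmod S ≤ D
  abelA : Comm A A
  abelC : Comm C C
  abelX : Comm X X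
  elemA : ∀ a ∈ A, a ^ p = 1
  elemC : ∀ a ∈ C, a ^ p = 1
  elemX : ∀ a ∈ X, a ^ p = 1
  AC : ∀ a ∈ A, ∀ c ∈ C, a * c * a⁻¹ * c⁻¹ ∈ center G
  XC : Comm X C
  YA : Comm Y A
  AD : Comm A D
  CD : Comm C D
  normD : pCore p G ≤ normalizer (D : Set G)
  DX : ∀ d ∈ D, ∀ x ∈ X, x * d * x⁻¹ * d⁻¹ ∈ fx (vmod S) (S : Subgroup G)
  DY : ∀ d ∈ D, ∀ y ∈ Y, y * d * y⁻¹ * d⁻¹ ∈ fx (vmod S) T'
  split : ∀ q ∈ pCore p G, ∃ c ∈ C, ∃ a ∈ A, ∃ d ∈ D, c * a * d = q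
  comE : ∀ s ∈ (S : Subgroup G), ∀ q ∈ pCore p G, s * q * s⁻¹ * q⁻¹ ∈ C ⊔ D
  comE' : ∀ t ∈ T', ∀ q ∈ pCore p G, t * q * t⁻¹ * q⁻¹ ∈ A ⊔ D
  fixA : ∀ a ∈ A, (∀ g : G, g * a * g⁻¹ * a⁻¹ ∈ D) → a ∈ D
  alive : ∀ L : Subgroup G, L.Normal → L ⊔ (S : Subgroup G) = ⊤ →
    ∃ l ∈ L, ∃ q ∈ pCore p G, l * q * l⁻¹ * q⁻¹ ∉ vmod S

/-- A vertex of a system with an edge, seen as a copy of `G` with its Sylow subgroup. -/
structure PullAt {Γ : Type*} [Group Γ] (S : Sylow p G) (𝒮 : Sys Γ p) (v : 𝒮.α) (T : Subgroup Γ) (ψ : G →* Γ) :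
    Prop where
  inj : Function.Injective ψ
  mapH : (⊤ : Subgroup G).map ψ = 𝒮.H v
  mapQ : (pCore p G).map ψ = 𝒮.Q v
  mapV : (vmod S).map ψ = 𝒮.V v
  mapS : (S : Subgroup G).map ψ = T
  edges : ∀ T₁, 𝒮.edge v T₁ → ∃ g : G, T₁ = (cj g (S : Subgroup G)).map ψ

/-- What a pushing up group provides. -/
structure Ambience (S : Sylow p G) (𝒮 : Sys (Equiv.Perm G) p) : Prop where
  pull : ∀ v T, 𝒮.edge v T → ∃ ψ : G →* Equiv.Perm G, PullAt S 𝒮 v T ψ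
  markedAll : ∀ v, 𝒮.mem v

variable [Finite G]

theorem exists_ambience {S : Sylow p G} (hS : Setting S) (hd : NoChar (S : Subgroup G))
    (hopp : ∃ g : G, Opp ⊤ (pCore p G) (S : Subgroup G) (cj g (S : Subgroup G))) :
    ∃ 𝒮 : Sys.{_, u} (Equiv.Perm G) p, Ambience S 𝒮 ∧
      ∃ b : ℕ, b < 3 ∧ ∃ C : Chain 𝒮 b b, ¬ 𝒮.V (C.c 0) ≤ 𝒮.Q (C.c b) := by
  obtain ⟨𝒮, o, b, C, hmem, hc, hv⟩ := exists_system hS hd hopp
  refine ⟨𝒮, ⟨fun v T hT => ?_, hmem⟩, b, ?_, C, hc⟩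
  · haveI : (vmod S).Normal := normalClosure_normal
    obtain ⟨g, hH, hQ, hV, ⟨hoH, hoQ, hoV⟩, hedge⟩ := hv v
    obtain ⟨k, hk⟩ := hedge T hT
    refine ⟨(MulAut.conj (g * emb k)).toMonoidHom.comp emb,
      ⟨fun a b h => emb_injective ((MulAut.conj (g * emb k)).injective h), ?_, ?_, ?_, ?_, fun T₁ hT₁ => ?_⟩⟩
    · rw [map_conj_comp, ← cj_cj, cj_emb (norm_of_normal ⊤ k), hH, hoH]
    · rw [map_conj_comp, ← cj_cj, cj_emb (norm_of_normal _ k), hQ, hoQ]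
    · rw [map_conj_comp, ← cj_cj, cj_emb (norm_of_normal _ k), hV, hoV]
    · rw [map_conj_comp, hk]
    · obtain ⟨k₁, hk₁⟩ := hedge T₁ hT₁
      refine ⟨k⁻¹ * k₁, ?_⟩
      rw [hk₁, map_conj_comp, map_cj, cj_cj]
      congr 1
      rw [map_mul, map_inv]
      group
  · by_contra h
    exact no_long (Classical.choice (exists_line C hc (hmem _) (3 * b) (by omega))) (by omega)

section Vertex

variable {Γ : Type*} [Group Γ] [Finite Γ] {S : Sylow p G} {𝒮 : Sys Γ p} {ψ : G →* Γ}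

theorem exists_one {C : Chain 𝒮 1 1} (hc : ¬ 𝒮.V (C.c 0) ≤ 𝒮.Q (C.c 1)) (P : PullAt S 𝒮 (C.c 0) (C.e 0) ψ) :
    ∃ A, One S A := by
  obtain ⟨hψ, hH, hQ, hV, hS, -⟩ := P
  have F : Flag p (𝒮.H (C.c 1)) (𝒮.Q (C.c 1)) (𝒮.V (C.c 1)) (C.e 0) := C.flag_r (i := 0) (by omega)
  have F0 := C.flag_l (i := 0) (by omega)
  obtain ⟨hne, hsup, -⟩ := C.cover_at (i := 0) le_rfl (by simpa using hc)
  simp only [Nat.zero_add] at hne hsup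
  set A := (𝒮.V (C.c 1)).comap ψ with hA
  have hVe : 𝒮.V (C.c 1) ≤ C.e 0 := F.V_le_T
  have hAmap : A.map ψ = 𝒮.V (C.c 1) := by
    rw [hA, Subgroup.map_comap_eq]
    exact inf_eq_right.mpr (hVe.trans (hS ▸ Subgroup.map_le_range ψ _))
  have hmemS : ∀ {x : G}, ψ x ∈ C.e 0 → x ∈ (S : Subgroup G) := fun {x} hx => by
    rw [← hS] at hx
    obtain ⟨y, hy, he⟩ := hx
    exact hψ he ▸ hy
  have hinS : ∀ {x : G}, x ∈ (S : Subgroup G) → ψ x ∈ C.e 0 := fun {x} hx => hS ▸ ⟨x, hx, rfl⟩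
  refine ⟨A, ⟨fun x hx => hmemS (hVe hx), fun a ha b hb => hψ (by rw [map_mul, map_mul]; exact F.abel _ ha _ hb),
    fun a ha => hψ (by rw [map_pow, map_one]; exact F.elem _ ha), fun s hs a ha => ?_, fun h => hne ?_, ?_,
    fun s hs a ha => ?_⟩⟩
  · show ψ (s * a * s⁻¹) ∈ 𝒮.V (C.c 1)
    rw [map_mul, map_mul, map_inv]
    exact conj_mem (F.norm_V (F.T_le (hinS hs))) ha
  · rw [← hAmap, ← hQ]; exact Subgroup.map_mono h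
  · apply Subgroup.map_injective hψ
    rw [Subgroup.map_sup, hAmap, hQ, hS, hsup]
  · have h1 := F.quad _ ha _ (hinS hs)
    have h2 : ∀ y ∈ (S : Subgroup G), y * (s * a * s⁻¹ * a⁻¹) = (s * a * s⁻¹ * a⁻¹) * y := fun y hy => hψ (by
      simp only [map_mul, map_inv]
      exact h1 _ (hinS hy))
    have hw : s * a * s⁻¹ * a⁻¹ ∈ (S : Subgroup G) :=
      mul_mem (mul_mem (mul_mem hs (hmemS (hVe ha))) (inv_mem hs)) (inv_mem (hmemS (hVe ha)))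
    exact ⟨Subgroup.le_normalClosure ⟨hw, h2⟩, h2⟩

section Middle

variable {L m : ℕ} (C : Chain 𝒮 2 L)

theorem exists_twoBase (hcrit : ∀ i, m ≤ i + 2 → i ≤ m → ¬ 𝒮.V (C.c i) ≤ 𝒮.Q (C.c (i + 2)))
    (hopp : Opp (𝒮.H (C.c m)) (𝒮.Q (C.c m)) (C.e (m - 1)) (C.e m)) (P : PullAt S 𝒮 (C.c m) (C.e m) ψ)
    (hm : 2 ≤ m) (hmL : m + 2 ≤ L) :
    TwoBase S ((C.e (m - 1)).comap ψ) ((𝒮.V (C.c (m + 2))).comap ψ) ((𝒮.V (C.c (m - 2))).comap ψ)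
      ((𝒮.V (C.c (m - 1))).comap ψ) ((𝒮.V (C.c (m + 1))).comap ψ)
      ((𝒮.Q (C.c m) ⊓ 𝒮.Q (C.c (m - 1)) ⊓ 𝒮.Q (C.c (m + 1))).comap ψ) ∧
    Nat.card ↥((𝒮.V (C.c (m + 1))).comap ψ) * Nat.card (𝒮.Q (C.c (m - 1))) ≤
      Nat.card (S : Subgroup G) * Nat.card ↥((𝒮.V (C.c (m + 1))).comap ψ ⊓
        (𝒮.Q (C.c m) ⊓ 𝒮.Q (C.c (m - 1)) ⊓ 𝒮.Q (C.c (m + 1))).comap ψ) ∧
    Nat.card ↥((𝒮.V (C.c (m - 1))).comap ψ) * Nat.card (𝒮.Q (C.c (m + 1))) ≤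
      Nat.card (S : Subgroup G) * Nat.card ↥((𝒮.V (C.c (m - 1))).comap ψ ⊓
        (𝒮.Q (C.c m) ⊓ 𝒮.Q (C.c (m - 1)) ⊓ 𝒮.Q (C.c (m + 1))).comap ψ) := by
  obtain ⟨m₁, rfl⟩ : ∃ m₁, m = m₁ + 2 := ⟨m - 2, by omega⟩
  obtain ⟨hψ, hH, hQ, hV, hS, hT⟩ := P
  simp only [show m₁ + 2 - 2 = m₁ by omega, show m₁ + 2 - 1 = m₁ + 1 by omega,
    show m₁ + 2 + 1 = m₁ + 3 by omega, show m₁ + 2 + 2 = m₁ + 4 by omega] at hopp hH hQ hV hS hT ⊢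
  -- the flags
  have F1 : Flag p (𝒮.H (C.c (m₁ + 1))) (𝒮.Q (C.c (m₁ + 1))) (𝒮.V (C.c (m₁ + 1))) (C.e (m₁ + 1)) :=
    C.flag_l (by omega)
  have F2 : Flag p (𝒮.H (C.c (m₁ + 2))) (𝒮.Q (C.c (m₁ + 2))) (𝒮.V (C.c (m₁ + 2))) (C.e (m₁ + 2)) :=
    C.flag_l (by omega)
  have F2' : Flag p (𝒮.H (C.c (m₁ + 2))) (𝒮.Q (C.c (m₁ + 2))) (𝒮.V (C.c (m₁ + 2))) (C.e (m₁ + 1)) :=
    C.flag_r (by omega)
  have F3 : Flag p (𝒮.H (C.c (m₁ + 3))) (𝒮.Q (C.c (m₁ + 3))) (𝒮.V (C.c (m₁ + 3))) (C.e (m₁ + 2)) :=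
    C.flag_r (by omega)
  have hnear : ∀ i j, i ≤ L → j ≤ L → i ≤ j + 1 → j ≤ i + 1 → 𝒮.V (C.c i) ≤ 𝒮.Q (C.c j) :=
    fun i j hi hj h1 h2 => C.near hi hj (by omega) (by omega)
  -- membership
  have hrange : 𝒮.H (C.c (m₁ + 2)) ≤ ψ.range := hH ▸ Subgroup.map_le_range ψ _
  have hmc : ∀ {X : Subgroup Γ}, X ≤ 𝒮.H (C.c (m₁ + 2)) → (X.comap ψ).map ψ = X := fun {X} hX => by
    rw [Subgroup.map_comap_eq]; exact inf_eq_right.mpr (hX.trans hrange)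
  have inj_mem : ∀ {X : Subgroup G} {Y : Subgroup Γ}, X.map ψ = Y → ∀ {x}, ψ x ∈ Y ↔ x ∈ X :=
    fun {X Y} h {x} => by rw [← h]; exact Subgroup.mem_map_iff_mem hψ
  have hQe2 : 𝒮.Q (C.c (m₁ + 2)) ≤ C.e (m₁ + 2) := F2.Q_le
  have hQH : 𝒮.Q (C.c (m₁ + 2)) ≤ 𝒮.H (C.c (m₁ + 2)) := hQe2.trans F2.T_le
  have hA_Q : 𝒮.V (C.c (m₁ + 1)) ≤ 𝒮.Q (C.c (m₁ + 2)) := hnear _ _ (by omega) (by omega) (by omega) (by omega)
  have hC_Q : 𝒮.V (C.c (m₁ + 3)) ≤ 𝒮.Q (C.c (m₁ + 2)) := hnear _ _ (by omega) (by omega) (by omega) (by omega)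
  have hX_e : 𝒮.V (C.c (m₁ + 4)) ≤ C.e (m₁ + 2) :=
    (hnear _ (m₁ + 3) (by omega) (by omega) (by omega) (by omega)).trans F3.Q_le
  have hY_e : 𝒮.V (C.c m₁) ≤ C.e (m₁ + 1) :=
    (hnear _ (m₁ + 1) (by omega) (by omega) (by omega) (by omega)).trans F1.Q_le
  set D₀ := 𝒮.Q (C.c (m₁ + 2)) ⊓ 𝒮.Q (C.c (m₁ + 1)) ⊓ 𝒮.Q (C.c (m₁ + 3)) with hD₀
  have hD_Q : D₀ ≤ 𝒮.Q (C.c (m₁ + 2)) := inf_le_left.trans inf_le_left
  have hD1 : D₀ ≤ 𝒮.Q (C.c (m₁ + 1)) := inf_le_left.trans inf_le_right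
  have hD3 : D₀ ≤ 𝒮.Q (C.c (m₁ + 3)) := inf_le_right
  have hA1 : 𝒮.V (C.c (m₁ + 1)) ≤ 𝒮.Q (C.c (m₁ + 1)) := F1.V_le
  have hC3 : 𝒮.V (C.c (m₁ + 3)) ≤ 𝒮.Q (C.c (m₁ + 3)) := F3.V_le
  -- the covers
  have hcr : ¬ 𝒮.V (C.c m₁) ≤ 𝒮.Q (C.c (m₁ + 2)) := hcrit m₁ (by omega) (by omega)
  have hcr1 : ¬ 𝒮.V (C.c (m₁ + 1)) ≤ 𝒮.Q (C.c (m₁ + 1 + 2)) := hcrit (m₁ + 1) (by omega) (by omega)
  have hcr2 : ¬ 𝒮.V (C.c (m₁ + 2)) ≤ 𝒮.Q (C.c (m₁ + 2 + 2)) := hcrit (m₁ + 2) (by omega) (by omega)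
  obtain ⟨-, -, hcov0⟩ := C.cover_at (i := m₁) (by omega) hcr
  rw [show m₁ + 2 - 1 = m₁ + 1 by omega] at hcov0
  obtain ⟨-, hcov1, hcov1'⟩ := C.cover_at (i := m₁ + 1) (by omega) hcr1
  rw [show m₁ + 1 + 2 - 1 = m₁ + 2 by omega, show m₁ + 1 + 2 = m₁ + 3 by omega] at hcov1'
  rw [show m₁ + 1 + 2 = m₁ + 3 by omega] at hcov1
  obtain ⟨-, hcov2, -⟩ := C.cover_at (i := m₁ + 2) (by omega) hcr2
  rw [show m₁ + 2 + 2 = m₁ + 4 by omega] at hcov2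
  obtain ⟨g₁, hg₁⟩ := hT _ (C.edge_r (m₁ + 1) (by omega))
  have hT' : (C.e (m₁ + 1)).comap ψ = cj g₁ (S : Subgroup G) := by
    rw [hg₁, Subgroup.comap_map_eq_self_of_injective hψ]
  have hT'map : ((C.e (m₁ + 1)).comap ψ).map ψ = C.e (m₁ + 1) := hmc F2'.T_le
  have hcard_T : Nat.card (C.e (m₁ + 1)) = Nat.card (S : Subgroup G) := by
    rw [hg₁, Subgroup.card_map_of_injective hψ]
    exact Subgroup.card_map_of_injective (MulEquiv.injective _)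
  have hcard_S : Nat.card (C.e (m₁ + 2)) = Nat.card (S : Subgroup G) := by
    rw [← hS, Subgroup.card_map_of_injective hψ]
  have hcentral : ∀ {w : G}, (∀ y ∈ C.e (m₁ + 1), y * ψ w = ψ w * y) → (∀ y ∈ C.e (m₁ + 2), y * ψ w = ψ w * y) →
      w ∈ center G := by
    intro w h1 h2
    obtain ⟨x, hx, hxQ⟩ := F2.exists_mem
    refine Subgroup.mem_center_iff.mpr fun y => hψ ?_
    rw [map_mul, map_mul]
    have hy : ψ y ∈ 𝒮.H (C.c (m₁ + 2)) := hH ▸ ⟨y, mem_top y, rfl⟩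
    rw [← hopp.right x hx hxQ] at hy
    have : closure {x} ⊔ C.e (m₁ + 1) ≤ centralizer {ψ w} := sup_le
      ((Subgroup.closure_le _).mpr (Set.singleton_subset_iff.mpr (mem_centralizer_singleton_iff.mpr (h2 x hx))))
      fun z hz => mem_centralizer_singleton_iff.mpr (h1 z hz)
    exact mem_centralizer_singleton_iff.mp (this hy)
  have hfxS : ∀ {w : G}, ψ w ∈ 𝒮.V (C.c (m₁ + 2)) → ψ w ∈ centralizer (C.e (m₁ + 2) : Set Γ) →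
      w ∈ fx (vmod S) (S : Subgroup G) := fun {w} h1 h2 =>
    ⟨(inj_mem hV).mp h1, fun y hy => hψ (by rw [map_mul, map_mul]; exact h2 _ ((inj_mem hS).mpr hy))⟩
  have hfxT : ∀ {w : G}, ψ w ∈ 𝒮.V (C.c (m₁ + 2)) → ψ w ∈ centralizer (C.e (m₁ + 1) : Set Γ) →
      w ∈ fx (vmod S) ((C.e (m₁ + 1)).comap ψ) := fun {w} h1 h2 =>
    ⟨(inj_mem hV).mp h1, fun y hy => hψ (by rw [map_mul, map_mul]; exact h2 _ hy)⟩
  refine ⟨
    { opp := ⟨fun x hx hxQ => Subgroup.map_injective hψ ?_, fun x hx hxQ => Subgroup.map_injective hψ ?_⟩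
      conj := ⟨g₁, hT'⟩
      X_le := fun x hx => (inj_mem hS).mp (hX_e hx)
      Y_le := fun x hx => hY_e hx
      X_sup := Subgroup.map_injective hψ ?_
      Y_sup := Subgroup.map_injective hψ ?_
      A_le := fun x hx => (inj_mem hQ).mp (hA_Q hx)
      C_le := fun x hx => (inj_mem hQ).mp (hC_Q hx)
      D_le := fun x hx => (inj_mem hQ).mp (hD_Q hx)
      V_le := ?_
      abelA := fun a ha b hb => hψ (by rw [map_mul, map_mul]; exact F1.abel _ ha _ hb)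
      abelC := fun a ha b hb => hψ (by rw [map_mul, map_mul]; exact F3.abel _ ha _ hb)
      abelX := fun a ha b hb => hψ (by
        obtain ⟨T, hT4⟩ := C.exists_edge (i := m₁ + 4) (by omega)
        rw [map_mul, map_mul]; exact (𝒮.flag _ _ hT4).abel _ ha _ hb)
      elemA := fun a ha => hψ (by rw [map_pow, map_one]; exact F1.elem _ ha)
      elemC := fun a ha => hψ (by rw [map_pow, map_one]; exact F3.elem _ ha)
      elemX := ?_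
      AC := fun a ha c hc => ?_
      XC := fun x hx c hc => hψ (by
        rw [map_mul, map_mul]; exact C.comm (by omega) (by omega) (by omega) (by omega) _ hx _ hc)
      YA := fun x hx c hc => hψ (by
        rw [map_mul, map_mul]; exact C.comm (by omega) (by omega) (by omega) (by omega) _ hx _ hc)
      AD := fun a ha d hd => hψ (by rw [map_mul, map_mul]; exact (F1.V_cent _ (hD1 hd) _ ha).symm)
      CD := fun a ha d hd => hψ (by rw [map_mul, map_mul]; exact (F3.V_cent _ (hD3 hd) _ ha).symm)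
      normD := ?_
      DX := fun d hd x hx => ?_
      DY := fun d hd y hy => ?_
      split := fun q hq => ?_
      comE := fun s hs q hq => ?_
      comE' := fun t ht q hq => ?_
      fixA := ?_
      alive := ?_ }, ?_, ?_⟩
  · rw [Subgroup.map_sup, MonoidHom.map_closure, Set.image_singleton, hT'map, hH]
    exact hopp.right _ ((inj_mem hS).mpr hx) fun h => hxQ ((inj_mem hQ).mp h)
  · rw [Subgroup.map_sup, MonoidHom.map_closure, Set.image_singleton, hS, hH]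
    exact hopp.left _ hx fun h => hxQ ((inj_mem hQ).mp h)
  · rw [Subgroup.map_sup, hmc (hX_e.trans F2.T_le), hQ, hS, hcov2]
  · rw [Subgroup.map_sup, hmc (hY_e.trans F2'.T_le), hQ, hT'map, hcov0]
  · intro v hv
    have h := (inj_mem hV).mpr hv
    exact ⟨⟨F2.V_le h, hnear _ _ (by omega) (by omega) (by omega) (by omega) h⟩,
      hnear _ _ (by omega) (by omega) (by omega) (by omega) h⟩
  · intro a ha
    obtain ⟨T, hT4⟩ := C.exists_edge (i := m₁ + 4) (by omega)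
    exact hψ (by rw [map_pow, map_one]; exact (𝒮.flag _ _ hT4).elem _ ha)
  · refine hcentral ?_ ?_ <;> simp only [map_mul, map_inv]
    · intro y hy
      have h := F1.quad _ ha _ (F2'.Q_le (hC_Q hc))
      have e : ψ a * ψ c * (ψ a)⁻¹ * (ψ c)⁻¹ = (ψ c * ψ a * (ψ c)⁻¹ * (ψ a)⁻¹)⁻¹ := by group
      rw [e]; exact inv_mem h y hy
    · intro y hy
      exact F3.quad _ hc _ (F2.Q_le (hA_Q ha)) y hy
  · intro x hx
    refine mem_normalizer_of_conj fun d hd => ?_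
    show ψ (x * d * x⁻¹) ∈ D₀
    rw [map_mul, map_mul, map_inv]
    have hx2 := (inj_mem hQ).mpr hx
    exact ⟨⟨conj_mem (F2.T_le_norm_Q (hQe2 hx2)) (hD_Q hd), conj_mem (F1.T_le_norm_Q (F2'.Q_le hx2)) (hD1 hd)⟩,
      conj_mem (F3.T_le_norm_Q (hQe2 hx2)) (hD3 hd)⟩
  · have hde : ψ d ∈ C.e (m₁ + 2 + 2 - 1) := by
      rw [show m₁ + 2 + 2 - 1 = m₁ + 3 by omega]; exact (C.flag_l (by omega)).Q_le (hD3 hd)
    obtain ⟨v, hv, q, hq, hvq⟩ := C.split_l (i := m₁ + 2) (by omega) hcr2 hde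
    rw [show m₁ + 2 + 2 = m₁ + 4 by omega] at hq
    obtain ⟨T, hT4⟩ := C.exists_edge (i := m₁ + 4) (by omega)
    have hqx : Commute q (ψ x) := (𝒮.flag _ _ hT4).V_cent q hq _ hx
    have e : ψ (x * d * x⁻¹ * d⁻¹) = ψ x * v * (ψ x)⁻¹ * v⁻¹ := by
      simp only [map_mul, map_inv, ← hvq]
      calc ψ x * (v * q) * (ψ x)⁻¹ * (v * q)⁻¹ = ψ x * v * (q * (ψ x)⁻¹ * q⁻¹) * v⁻¹ := by group
        _ = _ := by rw [hqx.inv_right.eq, mul_inv_cancel_right]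
    exact hfxS (e ▸ F2.comm_mem_V (F2.T_le (hX_e hx)) hv) (e ▸ F2.quad v hv _ (hX_e hx))
  · have hde : ψ d ∈ C.e m₁ := by
      have hfl := C.flag_r (i := m₁) (by omega)
      exact hfl.Q_le (hD1 hd)
    obtain ⟨v, hv, q, hq, hvq⟩ := C.split_r (i := m₁) (by omega) hcr hde
    obtain ⟨T, hT0⟩ := C.exists_edge (i := m₁) (by omega)
    have hqx : Commute q (ψ y) := (𝒮.flag _ _ hT0).V_cent q hq _ hy
    have e : ψ (y * d * y⁻¹ * d⁻¹) = ψ y * v * (ψ y)⁻¹ * v⁻¹ := by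
      simp only [map_mul, map_inv, ← hvq]
      calc ψ y * (v * q) * (ψ y)⁻¹ * (v * q)⁻¹ = ψ y * v * (q * (ψ y)⁻¹ * q⁻¹) * v⁻¹ := by group
        _ = _ := by rw [hqx.inv_right.eq, mul_inv_cancel_right]
    exact hfxT (e ▸ F2'.comm_mem_V (F2'.T_le (hY_e hy)) hv) (e ▸ F2'.quad v hv _ (hY_e hy))
  · have hq2 := (inj_mem hQ).mpr hq
    obtain ⟨w, hw, q1, hq1, hwq⟩ := C.split_r (i := m₁ + 1) (by omega) hcr1 (F2'.Q_le hq2)
    rw [show m₁ + 1 + 2 = m₁ + 3 by omega] at hw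
    have hq12 : q1 ∈ 𝒮.Q (C.c (m₁ + 2)) := by
      have : q1 = w⁻¹ * ψ q := by rw [← hwq]; group
      rw [this]; exact mul_mem (inv_mem (hC_Q hw)) hq2
    have hq1e : q1 ∈ C.e (m₁ + 1 + 2 - 1) := by
      rw [show m₁ + 1 + 2 - 1 = m₁ + 2 by omega]; exact hQe2 hq12
    obtain ⟨a, ha, d, hd, had⟩ := C.split_l (i := m₁ + 1) (by omega) hcr1 hq1e
    rw [show m₁ + 1 + 2 = m₁ + 3 by omega] at hd
    have hdD : d ∈ D₀ := by
      have e : d = a⁻¹ * q1 := by rw [← had]; group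
      exact Subgroup.mem_inf.mpr ⟨Subgroup.mem_inf.mpr ⟨(by rw [e]; exact mul_mem (inv_mem (hA_Q ha)) hq12), (by rw [e]; exact mul_mem (inv_mem (hA1 ha)) hq1)⟩, hd⟩
    obtain ⟨w', hw'⟩ := hrange (hQH (hC_Q hw))
    obtain ⟨a', ha'⟩ := hrange (hQH (hA_Q ha))
    obtain ⟨d', hd'⟩ := hrange (hQH (hD_Q hdD))
    refine ⟨w', Subgroup.mem_comap.mpr (hw' ▸ hw), a', Subgroup.mem_comap.mpr (ha' ▸ ha), d',
      Subgroup.mem_comap.mpr (hd' ▸ hdD), hψ ?_⟩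
    rw [map_mul, map_mul, hw', ha', hd', mul_assoc, had, hwq]
  · set u := s * q * s⁻¹ * q⁻¹ with hu
    have hq2 := (inj_mem hQ).mpr hq
    have hs2 := (inj_mem hS).mpr hs
    have hu2 : ψ u ∈ 𝒮.Q (C.c (m₁ + 2)) := by
      simp only [hu, map_mul, map_inv]
      exact mul_mem (conj_mem (F2.T_le_norm_Q hs2) hq2) (inv_mem hq2)
    have hu3 : ψ u ∈ 𝒮.Q (C.c (m₁ + 3)) := by
      simp only [hu, map_mul, map_inv]
      exact F3.comm _ hs2 _ (hQe2 hq2)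
    obtain ⟨w, hw, q1, hq1, hwq⟩ := C.split_r (i := m₁ + 1) (by omega) hcr1 (F2'.Q_le hu2)
    rw [show m₁ + 1 + 2 = m₁ + 3 by omega] at hw
    have hq1D : q1 ∈ D₀ := by
      have e : q1 = w⁻¹ * ψ u := by rw [← hwq]; group
      exact Subgroup.mem_inf.mpr ⟨Subgroup.mem_inf.mpr ⟨(by rw [e]; exact mul_mem (inv_mem (hC_Q hw)) hu2), hq1⟩, (by rw [e]; exact mul_mem (inv_mem (hC3 hw)) hu3)⟩
    obtain ⟨w', hw'⟩ := hrange (hQH (hC_Q hw))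
    obtain ⟨d', hd'⟩ := hrange (hQH (hD_Q hq1D))
    rw [show u = w' * d' from hψ (by rw [map_mul ψ w' d', hw', hd', hwq])]
    exact mul_mem_sup (Subgroup.mem_comap.mpr (hw' ▸ hw)) (Subgroup.mem_comap.mpr (hd' ▸ hq1D))
  · set u := t * q * t⁻¹ * q⁻¹ with hu
    have hq2 := (inj_mem hQ).mpr hq
    have hu2 : ψ u ∈ 𝒮.Q (C.c (m₁ + 2)) := by
      simp only [hu, map_mul, map_inv]
      exact mul_mem (conj_mem (F2'.T_le_norm_Q ht) hq2) (inv_mem hq2)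
    have hu1 : ψ u ∈ 𝒮.Q (C.c (m₁ + 1)) := by
      simp only [hu, map_mul, map_inv]
      exact F1.comm _ ht _ (F2'.Q_le hq2)
    have hue : ψ u ∈ C.e (m₁ + 1 + 2 - 1) := by
      rw [show m₁ + 1 + 2 - 1 = m₁ + 2 by omega]; exact hQe2 hu2
    obtain ⟨w, hw, q1, hq1, hwq⟩ := C.split_l (i := m₁ + 1) (by omega) hcr1 hue
    rw [show m₁ + 1 + 2 = m₁ + 3 by omega] at hq1
    have hq1D : q1 ∈ D₀ := by
      have e : q1 = w⁻¹ * ψ u := by rw [← hwq]; group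
      exact Subgroup.mem_inf.mpr ⟨Subgroup.mem_inf.mpr ⟨(by rw [e]; exact mul_mem (inv_mem (hA_Q hw)) hu2), (by rw [e]; exact mul_mem (inv_mem (hA1 hw)) hu1)⟩, hq1⟩
    obtain ⟨w', hw'⟩ := hrange (hQH (hA_Q hw))
    obtain ⟨d', hd'⟩ := hrange (hQH (hD_Q hq1D))
    rw [show u = w' * d' from hψ (by rw [map_mul ψ w' d', hw', hd', hwq])]
    exact mul_mem_sup (Subgroup.mem_comap.mpr (hw' ▸ hw)) (Subgroup.mem_comap.mpr (hd' ▸ hq1D))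
  · intro a ha hg
    have he : cj (ψ g₁)⁻¹ (C.e (m₁ + 1)) = C.e (m₁ + 2) := by
      rw [hg₁, map_cj, cj_cj, inv_mul_cancel, cj_one, hS]
    have hu : 𝒮.edge (𝒮.mv (ψ g₁)⁻¹ (C.c (m₁ + 1))) (C.e (m₁ + 2)) := by
      have := 𝒮.edge_mv (ψ g₁)⁻¹ _ _ (C.edge_l (m₁ + 1) (by omega))
      rwa [he] at this
    have h1 : ψ (g₁⁻¹ * a * g₁) ∈ 𝒮.Q (C.c (m₁ + 3)) := by
      refine C.near_adj hu (C.edge_r (m₁ + 2) (by omega)) (i := m₁ + 3) (by omega) (by omega) (by omega) ?_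
      rw [𝒮.V_mv, map_mul, map_mul, map_inv]
      simpa using conj_mem_cj (g := (ψ g₁)⁻¹) (Subgroup.mem_comap.mp ha)
    have h2 : ψ a ∈ 𝒮.Q (C.c (m₁ + 3)) := by
      have e : a = (g₁⁻¹ * a * g₁⁻¹⁻¹ * a⁻¹)⁻¹ * (g₁⁻¹ * a * g₁) := by group
      rw [e, map_mul, map_inv]
      exact mul_mem (inv_mem (hD3 (Subgroup.mem_comap.mp (hg g₁⁻¹)))) h1
    exact Subgroup.mem_comap.mpr (Subgroup.mem_inf.mpr ⟨Subgroup.mem_inf.mpr ⟨hA_Q ha, hA1 ha⟩, h2⟩)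
  · intro Lg hLg hsup
    by_contra hno
    push Not at hno
    obtain ⟨l, hl, s₁, hs₁, hls⟩ := exists_mul (X := Lg) (le_normalizer_of_normal' hLg _) (hsup.ge (mem_top g₁))
    have he : cj (ψ l)⁻¹ (C.e (m₁ + 1)) = C.e (m₁ + 2) := by
      rw [hg₁, ← hls, ← cj_cj, cj_eq_self (Subgroup.le_normalizer hs₁), map_cj, cj_cj, inv_mul_cancel, cj_one, hS]
    have hu : 𝒮.edge (𝒮.mv (ψ l)⁻¹ (C.c (m₁ + 1))) (C.e (m₁ + 2)) := by
      have := 𝒮.edge_mv (ψ l)⁻¹ _ _ (C.edge_l (m₁ + 1) (by omega))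
      rwa [he] at this
    refine hcr1 fun w hw => ?_
    rw [show m₁ + 1 + 2 = m₁ + 3 by omega]
    obtain ⟨a, haQ, rfl⟩ : w ∈ (pCore p G).map ψ := hQ ▸ hA_Q hw
    have h1 : ψ (l⁻¹ * a * l) ∈ 𝒮.Q (C.c (m₁ + 3)) := by
      refine C.near_adj hu (C.edge_r (m₁ + 2) (by omega)) (i := m₁ + 3) (by omega) (by omega) (by omega) ?_
      rw [𝒮.V_mv, map_mul, map_mul, map_inv]
      simpa using conj_mem_cj (g := (ψ l)⁻¹) hw
    have hq : l⁻¹ * a * l ∈ pCore p G := by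
      simpa using (inferInstance : (pCore p G).Normal).conj_mem a haQ l⁻¹
    have h2 : ψ (l * (l⁻¹ * a * l) * l⁻¹ * (l⁻¹ * a * l)⁻¹) ∈ 𝒮.Q (C.c (m₁ + 3)) :=
      hnear _ _ (by omega) (by omega) (by omega) (by omega) ((inj_mem hV).mpr (hno l hl _ hq))
    have e : ψ a = ψ (l * (l⁻¹ * a * l) * l⁻¹ * (l⁻¹ * a * l)⁻¹) * ψ (l⁻¹ * a * l) := by
      rw [← map_mul]; congr 1; group
    rw [e]
    exact mul_mem h2 h1
  · rw [← hcard_T, ← Subgroup.comap_inf, ← Subgroup.card_map_of_injective hψ, hmc (hC_Q.trans hQH),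
      ← Subgroup.card_map_of_injective hψ, hmc (inf_le_left.trans (hC_Q.trans hQH))]
    have hle : 𝒮.V (C.c (m₁ + 3)) ⊓ 𝒮.Q (C.c (m₁ + 1)) ≤ 𝒮.V (C.c (m₁ + 3)) ⊓ D₀ := fun x hx =>
      ⟨hx.1, ⟨⟨hC_Q hx.1, hx.2⟩, hC3 hx.1⟩⟩
    have hn : 𝒮.V (C.c (m₁ + 3)) ≤ normalizer (𝒮.Q (C.c (m₁ + 1)) : Set Γ) :=
      (hC_Q.trans F2'.Q_le).trans F1.T_le_norm_Q
    have h := CfsgLib.ZJ.card_mul_eq_of_le_normalizer (H := 𝒮.Q (C.c (m₁ + 1))) (K := 𝒮.V (C.c (m₁ + 3))) hn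
    rw [sup_comm, hcov1] at h
    calc Nat.card (𝒮.V (C.c (m₁ + 3))) * Nat.card (𝒮.Q (C.c (m₁ + 1)))
        = Nat.card (C.e (m₁ + 1)) * Nat.card ↥(𝒮.V (C.c (m₁ + 3)) ⊓ 𝒮.Q (C.c (m₁ + 1))) := by
          rw [mul_comm, h, inf_comm]
      _ ≤ _ := Nat.mul_le_mul le_rfl (Subgroup.card_le_of_le hle)
  · rw [← hcard_S, ← Subgroup.comap_inf, ← Subgroup.card_map_of_injective hψ, hmc (hA_Q.trans hQH),
      ← Subgroup.card_map_of_injective hψ, hmc (inf_le_left.trans (hA_Q.trans hQH))]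
    have hle : 𝒮.V (C.c (m₁ + 1)) ⊓ 𝒮.Q (C.c (m₁ + 3)) ≤ 𝒮.V (C.c (m₁ + 1)) ⊓ D₀ := fun x hx =>
      ⟨hx.1, ⟨⟨hA_Q hx.1, hA1 hx.1⟩, hx.2⟩⟩
    have hn : 𝒮.V (C.c (m₁ + 1)) ≤ normalizer (𝒮.Q (C.c (m₁ + 3)) : Set Γ) :=
      (hA_Q.trans hQe2).trans F3.T_le_norm_Q
    have h := CfsgLib.ZJ.card_mul_eq_of_le_normalizer (H := 𝒮.Q (C.c (m₁ + 3))) (K := 𝒮.V (C.c (m₁ + 1))) hn
    rw [sup_comm, hcov1'] at h
    calc Nat.card (𝒮.V (C.c (m₁ + 1))) * Nat.card (𝒮.Q (C.c (m₁ + 3)))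
        = Nat.card (C.e (m₁ + 2)) * Nat.card ↥(𝒮.V (C.c (m₁ + 1)) ⊓ 𝒮.Q (C.c (m₁ + 3))) := by
          rw [mul_comm, h, inf_comm]
      _ ≤ _ := Nat.mul_le_mul le_rfl (Subgroup.card_le_of_le hle)

end Middle

end Vertex

end CfsgLib.PushUp
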