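import Mathlib
import Cfsg.Agent.Lib.PushUp.Pullback
import Cfsg.Agent.Lib.PushUp.Layers

/-!
The structure when `b = 1`.
-/

set_option autoImplicit false
set_option linter.unusedSectionVars false

namespace CfsgLib.PushUp

open Cfsg Subgroup CfsgLib.PushRankOne CfsgLib.PSL2
open scoped commutatorElement

universe u

variable {G : Type u} [Group G] [Finite G] {p : ℕ} [Fact p.Prime] {S : Sylow p G}

/-- If the residual moves `Q` only into the module, it moves commutators of `Q` trivially. -/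
theorem res_comm_core (hS : Setting S) (hd : Mild S) {N : Subgroup G} (hN : N ≤ pCore p G)
    (h : ∀ n ∈ N, ∀ r ∈ Cfsg.pResidual p G, r * n * r⁻¹ * n⁻¹ ∈ vmod S) :
    ∀ z ∈ ⁅N, N⁆, ∀ r ∈ Cfsg.pResidual p G, r * z = z * r := by
  have hV := vmod_mdl hS hd
  intro z hz r hr
  have hle : ⁅N, N⁆ ≤ centralizer {r} := commutator_le' fun a ha b hb => by
    rw [mem_centralizer_singleton_iff]
    set u := r * a * r⁻¹ * a⁻¹ with hu
    set v := r * b * r⁻¹ * b⁻¹ with hv
    have hua := h a ha r hr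
    have hvb := h b hb r hr
    have ea : r * a * r⁻¹ = u * a := by rw [hu]; group
    have eb : r * b * r⁻¹ = v * b := by rw [hv]; group
    have c1 : Commute u b := hV.cent u hua b (hN hb) |>.symm
    have c2 : Commute v a := hV.cent v hvb a (hN ha) |>.symm
    have c3 : Commute u v := hV.comm u hua v hvb
    have c4 : Commute u a := hV.cent u hua a (hN ha) |>.symm
    have c5 : Commute v b := hV.cent v hvb b (hN hb) |>.symm
    have e : r * (a * b * a⁻¹ * b⁻¹) * r⁻¹ = a * b * a⁻¹ * b⁻¹ := by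
      calc r * (a * b * a⁻¹ * b⁻¹) * r⁻¹ = (r * a * r⁻¹) * (r * b * r⁻¹) * (r * a * r⁻¹)⁻¹ * (r * b * r⁻¹)⁻¹ := by
            group
        _ = u * (a * v) * b * a⁻¹ * u⁻¹ * b⁻¹ * v⁻¹ := by rw [ea, eb]; group
        _ = u * v * (a * b * a⁻¹) * (u⁻¹ * b⁻¹) * v⁻¹ := by rw [← c2.eq]; group
        _ = u * v * (a * b * a⁻¹ * b⁻¹) * (u⁻¹ * v⁻¹) := by rw [c1.inv_inv.eq]; group
        _ = (a * b * a⁻¹ * b⁻¹) * (u * v) * (u⁻¹ * v⁻¹) := by
            rw [((c4.mul_right c1).mul_right c4.inv_right |>.mul_right c1.inv_right).mul_left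
              (((c2.mul_right c5).mul_right c2.inv_right).mul_right c5.inv_right) |>.eq]
        _ = _ := by rw [c3.eq]; group
    exact (mul_inv_eq_iff_eq_mul.mp e).symm
  exact (mem_centralizer_singleton_iff.mp (hle hz)).symm

namespace One

variable {A : Subgroup G} (hA : One S A) (hS : Setting S) (hd : Mild S)
include hA hS hd

theorem mem_V_of_fx {y : G} (hy : y ∈ fx (vmod S) (S : Subgroup G)) : y ∈ vmod S := hy.1

theorem res_Q : ∀ n ∈ pCore p G, ∀ r ∈ Cfsg.pResidual p G, r * n * r⁻¹ * n⁻¹ ∈ vmod S := by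
  haveI : (vmod S).Normal := normalClosure_normal
  obtain ⟨a, ha, haQ⟩ := SetLike.not_le_iff_exists.mp hA.not_le
  have h : Cfsg.pResidual p G ≤ actKer (pCore p G) (vmod S) := res_le_of_mem hS (hA.le ha)
    (show a ∈ actKer (pCore p G) (vmod S) from fun q hq => comm_swap (hA.cen q (hS.core_le hq) a ha).1) haQ
  exact fun n hn r hr => h hr n hn

theorem res_derived : ∀ z ∈ ⁅pCore p G, pCore p G⁆, ∀ r ∈ Cfsg.pResidual p G, r * z = z * r :=
  res_comm_core hS hd le_rfl (res_Q hA hS hd)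

theorem lcs_one_ne : (S : Subgroup G).lowerCentralSeries 1 ≠ ⊥ := by
  intro h
  obtain ⟨x, hx, hxQ⟩ := hS.exists_mem
  refine hxQ (hS.charP fun q hq => ?_)
  have h1 : ⁅q, x⁆ ∈ (S : Subgroup G).lowerCentralSeries 1 :=
    Subgroup.commutator_mem_commutator (hS.core_le hq) hx
  rw [h, Subgroup.mem_bot, commutatorElement_eq_one_iff_mul_comm] at h1
  exact h1

theorem derived_le : ⁅(S : Subgroup G), (S : Subgroup G)⁆ ≤ ⁅pCore p G, pCore p G⁆ ⊔ fx (vmod S) (S : Subgroup G) := by
  set Q := pCore p G with hQ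
  set N := ⁅Q, Q⁆ ⊔ fx (vmod S) (S : Subgroup G) with hN
  haveI : (⁅Q, Q⁆).Normal := Subgroup.commutator_normal _ _
  have hNn : (S : Subgroup G) ≤ normalizer (N : Set G) := by
    intro s hs
    refine mem_normalizer_of_conj fun x hx => ?_
    obtain ⟨d, hdd, z, hz, rfl⟩ := exists_mul (normalizer_top _ _) hx
    rw [show s * (d * z) * s⁻¹ = (s * d * s⁻¹) * (s * z * s⁻¹) by group]
    refine mul_mem (mem_sup_left (‹(⁅Q, Q⁆).Normal›.conj_mem d hdd s)) (mem_sup_right ?_)
    rwa [show s * z = z * s from hz.2 s hs, mul_inv_cancel_right]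
  refine commutator_le' fun x hx y hy => ?_
  obtain ⟨a, ha, q, hq, rfl⟩ := exists_mul' (X := A) (normalizer_top Q A) (hA.sup.ge hx)
  obtain ⟨b, hb, r, hr, rfl⟩ := exists_mul' (X := A) (normalizer_top Q A) (hA.sup.ge hy)
  have haS := hA.le ha
  have hbS := hA.le hb
  have hqS := hS.core_le hq
  have hrS := hS.core_le hr
  have k1 : ∀ {c w : G}, c ∈ A → w ∈ Q → c * w * c⁻¹ * w⁻¹ ∈ N := fun {c w} hc hw =>
    mem_sup_right (comm_swap (hA.cen w (hS.core_le hw) c hc))
  have k2 : ∀ {w : G}, w ∈ N → ∀ {s : G}, s ∈ (S : Subgroup G) → s * w * s⁻¹ ∈ N := fun {w} hw {s} hs =>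
    conj_mem (hNn hs) hw
  have e : a * q * (b * r) * (a * q)⁻¹ * (b * r)⁻¹ =
      (a * (q * b * q⁻¹ * b⁻¹) * a⁻¹) * ((a * b) * (q * r * q⁻¹ * r⁻¹) * (a * b)⁻¹) *
        ((a * b) * r * a⁻¹ * r⁻¹ * b⁻¹) := by group
  rw [e]
  refine mul_mem (mul_mem (k2 (comm_swap (k1 hb hq)) haS) (k2 (mem_sup_left
    (Subgroup.commutator_mem_commutator hq hr)) (mul_mem haS hbS))) ?_
  have e2 : a * b * r * a⁻¹ * r⁻¹ * b⁻¹ = b * (a * r * a⁻¹ * r⁻¹) * b⁻¹ := by
    rw [hA.abel a ha b hb]; group
  rw [e2]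
  exact k2 (k1 ha hr) hbS

theorem lcs_two (hn : NoChar (S : Subgroup G)) : (S : Subgroup G).lowerCentralSeries 2 = ⊥ := by
  haveI : (⁅pCore p G, pCore p G⁆).Normal := Subgroup.commutator_normal _ _
  have hle : (S : Subgroup G).lowerCentralSeries 2 ≤ ⁅pCore p G, pCore p G⁆ := by
    show ⁅⁅(S : Subgroup G), (S : Subgroup G)⁆, (S : Subgroup G)⁆ ≤ _
    refine (Subgroup.commutator_mono (derived_le hA hS hd) le_rfl).trans (commutator_le' fun x hx s hs => ?_)
    obtain ⟨d, hdd, z, hz, rfl⟩ := exists_mul (normalizer_top _ _) hx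
    have e : d * z * s * (d * z)⁻¹ * s⁻¹ = d * (z * s * z⁻¹) * d⁻¹ * s⁻¹ := by group
    rw [e, show z * s = s * z from (hz.2 s hs).symm, mul_inv_cancel_right,
      show d * s * d⁻¹ * s⁻¹ = d * (s * d⁻¹ * s⁻¹) by group]
    exact mul_mem hdd (‹(⁅pCore p G, pCore p G⁆).Normal›.conj_mem _ (inv_mem hdd) s)
  refine eq_bot_of_res_fixed hn (hle.trans ((Subgroup.commutator_le_left _ _).trans hS.core_le)) (autInv_lcs 2)
    fun r hr k hk => res_derived hA hS hd k (hle hk) r hr

theorem res_pow {q r : G} (hq : q ∈ pCore p G) (hr : r ∈ Cfsg.pResidual p G) : r * q ^ p = q ^ p * r := by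
  have hV := vmod_mdl hS hd
  set u := r * q * r⁻¹ * q⁻¹ with hu
  have hu' := res_Q hA hS hd q hq r hr
  have c : Commute u q := (hV.cent u hu' q hq).symm
  have e : r * q ^ p * r⁻¹ = q ^ p := by
    rw [← conj_pow, show r * q * r⁻¹ = u * q by rw [hu]; group, c.mul_pow, vmod_pow hS hd hu', one_mul]
  exact mul_inv_eq_iff_eq_mul.mp e

theorem res_pow_odd (hp : p ≠ 2) {s r : G} (hs : s ∈ (S : Subgroup G)) (hr : r ∈ Cfsg.pResidual p G) :
    r * s ^ p = s ^ p * r := by
  obtain ⟨a, ha, q, hq, rfl⟩ := exists_mul' (X := A) (normalizer_top (pCore p G) A) (hA.sup.ge hs)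
  have key : (a * q) ^ p = q ^ p := by
    set c := q * a * q⁻¹ * a⁻¹ with hc
    have hcV : c ∈ vmod S := (hA.cen q (hS.core_le hq) a ha).1
    have hcc : ∀ y ∈ (S : Subgroup G), Commute y c := fun y hy => (hA.cen q (hS.core_le hq) a ha).2 y hy
    have hca : Commute a c := hcc a (hA.le ha)
    have hcq : Commute q c := hcc q (hS.core_le hq)
    have hqa : q * a = c * a * q := by rw [hc]; group
    have h : ∀ n : ℕ, (a * q) ^ n = c ^ (n.choose 2) * a ^ n * q ^ n := by
      have hstep : ∀ n : ℕ, q ^ n * a = c ^ n * a * q ^ n := by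
        intro n
        induction n with
        | zero => simp
        | succ n ih =>
          calc q ^ (n + 1) * a = q * (q ^ n * a) := by rw [pow_succ', mul_assoc]
            _ = (q * c ^ n) * a * q ^ n := by rw [ih]; simp only [mul_assoc]
            _ = c ^ n * (q * a) * q ^ n := by rw [(hcq.pow_right n).eq]; simp only [mul_assoc]
            _ = c ^ n * c * a * (q * q ^ n) := by rw [hqa]; simp only [mul_assoc]
            _ = _ := by rw [← pow_succ, ← pow_succ']
      intro n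
      induction n with
      | zero => simp
      | succ n ih =>
        calc (a * q) ^ (n + 1) = c ^ n.choose 2 * a ^ n * (q ^ n * a) * q := by
              rw [pow_succ, ih]; simp only [mul_assoc]
          _ = c ^ n.choose 2 * (a ^ n * c ^ n) * a * q ^ n * q := by rw [hstep]; simp only [mul_assoc]
          _ = c ^ n.choose 2 * c ^ n * (a ^ n * a) * (q ^ n * q) := by
              rw [((hca.pow_left n).pow_right n).eq]; simp only [mul_assoc]
          _ = _ := by
              rw [← pow_add, ← pow_succ, ← pow_succ,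
                show n.choose 2 + n = (n + 1).choose 2 by rw [Nat.choose_succ_succ n 1, Nat.choose_one_right]; ring]
    obtain ⟨m, hm⟩ := ((Fact.out : p.Prime).dvd_choose_self two_ne_zero
      (lt_of_le_of_ne (Fact.out : p.Prime).two_le (Ne.symm hp)))
    rw [h p, hm, pow_mul, vmod_pow hS hd hcV, one_pow, one_mul, hA.elem a ha, one_mul]
  rw [key]
  exact res_pow hA hS hd hq hr

theorem res_pow_four (hp : p = 2) {s r : G} (hs : s ∈ (S : Subgroup G)) (hr : r ∈ Cfsg.pResidual p G) :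
    r * s ^ 4 = s ^ 4 * r := by
  subst hp
  obtain ⟨a, ha, q, hq, rfl⟩ := exists_mul' (X := A) (normalizer_top (pCore 2 G) A) (hA.sup.ge hs)
  set c := q * a * q⁻¹ * a⁻¹ with hc
  have hcV : c ∈ vmod S := (hA.cen q (hS.core_le hq) a ha).1
  have hcc : ∀ y ∈ (S : Subgroup G), Commute y c := fun y hy => (hA.cen q (hS.core_le hq) a ha).2 y hy
  have key : (a * q) ^ 2 = c * q ^ 2 := by
    calc (a * q) ^ 2 = a * (q * a) * q := by rw [pow_two]; simp only [mul_assoc]
      _ = (a * c) * a * (q * q) := by rw [show q * a = c * a * q by rw [hc]; group]; simp only [mul_assoc]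
      _ = c * (a * a) * (q * q) := by rw [(show Commute a c from hcc a (hA.le ha)).eq]; simp only [mul_assoc]
      _ = _ := by rw [← pow_two, ← pow_two, hA.elem a ha, mul_one]
  have hcq : Commute c (q ^ 2) := ((hcc q (hS.core_le hq)).symm).pow_right 2
  rw [show (4 : ℕ) = 2 * 2 from rfl, pow_mul, key, hcq.mul_pow, vmod_pow hS hd hcV, one_mul]
  have h := res_pow hA hS hd hq hr
  exact ((show Commute r (q ^ 2) from h).pow_right 2).eq

theorem exp_odd (hn : NoChar (S : Subgroup G)) (hp : p ≠ 2) {s : G} (hs : s ∈ (S : Subgroup G)) : s ^ p = 1 :=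
  pow_eq_one_of_res_fixed hn p (fun r hr s hs => res_pow_odd hA hS hd hp hs hr) hs

theorem exp_four (hn : NoChar (S : Subgroup G)) (hp : p = 2) {s : G} (hs : s ∈ (S : Subgroup G)) : s ^ 4 = 1 :=
  pow_eq_one_of_res_fixed hn 4 (fun r hr s hs => res_pow_four hA hS hd hp hs hr) hs

/-- A subgroup of exponent two is commutative. -/
theorem not_exp_two : ¬ ∀ s ∈ (S : Subgroup G), s ^ 2 = 1 := by
  intro h
  refine lcs_one_ne hA hS hd ?_
  refine le_bot_iff.mp (commutator_le' fun x hx y hy => ?_)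
  have hx1 := h x hx
  have hy1 := h y hy
  have hxy := h (x * y) (mul_mem hx hy)
  rw [pow_two] at hx1 hy1 hxy
  rw [Subgroup.mem_bot, inv_eq_of_mul_eq_one_right hx1, inv_eq_of_mul_eq_one_right hy1]
  calc x * y * x * y = x * y * (x * y) := by group
    _ = 1 := hxy

theorem exists_kernel {F : Type} [Field F] [Fintype F] [CharP F p]
    {f : G →* Matrix.ProjectiveSpecialLinearGroup (Fin 2) F} {T' : Subgroup G}
    (C : Coords p F (pCore p G) (S : Subgroup G) T' f) {ρ : G →* Matrix.SpecialLinearGroup (Fin 2) F}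
    {φ : G → Fin 2 → F} (hsect : Sect ρ (vmod S) (zc S) φ)
    (hρS : ∀ s ∈ (S : Subgroup G), ∀ t, f s = uu t → ρ s = uSL t) : ρ.ker = pCore p G := by
  have hV := vmod_mdl hS hd
  haveI : (vmod S).Normal := normalClosure_normal
  haveI : (zc S).Normal := Subgroup.normal_inf_normal _ _
  refine ker_eq_core hS C hρS (fun r hr hρr q hq => ?_) (fun q hq => ?_)
  · have hrR : r ∈ Cfsg.pResidual p G := Subgroup.subset_closure hr
    have hd1 := res_Q hA hS hd q hq r hrR
    set d := r * q * r⁻¹ * q⁻¹ with hdd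
    have hz : r * d * r⁻¹ * d⁻¹ ∈ zc S := by
      refine (hsect.ker _ ((vmod S).mul_mem (hV.mem_conj hd1 r) ((vmod S).inv_mem hd1))).mp ?_
      rw [hsect.map_comm r hd1, hρr, Matrix.SpecialLinearGroup.coe_one, Matrix.one_mulVec, sub_self]
    have hdz : d ∈ zc S := push_down (q := q) hr (by rw [hdd]; group) (exists_pow_mem_of_mem_core hS _ (hV.le hd1)) hz
    have hd0 : d ∈ (⊥ : Subgroup G) := push_down (q := q) hr (by rw [hdd]; group)
      (exists_pow_mem_of_mem_core hS _ (hV.le hd1))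
      (by rw [Subgroup.mem_bot, Subgroup.mem_center_iff.mp hdz.2 r, mul_inv_cancel_right, mul_inv_cancel])
    rw [Subgroup.mem_bot, hdd, mul_inv_eq_one, mul_inv_eq_iff_eq_mul] at hd0
    exact hd0
  · refine MonoidHom.mem_ker.mpr (sl_eq_of_mulVec fun x => ?_)
    obtain ⟨y, hy, rfl⟩ := hsect.onto x
    rw [← hsect.equiv q y hy, show q * y = y * q from hV.cent y hy q hq, mul_inv_cancel_right,
      Matrix.SpecialLinearGroup.coe_one, Matrix.one_mulVec]

end One

end CfsgLib.PushUp
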