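import Mathlib
import Cfsg.Agent.Lib.PushUp.CaseOne

/-!
The layers when `b = 2`, and the moving pair transported from the next vertex.
-/

set_option autoImplicit false
set_option linter.unusedSectionVars false

namespace CfsgLib.PushUp

open Cfsg Subgroup CfsgLib.PushRankOne CfsgLib.PSL2
open scoped commutatorElement

universe u

variable {G : Type u} [Group G] {p : ℕ} [Fact p.Prime]

/-- The configuration with `b = 2` and a moving pair. -/
structure Two (S : Sylow p G) (T' X Y A C D : Subgroup G) : Prop extends TwoBase S T' X Y A C D where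
  cardC : Nat.card C * Nat.card (pCore p G) ≤ Nat.card (S : Subgroup G) * Nat.card ↥(C ⊓ D)
  cardA : Nat.card A * Nat.card (pCore p G) ≤ Nat.card (S : Subgroup G) * Nat.card ↥(A ⊓ D)
  key : ∃ a ∈ A, ∃ x ∈ X, ∃ v ∈ vmod S, x ∉ pCore p G ∧ x * v * x⁻¹ * v⁻¹ ≠ 1 ∧
    x * (x * a * x⁻¹ * a⁻¹) * x⁻¹ * (x * a * x⁻¹ * a⁻¹)⁻¹ = x * v * x⁻¹ * v⁻¹

/-- The layer below the second noncentral factor. -/
abbrev nz (S : Sylow p G) (D : Subgroup G) : Subgroup G := zc S ⊔ ⁅D, D⁆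

namespace TwoBase

variable [Finite G] {S : Sylow p G} {T' X Y A C D : Subgroup G}
variable (h : TwoBase S T' X Y A C D) (hS : Setting S) (hd : Mild S)
include h hS hd

theorem D_normal : D.Normal := by
  have hV := vmod_mdl hS hd
  have hX : X ≤ normalizer (D : Set G) := fun x hx => mem_normalizer_of_conj fun d hd' => by
    rw [show x * d * x⁻¹ = (x * d * x⁻¹ * d⁻¹) * d by group]
    exact mul_mem (h.V_le (h.DX d hd' x hx).1) hd'
  have hY : Y ≤ normalizer (D : Set G) := fun x hx => mem_normalizer_of_conj fun d hd' => by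
    rw [show x * d * x⁻¹ = (x * d * x⁻¹ * d⁻¹) * d by group]
    exact mul_mem (h.V_le (h.DY d hd' x hx).1) hd'
  refine Subgroup.normalizer_eq_top_iff.mp (top_le_iff.mp ((opp_fix hS h.opp).ge.trans (sup_le ?_ ?_)))
  · rw [← h.X_sup]; exact sup_le hX h.normD
  · rw [← h.Y_sup]; exact sup_le hY h.normD

theorem res_D : ∀ d ∈ D, ∀ r ∈ Cfsg.pResidual p G, r * d * r⁻¹ * d⁻¹ ∈ vmod S := by
  haveI := h.D_normal hS hd
  haveI : (vmod S).Normal := normalClosure_normal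
  obtain ⟨x, hx, hxQ⟩ : ∃ x ∈ X, x ∉ pCore p G := by
    by_contra hno
    push Not at hno
    obtain ⟨s, hs, hsQ⟩ := hS.exists_mem
    refine hsQ ?_
    have h1 : (S : Subgroup G) ≤ pCore p G := h.X_sup ▸ sup_le hno le_rfl
    exact h1 hs
  have hle : Cfsg.pResidual p G ≤ actKer D (vmod S) := res_le_of_mem hS (h.X_le hx)
    (show x ∈ actKer D (vmod S) from fun d hd' => (h.DX d hd' x hx).1) hxQ
  exact fun d hd' r hr => hle hr d hd'

theorem res_derived : ∀ z ∈ ⁅D, D⁆, ∀ r ∈ Cfsg.pResidual p G, r * z = z * r :=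
  res_comm_core hS hd h.D_le (h.res_D hS hd)

theorem derived_normal : (⁅D, D⁆).Normal := by
  haveI := h.D_normal hS hd
  exact Subgroup.commutator_normal _ _

theorem nz_normal : (nz S D).Normal := by
  haveI := h.derived_normal hS hd
  haveI : (vmod S).Normal := normalClosure_normal
  haveI : (zc S).Normal := Subgroup.normal_inf_normal _ _
  exact Subgroup.sup_normal _ _

theorem nz_le : nz S D ≤ D := by
  haveI := h.D_normal hS hd
  exact sup_le (inf_le_left.trans h.V_le) (Subgroup.commutator_le_left _ _)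

theorem nz_fixed {z : G} (hz : z ∈ nz S D) {r : G} (hr : r ∈ Cfsg.pResidual p G) : r * z = z * r := by
  have hle : nz S D ≤ centralizer {r} := sup_le
    (fun w hw => mem_centralizer_singleton_iff.mpr (Subgroup.mem_center_iff.mp hw.2 r).symm)
    fun w hw => mem_centralizer_singleton_iff.mpr (h.res_derived hS hd w hw r hr).symm
  exact (mem_centralizer_singleton_iff.mp (hle hz)).symm

theorem central_mem {a c : G} (ha : a ∈ A) (hc : c ∈ C) : a * c * a⁻¹ * c⁻¹ ∈ zc S := by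
  refine ⟨?_, h.AC a ha c hc⟩
  refine (flag_top hS hd).center _ ?_ (fun q _ => Subgroup.mem_center_iff.mp (h.AC a ha c hc) q) ?_
  · exact (pCore p G).mul_mem ((pCore p G).mul_mem ((pCore p G).mul_mem (h.A_le ha) (h.C_le hc))
      ((pCore p G).inv_mem (h.A_le ha))) ((pCore p G).inv_mem (h.C_le hc))
  · have hcp : c ^ p = 1 := h.elemC c hc
    have h2 : Commute (a * c * a⁻¹) c := by
      show a * c * a⁻¹ * c = c * (a * c * a⁻¹)
      calc a * c * a⁻¹ * c = (a * c * a⁻¹ * c⁻¹) * c * c := by group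
        _ = c * (a * c * a⁻¹ * c⁻¹) * c := by rw [Subgroup.mem_center_iff.mp (h.AC a ha c hc) c]
        _ = _ := by group
    rw [h2.inv_right.mul_pow, inv_pow, conj_pow, hcp, mul_one, mul_inv_cancel, inv_one, mul_one]

/-- `Q` is abelian modulo the lower layer. -/
theorem comm_core : ∀ q ∈ pCore p G, ∀ r ∈ pCore p G, q * r * q⁻¹ * r⁻¹ ∈ nz S D := by
  haveI := h.nz_normal hS hd
  set π := QuotientGroup.mk' (nz S D) with hπ
  have hmk : ∀ {a b : G}, a * b * a⁻¹ * b⁻¹ ∈ nz S D → π a * π b = π b * π a := fun {a b} hab => by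
    have h1 : π (a * b * a⁻¹ * b⁻¹) = 1 := (QuotientGroup.eq_one_iff _).mpr hab
    rwa [map_mul, map_mul, map_mul, map_inv, map_inv, mul_inv_eq_one, mul_inv_eq_iff_eq_mul] at h1
  have hc : ∀ {a b : G}, a * b = b * a → π a * π b = π b * π a := fun {a b} hab => by
    rw [← map_mul, hab, map_mul]
  intro q hq r hr
  obtain ⟨c, hc', a, ha, d, hd', rfl⟩ := h.split q hq
  obtain ⟨c₁, hc₁, a₁, ha₁, d₁, hd₁, rfl⟩ := h.split r hr
  have hcomm : Commute (π (c * a * d)) (π (c₁ * a₁ * d₁)) := by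
    simp only [map_mul]
    refine Commute.mul_right (Commute.mul_right ?_ ?_) ?_ <;> refine Commute.mul_left (Commute.mul_left ?_ ?_) ?_
    · exact hc (h.abelC c hc' c₁ hc₁)
    · exact hmk (mem_sup_left (h.central_mem hS hd ha hc₁))
    · exact (hc (h.CD c₁ hc₁ d hd')).symm
    · exact (hmk (mem_sup_left (h.central_mem hS hd ha₁ hc'))).symm
    · exact hc (h.abelA a ha a₁ ha₁)
    · exact (hc (h.AD a₁ ha₁ d hd')).symm
    · exact hc (h.CD c hc' d₁ hd₁)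
    · exact hc (h.AD a ha d₁ hd₁)
    · exact hmk (mem_sup_right (Subgroup.commutator_mem_commutator hd' hd₁))
  refine (QuotientGroup.eq_one_iff _).mp ?_
  show π _ = 1
  rw [map_mul, map_mul, map_mul, map_inv, map_inv, hcomm.eq, mul_inv_cancel_right, mul_inv_cancel]

theorem comm_core_D : ∀ q ∈ pCore p G, ∀ r ∈ pCore p G, q * r * q⁻¹ * r⁻¹ ∈ D :=
  fun q hq r hr => h.nz_le hS hd (h.comm_core hS hd q hq r hr)

/-- The upper factor is moved. -/
theorem moves : ∃ y ∈ Y, ∃ c ∈ C, y * c * y⁻¹ * c⁻¹ ∉ D := by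
  by_contra hno
  push Not at hno
  haveI := h.D_normal hS hd
  haveI : (vmod S).Normal := normalClosure_normal
  have hY : ∀ y ∈ Y, y ∈ actKer (pCore p G) D := by
    intro y hy q hq
    obtain ⟨c, hc, a, ha, d, hd', rfl⟩ := h.split q hq
    have e : y * (c * a * d) * y⁻¹ * (c * a * d)⁻¹ = (y * c * y⁻¹ * c⁻¹) *
        (c * ((y * a * y⁻¹ * a⁻¹) * (a * (y * d * y⁻¹ * d⁻¹) * a⁻¹)) * c⁻¹) := by group
    rw [e, show y * a = a * y from h.YA y hy a ha, mul_inv_cancel_right, mul_inv_cancel, one_mul]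
    exact mul_mem (hno y hy c hc) (‹D.Normal›.conj_mem _ (‹D.Normal›.conj_mem _ (h.V_le (h.DY d hd' y hy).1) a) c)
  obtain ⟨g, hg⟩ := h.conj
  obtain ⟨y, hy, hyQ⟩ : ∃ y ∈ Y, y ∉ pCore p G := by
    by_contra hno'
    push Not at hno'
    obtain ⟨s, hs, hsQ⟩ := hS.exists_mem
    have h1 : T' ≤ pCore p G := h.Y_sup ▸ sup_le hno' le_rfl
    have h2 := h1 (hg ▸ conj_mem_cj hs : g * s * g⁻¹ ∈ T')
    exact hsQ (by simpa [mul_assoc] using (inferInstance : (pCore p G).Normal).conj_mem _ h2 g⁻¹)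
  have hs : g⁻¹ * y * g ∈ (S : Subgroup G) := mem_cj.mp (hg ▸ h.Y_le hy)
  have hle : Cfsg.pResidual p G ≤ actKer (pCore p G) D := res_le_of_mem hS hs
    (by simpa using (actKer_normal (pCore p G) D).conj_mem _ (hY y hy) g⁻¹)
    fun hQ => hyQ (by simpa [mul_assoc] using (inferInstance : (pCore p G).Normal).conj_mem _ hQ g)
  haveI : (Cfsg.pResidual p G).Normal := CfsgLib.PResidual.pResidual_normal
  obtain ⟨l, hl, q, hq, hlq⟩ := h.alive _ inferInstance (res_sup (S := S))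
  exact hlq (res_push hS h.D_le (Z := pCore p G) (fun z hz r hr => hle hr z hz) (h.res_D hS hd) q hq l hl)

/-- The first root group embeds into the moved layer. -/
theorem card_bound : Nat.card (S : Subgroup G) * Nat.card ↥(C ⊓ D) ≤ Nat.card C * Nat.card (pCore p G) := by
  haveI := h.D_normal hS hd
  haveI : (vmod S).Normal := normalClosure_normal
  set Q := pCore p G with hQ
  haveI : Q.Normal := inferInstance
  obtain ⟨a, ha, haD⟩ : ∃ a ∈ A, a ∉ D := by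
    by_contra hno
    push Not at hno
    obtain ⟨x, hx, hxQ⟩ : ∃ x ∈ X, x ∉ Q := by
      by_contra hno'
      push Not at hno'
      obtain ⟨s, hs, hsQ⟩ := hS.exists_mem
      exact hsQ ((h.X_sup ▸ sup_le hno' le_rfl : (S : Subgroup G) ≤ Q) hs)
    have hle : Cfsg.pResidual p G ≤ actKer Q D := res_le_of_mem hS (h.X_le hx)
      (show x ∈ actKer Q D from fun q hq => by
        obtain ⟨c, hc, b, hb, d, hd', rfl⟩ := h.split q hq
        have e : x * (c * b * d) * x⁻¹ * (c * b * d)⁻¹ = (x * c * x⁻¹ * c⁻¹) *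
            (c * (x * (b * d) * x⁻¹ * (b * d)⁻¹) * c⁻¹) := by group
        rw [e, show x * c = c * x from h.XC x hx c hc, mul_inv_cancel_right, mul_inv_cancel, one_mul]
        exact ‹D.Normal›.conj_mem _ (h.V_le (h.DX _ (mul_mem (hno b hb) hd') x hx).1) c) hxQ
    haveI : (Cfsg.pResidual p G).Normal := CfsgLib.PResidual.pResidual_normal
    obtain ⟨l, hl, q, hq, hlq⟩ := h.alive _ inferInstance (res_sup (S := S))
    exact hlq (res_push hS h.D_le (Z := Q) (fun z hz r hr => hle hr z hz) (h.res_D hS hd) q hq l hl)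
  set π := QuotientGroup.mk' D with hπ
  have hfix : ∀ x ∈ X, ∀ e ∈ C ⊔ D, π (x * e * x⁻¹) = π e := by
    intro x hx e he
    obtain ⟨c, hc, d, hd', rfl⟩ := exists_mul (normalizer_top D C |> fun _ => (fun k hk => mem_normalizer_of_conj
      fun l hl => by rw [(h.CD l hl k hk).symm, mul_inv_cancel_right]; exact hl)) he
    have e1 : x * (c * d) * x⁻¹ = c * ((x * d * x⁻¹ * d⁻¹) * d) := by
      rw [show x * (c * d) = c * x * d by rw [← h.XC x hx c hc]; group]; group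
    rw [e1, map_mul, map_mul π c d, map_mul, show π (x * d * x⁻¹ * d⁻¹) = 1 from
      (QuotientGroup.eq_one_iff _).mpr (h.V_le (h.DX d hd' x hx).1), one_mul]
  let θ : X →* G ⧸ D :=
    { toFun := fun x => π ((x : G) * a * (x : G)⁻¹ * a⁻¹)
      map_one' := by simp
      map_mul' := fun x y => by
        have e : (x : G) * y * a * ((x : G) * y)⁻¹ * a⁻¹ =
            ((x : G) * ((y : G) * a * (y : G)⁻¹ * a⁻¹) * (x : G)⁻¹) * ((x : G) * a * (x : G)⁻¹ * a⁻¹) := by group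
        have h1 := hfix x x.2 _ (h.comE y (h.X_le y.2) a (h.A_le ha))
        show π ((x : G) * y * a * ((x : G) * y)⁻¹ * a⁻¹) = _
        rw [e, map_mul, h1, ← map_mul, ← map_mul]
        refine (QuotientGroup.eq).mpr ?_
        obtain ⟨c, hc, d, hd', hcd⟩ := exists_mul (fun k hk => mem_normalizer_of_conj fun l hl => by
          rw [(h.CD l hl k hk).symm, mul_inv_cancel_right]; exact hl) (h.comE y (h.X_le y.2) a (h.A_le ha))
        obtain ⟨c', hc', d', hd'', hcd'⟩ := exists_mul (fun k hk => mem_normalizer_of_conj fun l hl => by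
          rw [(h.CD l hl k hk).symm, mul_inv_cancel_right]; exact hl) (h.comE x (h.X_le x.2) a (h.A_le ha))
        rw [← hcd, ← hcd']
        have e2 : (c * d * (c' * d'))⁻¹ * (c' * d' * (c * d)) =
            ((c' * d')⁻¹ * (d⁻¹ * (c⁻¹ * c' * c) * (c⁻¹ * d' * c) * d)) := by group
        rw [e2, show c⁻¹ * c' * c = c' by rw [mul_assoc, h.abelC c' hc' c hc, inv_mul_cancel_left]]
        have e3 : (c' * d')⁻¹ * (d⁻¹ * c' * (c⁻¹ * d' * c) * d) =
            d'⁻¹ * ((c'⁻¹ * d⁻¹ * c') * (c⁻¹ * d' * c) * d) := by group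
        rw [e3]
        exact mul_mem (inv_mem hd'') (mul_mem (mul_mem
          (by simpa using ‹D.Normal›.conj_mem _ (inv_mem hd') c'⁻¹)
          (by simpa using ‹D.Normal›.conj_mem _ hd'' c⁻¹)) hd') }
  have hker : θ.ker.map X.subtype ≤ X ⊓ Q := by
    rintro _ ⟨x, hx, rfl⟩
    refine Subgroup.mem_inf.mpr ⟨x.2, ?_⟩
    by_contra hxQ
    refine haD (h.fixA a ha fun g => ?_)
    let K : Subgroup G :=
      { carrier := {g | g * a * g⁻¹ * a⁻¹ ∈ D}
        one_mem' := by simp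
        mul_mem' := fun {g k} hg hk => by
          show g * k * a * (g * k)⁻¹ * a⁻¹ ∈ D
          rw [show g * k * a * (g * k)⁻¹ * a⁻¹ = g * (k * a * k⁻¹ * a⁻¹) * g⁻¹ * (g * a * g⁻¹ * a⁻¹) by group]
          exact mul_mem (‹D.Normal›.conj_mem _ hk g) hg
        inv_mem' := fun {g} hg => by
          show g⁻¹ * a * g⁻¹⁻¹ * a⁻¹ ∈ D
          rw [show g⁻¹ * a * g⁻¹⁻¹ * a⁻¹ = g⁻¹ * (g * a * g⁻¹ * a⁻¹)⁻¹ * g⁻¹⁻¹ by group]
          exact ‹D.Normal›.conj_mem _ (inv_mem hg) _ }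
    have htop : (⊤ : Subgroup G) ≤ K := by
      rw [← h.opp.left x (h.X_le x.2) hxQ, ← h.Y_sup]
      refine sup_le ((Subgroup.closure_le _).mpr (Set.singleton_subset_iff.mpr (show (x : G) ∈ K from (show (x : G) * a * (x : G)⁻¹ * a⁻¹ ∈ D from (QuotientGroup.eq_one_iff _).mp (MonoidHom.mem_ker.mp hx)))))
        (sup_le (fun y hy => ?_) fun q hq => h.comm_core_D hS hd q hq a (h.A_le ha))
      show y * a * y⁻¹ * a⁻¹ ∈ D
      rw [h.YA y hy a ha, mul_inv_cancel_right, mul_inv_cancel]; exact one_mem _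
    exact htop (mem_top g)
  have hrange : θ.range ≤ C.map π := by
    rintro _ ⟨x, rfl⟩
    obtain ⟨c, hc, d, hd', hcd⟩ := exists_mul (fun k hk => mem_normalizer_of_conj fun l hl => by
      rw [(h.CD l hl k hk).symm, mul_inv_cancel_right]; exact hl) (h.comE x (h.X_le x.2) a (h.A_le ha))
    refine ⟨c, hc, ?_⟩
    show π c = π _
    rw [← hcd, map_mul, show π d = 1 from (QuotientGroup.eq_one_iff _).mpr hd', mul_one]
  have hC : Nat.card ↥(C.map π) * Nat.card ↥(C ⊓ D) = Nat.card C := by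
    have h1 : (π.comp C.subtype).range = C.map π := by rw [MonoidHom.range_comp, Subgroup.range_subtype]
    have h2 : (π.comp C.subtype).ker.map C.subtype = C ⊓ D := by
      ext y
      constructor
      · rintro ⟨c, hc, rfl⟩
        exact ⟨c.2, (QuotientGroup.eq_one_iff _).mp hc⟩
      · rintro ⟨hy, hyD⟩
        exact ⟨⟨y, hy⟩, (QuotientGroup.eq_one_iff _).mpr hyD, rfl⟩
    rw [← h1, ← h2, Subgroup.card_map_of_injective C.subtype_injective, ← Subgroup.index_ker, mul_comm]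
    exact Subgroup.card_mul_index _
  have hX : Nat.card X ≤ Nat.card ↥(X ⊓ Q) * Nat.card ↥(C.map π) := by
    rw [← θ.ker.card_mul_index, Subgroup.index_ker, ← Subgroup.card_map_of_injective X.subtype_injective (K := θ.ker)]
    exact Nat.mul_le_mul (Subgroup.card_le_of_le hker) (Subgroup.card_le_of_le hrange)
  have hXQ := CfsgLib.ZJ.card_mul_eq_of_le_normalizer (H := Q) (K := X) (normalizer_top Q X)
  rw [sup_comm, h.X_sup, inf_comm Q X] at hXQ
  refine Nat.le_of_mul_le_mul_right ?_ (Nat.card_pos (α := ↥(X ⊓ Q)))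
  calc Nat.card (S : Subgroup G) * Nat.card ↥(C ⊓ D) * Nat.card ↥(X ⊓ Q)
      = (Nat.card (S : Subgroup G) * Nat.card ↥(X ⊓ Q)) * Nat.card ↥(C ⊓ D) := by ring
    _ = Nat.card Q * Nat.card X * Nat.card ↥(C ⊓ D) := by rw [hXQ]
    _ ≤ Nat.card Q * (Nat.card ↥(X ⊓ Q) * Nat.card ↥(C.map π)) * Nat.card ↥(C ⊓ D) :=
        Nat.mul_le_mul_right _ (Nat.mul_le_mul_left _ hX)
    _ = Nat.card Q * (Nat.card ↥(C.map π) * Nat.card ↥(C ⊓ D)) * Nat.card ↥(X ⊓ Q) := by ring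
    _ = _ := by rw [hC]; ring

end TwoBase

variable [Finite G] {S : Sylow p G} {Γ : Type*} [Group Γ] [Finite Γ] {𝒮 : Sys Γ p}

theorem exists_two {G₃ : Type*} [Group G₃] [Finite G₃] {S₃ : Sylow p G₃} (C : Chain 𝒮 2 5)
    (hcrit : ∀ i, i + 2 ≤ 5 → ¬ 𝒮.V (C.c i) ≤ 𝒮.Q (C.c (i + 2)))
    (hopp : ∀ i, i = 1 ∨ i = 2 → Opp (𝒮.H (C.c (i + 1))) (𝒮.Q (C.c (i + 1))) (C.e i) (C.e (i + 1)))
    {ψ : G →* Γ} (P : PullAt S 𝒮 (C.c 2) (C.e 2) ψ) {ψ₃ : G₃ →* Γ} (P₃ : PullAt S₃ 𝒮 (C.c 3) (C.e 3) ψ₃)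
    (hS : Setting S) (hd : Mild S) (hS₃ : Setting S₃) (hd₃ : Mild S₃) :
    ∃ T' X Y A C D : Subgroup G, Two S T' X Y A C D := by
  obtain ⟨hB, hrC, hrA⟩ := exists_twoBase C (m := 2) (fun i _ h2 => hcrit i (by omega)) (hopp 1 (Or.inl rfl)) P
    le_rfl (by omega)
  obtain ⟨hB₃, hrC₃, -⟩ := exists_twoBase C (m := 3) (fun i _ h2 => hcrit i (by omega)) (hopp 2 (Or.inr rfl)) P₃
    (by omega) (by omega)
  obtain ⟨hψ, hH, hQ, hV, hSm, hT⟩ := P
  obtain ⟨hψ₃, hH₃, hQ₃, -, hSm₃, -⟩ := P₃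
  -- the cores at the vertices of the middle have the same order
  have hb := hB.card_bound hS hd
  have hb₃ := hB₃.card_bound hS₃ hd₃
  simp only [show 3 - 2 = 1 from rfl, show 3 - 1 = 2 from rfl, show 3 + 1 = 4 from rfl, show 2 - 1 = 1 from rfl,
    show 2 + 1 = 3 from rfl, show 2 + 2 = 4 from rfl, show 2 - 2 = 0 from rfl, show 3 + 2 = 5 from rfl] at hrC hrA hrC₃ hb hb₃
  rw [← Subgroup.card_map_of_injective hψ (K := pCore p G), hQ] at hb
  rw [← Subgroup.card_map_of_injective hψ₃ (K := pCore p G₃), hQ₃] at hb₃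
  have h12 : Nat.card (𝒮.Q (C.c 1)) ≤ Nat.card (𝒮.Q (C.c 2)) :=
    Nat.le_of_mul_le_mul_left (hrC.trans hb) Nat.card_pos
  have h23 : Nat.card (𝒮.Q (C.c 2)) ≤ Nat.card (𝒮.Q (C.c 3)) :=
    Nat.le_of_mul_le_mul_left (hrC₃.trans hb₃) Nat.card_pos
  have h13 : Nat.card (𝒮.Q (C.c 1)) = Nat.card (𝒮.Q (C.c 3)) := by
    have h := C.cover_card (i := 1) (by omega) (hcrit 1 (by omega))
    simp only [show 1 + 2 - 1 = 2 from rfl, show 1 + 2 = 3 from rfl] at h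
    obtain ⟨g₁, hg₁⟩ := hT _ (C.edge_r 1 (by omega))
    have e1 : Nat.card (C.e 1) = Nat.card (C.e 2) := by
      rw [hg₁, ← hSm, Subgroup.card_map_of_injective hψ, Subgroup.card_map_of_injective hψ]
      exact Subgroup.card_map_of_injective (MulEquiv.injective _)
    rw [e1, mul_comm (Nat.card (C.e 2))] at h
    exact Nat.eq_of_mul_eq_mul_right Nat.card_pos h
  have hcQ : Nat.card (pCore p G) = Nat.card (𝒮.Q (C.c 2)) := by
    rw [← hQ, Subgroup.card_map_of_injective hψ]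
  obtain ⟨y, hy, c, hc', hyc⟩ := hB₃.moves hS₃ hd₃
  simp only [show 3 - 2 = 1 from rfl, show 3 - 1 = 2 from rfl, show 3 + 1 = 4 from rfl, show 2 - 1 = 1 from rfl,
    show 2 + 1 = 3 from rfl, show 2 + 2 = 4 from rfl, show 2 - 2 = 0 from rfl] at hy hc' hyc hB ⊢
  have hy' : ψ₃ y ∈ 𝒮.V (C.c 1) := hy
  have hc'' : ψ₃ c ∈ 𝒮.V (C.c 4) := hc'
  have F2 : Flag p (𝒮.H (C.c 2)) (𝒮.Q (C.c 2)) (𝒮.V (C.c 2)) (C.e 2) := C.flag_l (by omega)
  have F3 : Flag p (𝒮.H (C.c 3)) (𝒮.Q (C.c 3)) (𝒮.V (C.c 3)) (C.e 2) := C.flag_r (i := 2) (by omega)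
  have F4 : Flag p (𝒮.H (C.c 4)) (𝒮.Q (C.c 4)) (𝒮.V (C.c 4)) (C.e 3) := C.flag_r (i := 3) (by omega)
  have hA_Q : 𝒮.V (C.c 1) ≤ 𝒮.Q (C.c 2) := C.near (by omega) (by omega) (by omega) (by omega)
  have hX_e : 𝒮.V (C.c 4) ≤ C.e 2 := (C.near (j := 3) (by omega) (by omega) (by omega) (by omega)).trans F3.Q_le
  obtain ⟨a, ha⟩ : ∃ a, ψ a = ψ₃ y := by
    obtain ⟨a, -, ha⟩ : ψ₃ y ∈ (pCore p G).map ψ := hQ ▸ hA_Q hy'
    exact ⟨a, ha⟩
  obtain ⟨x, hxS, hx⟩ : ψ₃ c ∈ (S : Subgroup G).map ψ := hSm ▸ hX_e hc''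
  set u := x * a * x⁻¹ * a⁻¹ with hu
  have haA : a ∈ (𝒮.V (C.c 1)).comap ψ := by rw [Subgroup.mem_comap, ha]; exact hy'
  have hxX : x ∈ (𝒮.V (C.c 4)).comap ψ := by rw [Subgroup.mem_comap, hx]; exact hc''
  have haQ : a ∈ pCore p G := hB.A_le haA
  have hu2 : ψ u ∈ 𝒮.Q (C.c 2) := by
    rw [← hQ]
    exact ⟨u, mul_mem ((inferInstance : (pCore p G).Normal).conj_mem _ haQ x) (inv_mem haQ), rfl⟩
  have hu3 : ψ u ∈ 𝒮.Q (C.c 3) := by
    simp only [hu, map_mul, map_inv, hx, ha]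
    exact F3.comm _ (hX_e hc'') _ (F2.Q_le (hA_Q hy'))
  have hu4 : ψ u ∉ 𝒮.Q (C.c 4) := by
    intro h4
    refine hyc ?_
    have e : ψ₃ (y * c * y⁻¹ * c⁻¹) = (ψ u)⁻¹ := by
      simp only [hu, map_mul, map_inv, hx, ha]; group
    show ψ₃ (y * c * y⁻¹ * c⁻¹) ∈ 𝒮.Q (C.c 3) ⊓ 𝒮.Q (C.c 2) ⊓ 𝒮.Q (C.c 4)
    rw [e]
    exact inv_mem (Subgroup.mem_inf.mpr ⟨Subgroup.mem_inf.mpr ⟨hu3, hu2⟩, h4⟩)
  -- an element of the module that commutes with the module at the fourth vertex lies in its core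
  have hV4 : ∀ w ∈ 𝒮.V (C.c 2), (∀ z ∈ 𝒮.V (C.c 4), w * z = z * w) → w ∈ 𝒮.Q (C.c 4) := fun w hw hz =>
    F4.mem_of_cent (C.V_le_edge_r (i := 2) (j := 3) (by omega) (by omega) (by omega) (by omega) hw) hz
  have hxQ : x ∉ pCore p G := by
    intro hxQ
    refine hu4 ?_
    obtain ⟨c₁, hc₁, a₁, ha₁, d₁, hd₁, hsplit⟩ := hB.split x hxQ
    have hz := hB.central_mem hS hd haA hc₁
    have e : u = (a * c₁ * a⁻¹ * c₁⁻¹)⁻¹ := by
      have h1 : Commute d₁ a := (hB.AD a haA d₁ hd₁).symm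
      have h2 : Commute a₁ a := hB.abelA a₁ ha₁ a haA
      calc u = c₁ * a₁ * (d₁ * a * d₁⁻¹) * a₁⁻¹ * c₁⁻¹ * a⁻¹ := by rw [hu, ← hsplit]; group
        _ = c₁ * (a₁ * a * a₁⁻¹) * c₁⁻¹ * a⁻¹ := by rw [h1.eq, mul_inv_cancel_right]; group
        _ = c₁ * a * c₁⁻¹ * a⁻¹ := by rw [h2.eq, mul_inv_cancel_right]
        _ = _ := by group
    refine hV4 _ (hV ▸ ⟨u, e ▸ inv_mem hz.1, rfl⟩) fun z hz4 => ?_
    obtain ⟨z', -, rfl⟩ : z ∈ (S : Subgroup G).map ψ := hSm ▸ hX_e hz4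
    rw [← map_mul, ← map_mul]
    congr 1
    exact (Subgroup.mem_center_iff.mp (show u ∈ center G from e ▸ inv_mem hz.2) z').symm
  obtain ⟨c₁, hc₁, d₁, hd₁, hcd⟩ := exists_mul (fun k hk => mem_normalizer_of_conj fun l hl => by
      rw [(hB.CD l hl k hk).symm, mul_inv_cancel_right]; exact hl)
    (hB.comE x hxS a haQ)
  have hd₁' : ψ d₁ ∈ 𝒮.Q (C.c 3) := (Subgroup.mem_inf.mp hd₁).2
  obtain ⟨v', hv', q, hq, hvq⟩ := C.split_l (i := 2) (by omega) (hcrit 2 (by omega))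
    (x := ψ d₁) ((C.flag_l (i := 3) (by omega)).Q_le hd₁')
  obtain ⟨v, hv, rfl⟩ : v' ∈ (vmod S).map ψ := hV ▸ hv'
  have hc₁4 : ψ c₁ ∈ 𝒮.Q (C.c 4) := C.near (i := 3) (by omega) (by omega) (by omega) (by omega) hc₁
  have hueq : ψ u = ψ c₁ * ψ v * q := by
    rw [show u = c₁ * d₁ from hcd.symm, map_mul, ← hvq, mul_assoc]
  have hne : x * v * x⁻¹ * v⁻¹ ≠ 1 := by
    intro h1
    refine hu4 ?_
    rw [hueq]
    refine mul_mem (mul_mem hc₁4 (hV4 _ hv' fun z hz4 => ?_)) hq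
    have hcent := F2.fixed (ψ x) (by rw [hx]; exact hX_e hc'') (fun h2 => hxQ ?_) (ψ v) hv'
      (by rw [← map_mul, ← map_mul]; exact congrArg ψ (mul_inv_eq_iff_eq_mul.mp (mul_inv_eq_one.mp h1)))
    · exact (hcent z (hX_e hz4)).symm
    · obtain ⟨x', hx', he⟩ : ψ x ∈ (pCore p G).map ψ := hQ ▸ h2
      exact hψ he ▸ hx'
  refine ⟨_, _, _, _, _, _, ⟨hB, ?_, ?_, a, haA, x, hxX, v, hv, hxQ, hne, hψ ?_⟩⟩
  · rw [hcQ, show Nat.card (𝒮.Q (C.c 2)) = Nat.card (𝒮.Q (C.c 1)) by omega]; exact hrC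
  · rw [hcQ, show Nat.card (𝒮.Q (C.c 2)) = Nat.card (𝒮.Q (C.c 3)) by omega]; exact hrA
  have hc1x : Commute (ψ c₁) (ψ x) := by
    rw [hx]; exact F4.V_cent _ hc₁4 _ hc''
  have hqx : Commute q (ψ x) := by
    rw [hx]; exact F4.V_cent _ hq _ hc''
  have hmem : ψ x * ψ v * (ψ x)⁻¹ * (ψ v)⁻¹ ∈ 𝒮.V (C.c 2) :=
    F2.comm_mem_V (F2.T_le (by rw [hx]; exact hX_e hc'')) hv'
  have hw : Commute (ψ c₁) (ψ x * ψ v * (ψ x)⁻¹ * (ψ v)⁻¹) :=
    F2.V_cent _ (C.near (i := 3) (by omega) (by omega) (by omega) (by omega) hc₁) _ hmem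
  show ψ (x * u * x⁻¹ * u⁻¹) = _
  rw [map_mul, map_mul, map_mul, map_inv, map_inv, hueq]
  simp only [map_mul, map_inv]
  calc ψ x * (ψ c₁ * ψ v * q) * (ψ x)⁻¹ * (ψ c₁ * ψ v * q)⁻¹
      = (ψ x * ψ c₁) * ψ v * (q * (ψ x)⁻¹) * q⁻¹ * (ψ v)⁻¹ * (ψ c₁)⁻¹ := by group
    _ = ψ c₁ * (ψ x * ψ v * (ψ x)⁻¹ * (ψ v)⁻¹) * (ψ c₁)⁻¹ := by
        rw [← hc1x.eq, hqx.inv_right.eq]; group
    _ = _ := by rw [hw.eq, mul_inv_cancel_right]

end CfsgLib.PushUp
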