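import Mathlib
import Cfsg.Agent.Lib.PushUp.CaseTwoBase

/-!
The natural upper section when `b = 2`, the exclusion of the prime two.
-/

set_option autoImplicit false
set_option linter.unusedSectionVars false

namespace CfsgLib.PushUp

open Cfsg Subgroup CfsgLib.PushRankOne CfsgLib.PSL2
open scoped commutatorElement

universe u

variable {G : Type u} [Group G] [Finite G] {p : ℕ} [Fact p.Prime] {S : Sylow p G}

namespace Two

variable {T' X Y A C D : Subgroup G} (h : Two S T' X Y A C D) (hS : Setting S) (hd : Mild S)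
include h hS hd

theorem res_vmod_nz {w : G} (hw : w ∈ vmod S) (hwN : w ∈ nz S D) {F : Type} [Field F] [Fintype F] [CharP F p]
    {ρ : G →* Matrix.SpecialLinearGroup (Fin 2) F} {φ : G → Fin 2 → F} (hsect : Sect ρ (vmod S) (zc S) φ)
    (hρ : Function.Surjective ρ) : w ∈ zc S := by
  haveI : (vmod S).Normal := normalClosure_normal
  refine mem_of_res_fixed (p := p) hsect hρ hw fun r hr => ?_
  rw [h.nz_fixed hS hd hwN hr, mul_inv_cancel_right, mul_inv_cancel]
  exact one_mem _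

theorem comm_C {s c : G} (hs : s ∈ (S : Subgroup G)) (hc : c ∈ C) :
    c * s * c⁻¹ * s⁻¹ ∈ fx (vmod S) (S : Subgroup G) := by
  obtain ⟨x, hx, q, hq, rfl⟩ := exists_mul' (X := X) (normalizer_top (pCore p G) X) (h.X_sup.ge hs)
  obtain ⟨c', hc', a', ha', d', hd', rfl⟩ := h.split q hq
  have h1 : Commute c x := (h.XC x hx c hc).symm
  have h2 : Commute c c' := h.abelC c hc c' hc'
  have h3 : Commute c d' := h.CD c hc d' hd'
  set z := c * a' * c⁻¹ * a'⁻¹ with hz
  have hzc : z ∈ zc S := by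
    rw [hz]; exact comm_swap (h.central_mem hS hd ha' hc)
  have e : c * (x * (c' * a' * d')) * c⁻¹ * (x * (c' * a' * d'))⁻¹ = (x * c') * z * (x * c')⁻¹ := by
    calc c * (x * (c' * a' * d')) * c⁻¹ * (x * (c' * a' * d'))⁻¹
        = (c * (x * c')) * a' * (d' * c⁻¹ * d'⁻¹) * a'⁻¹ * c'⁻¹ * x⁻¹ := by group
      _ = (x * c') * (c * a' * c⁻¹ * a'⁻¹) * (x * c')⁻¹ := by
          rw [(h1.mul_right h2).eq, h3.symm.inv_right.eq, mul_inv_cancel_right]; group
  rw [e, Subgroup.mem_center_iff.mp hzc.2 (x * c'), mul_inv_cancel_right]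
  exact ⟨hzc.1, fun y _ => Subgroup.mem_center_iff.mp hzc.2 y⟩

theorem comm_D {s d : G} (hs : s ∈ (S : Subgroup G)) (hd' : d ∈ D) :
    d * s * d⁻¹ * s⁻¹ ∈ fx (vmod S) (S : Subgroup G) ⊔ ⁅D, D⁆ := by
  haveI := h.derived_normal hS hd
  obtain ⟨x, hx, q, hq, rfl⟩ := exists_mul' (X := X) (normalizer_top (pCore p G) X) (h.X_sup.ge hs)
  obtain ⟨c', hc', a', ha', d', hd'', rfl⟩ := h.split q hq
  have h1 : Commute d c' := (h.CD c' hc' d hd').symm
  have h2 : Commute d a' := (h.AD a' ha' d hd').symm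
  have hdd : d * d' * d⁻¹ * d'⁻¹ ∈ ⁅D, D⁆ := Subgroup.commutator_mem_commutator hd' hd''
  have e : d * (x * (c' * a' * d')) * d⁻¹ * (x * (c' * a' * d'))⁻¹ =
      (d * x * d⁻¹ * x⁻¹) * (x * ((c' * a') * (d * d' * d⁻¹ * d'⁻¹) * (c' * a')⁻¹) * x⁻¹) := by
    calc d * (x * (c' * a' * d')) * d⁻¹ * (x * (c' * a' * d'))⁻¹
        = (d * x * d⁻¹ * x⁻¹) * (x * ((d * (c' * a')) * d' * d⁻¹ * d'⁻¹ * (c' * a')⁻¹) * x⁻¹) := by group
      _ = _ := by rw [(h1.mul_right h2).eq]; group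
  rw [e]
  exact mul_mem (mem_sup_left (comm_swap (h.DX d hd' x hx)))
    (mem_sup_right (‹(⁅D, D⁆).Normal›.conj_mem _ (‹(⁅D, D⁆).Normal›.conj_mem _ hdd _) x))

variable {F : Type} [Field F] [Fintype F] [CharP F p]
  {f : G →* Matrix.ProjectiveSpecialLinearGroup (Fin 2) F}

theorem exists_sect_core (hC : Coords p F (pCore p G) (S : Subgroup G) T' f) :
    ∃ (ρ : G →* Matrix.SpecialLinearGroup (Fin 2) F) (φ : G → Fin 2 → F), Sect ρ (pCore p G) D φ ∧
      Function.Surjective ρ ∧ (∀ s ∈ (S : Subgroup G), ∀ t, f s = uu t → ρ s = uSL t) ∧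
      (∀ l ∈ T', ∀ t, f l = vv t → ρ l = vSL t) ∧
      ∀ y ∈ pCore p G, (φ y 1 = 0 ↔ ∃ a ∈ C, a⁻¹ * y ∈ D) := by
  haveI := h.D_normal hS hd
  haveI := h.derived_normal hS hd
  refine exists_sect hC D (pCore p G) C A (h.comm_core_D hS hd) h.C_le h.A_le ?_ ?_ h.comE ?_ h.comE' h.cardC
    h.cardA (h.comm_core_D hS hd) ?_
  · intro q hq
    obtain ⟨c, hc, a, ha, d, hd', rfl⟩ := h.split q hq
    exact ⟨c, hc, a, ha, by rwa [inv_mul_cancel_left]⟩
  · exact fun s hs c hc => h.V_le (comm_swap (h.comm_C hS hd hs hc)).1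
  · intro t ht a ha
    obtain ⟨y, hy, q, hq, rfl⟩ := exists_mul' (X := Y) (normalizer_top (pCore p G) Y) (h.Y_sup.ge ht)
    have e : y * q * a * (y * q)⁻¹ * a⁻¹ = y * (q * a * q⁻¹ * a⁻¹) * y⁻¹ * (y * a * y⁻¹ * a⁻¹) := by group
    rw [e, show y * a = a * y from h.YA y hy a ha, mul_inv_cancel_right, mul_inv_cancel, mul_one]
    exact ‹D.Normal›.conj_mem _ (h.comm_core_D hS hd q hq a (h.A_le ha)) y
  · obtain ⟨y, hy, c, hc, hyc⟩ := h.moves hS hd
    exact ⟨y, c, h.C_le hc, hyc⟩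

theorem rho_eq (hC : Coords p F (pCore p G) (S : Subgroup G) T' f)
    {ρ ρ' : G →* Matrix.SpecialLinearGroup (Fin 2) F}
    (h1 : ∀ s ∈ (S : Subgroup G), ∀ t, f s = uu t → ρ s = uSL t) (h2 : ∀ l ∈ T', ∀ t, f l = vv t → ρ l = vSL t)
    (h1' : ∀ s ∈ (S : Subgroup G), ∀ t, f s = uu t → ρ' s = uSL t)
    (h2' : ∀ l ∈ T', ∀ t, f l = vv t → ρ' l = vSL t) : ρ = ρ' := by
  refine eq_of_eq_on_pair (opp_fix hS h.opp) (fun s hs => ?_) fun l hl => ?_
  · obtain ⟨t, ht⟩ := hC.param_s hs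
    rw [h1 s hs t ht, h1' s hs t ht]
  · obtain ⟨t, ht⟩ := hC.param_l hl
    rw [h2 l hl t ht, h2' l hl t ht]

/-- The kernel of the common representation. -/
theorem exists_kernel (hC : Coords p F (pCore p G) (S : Subgroup G) T' f)
    {ρ : G →* Matrix.SpecialLinearGroup (Fin 2) F} {φ φ' : G → Fin 2 → F}
    (hsect : Sect ρ (vmod S) (zc S) φ) (hsect' : Sect ρ (pCore p G) D φ')
    (hρS : ∀ s ∈ (S : Subgroup G), ∀ t, f s = uu t → ρ s = uSL t) : ρ.ker = pCore p G := by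
  have hV := vmod_mdl hS hd
  haveI : (vmod S).Normal := normalClosure_normal
  haveI : (zc S).Normal := Subgroup.normal_inf_normal _ _
  haveI := h.D_normal hS hd
  refine ker_eq_core hS hC hρS (fun r hr hρr q hq => ?_) (fun q hq => ?_)
  · have hrR : r ∈ Cfsg.pResidual p G := Subgroup.subset_closure hr
    set d := r * q * r⁻¹ * q⁻¹ with hdd
    have hdQ : d ∈ pCore p G := mul_mem ((inferInstance : (pCore p G).Normal).conj_mem q hq r) (inv_mem hq)
    have hdq : r * q * r⁻¹ = d * q := by rw [hdd]; group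
    have hpow : ∀ X' : Subgroup G, ∃ k : ℕ, d ^ p ^ k ∈ X' := fun X' => exists_pow_mem_of_mem_core hS X' hdQ
    have hdD : d ∈ D := by
      refine push_down hr hdq (hpow D) ((hsect'.ker _ ?_).mp ?_)
      · exact mul_mem ((inferInstance : (pCore p G).Normal).conj_mem d hdQ r) (inv_mem hdQ)
      · rw [hsect'.map_comm r hdQ, hρr, Matrix.SpecialLinearGroup.coe_one, Matrix.one_mulVec, sub_self]
    have hdV : d ∈ vmod S := push_down hr hdq (hpow _) (h.res_D hS hd d hdD r hrR)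
    have hdz : d ∈ zc S := by
      refine push_down hr hdq (hpow _) ((hsect.ker _ ((vmod S).mul_mem (hV.mem_conj hdV r) ((vmod S).inv_mem hdV))).mp ?_)
      rw [hsect.map_comm r hdV, hρr, Matrix.SpecialLinearGroup.coe_one, Matrix.one_mulVec, sub_self]
    have hd0 : d ∈ (⊥ : Subgroup G) := push_down hr hdq (hpow _)
      (by rw [Subgroup.mem_bot, Subgroup.mem_center_iff.mp hdz.2 r, mul_inv_cancel_right, mul_inv_cancel])
    rw [Subgroup.mem_bot, hdd, mul_inv_eq_one, mul_inv_eq_iff_eq_mul] at hd0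
    exact hd0
  · refine MonoidHom.mem_ker.mpr (sl_eq_of_mulVec fun x => ?_)
    obtain ⟨y, hy, rfl⟩ := hsect.onto x
    rw [← hsect.equiv q y hy, show q * y = y * q from hV.cent y hy q hq, mul_inv_cancel_right,
      Matrix.SpecialLinearGroup.coe_one, Matrix.one_mulVec]

theorem p_ne_two (hC : Coords p F (pCore p G) (S : Subgroup G) T' f) : p ≠ 2 := by
  rintro rfl
  have hV := vmod_mdl hS hd
  obtain ⟨a, ha, x, hx, v, hv, hxQ, hne, hxuv⟩ := h.key
  obtain ⟨ρ, φ, hsect, hρ, -⟩ := exists_sect_vmod hS hd h.opp h.conj hC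
  set u := x * a * x⁻¹ * a⁻¹ with hu
  set w := x * v * x⁻¹ * v⁻¹ with hw
  have hwV : w ∈ vmod S := hV.comm_mem hv x
  have hxi : x⁻¹ = x := inv_eq_of_mul_eq_one_right (by rw [← pow_two]; exact h.elemX x hx)
  have hai : a⁻¹ = a := inv_eq_of_mul_eq_one_right (by rw [← pow_two]; exact h.elemA a ha)
  have hwu : w⁻¹ = u ^ 2 := by
    have e : x * u * x⁻¹ = u⁻¹ := by
      rw [hu, mul_inv_rev, mul_inv_rev, mul_inv_rev, inv_inv, inv_inv]
      rw [hxi, hai]
      calc x * (x * a * x * a) * x = (x * x) * a * x * a * x := by group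
        _ = a * (x * (a * x)) := by
            rw [show x * x = 1 by rw [← pow_two]; exact h.elemX x hx]; group
    rw [← hxuv, mul_inv_rev, inv_inv, e, inv_inv, pow_two]
  obtain ⟨c, hc, d, hd', hcd⟩ := exists_mul (fun k hk => mem_normalizer_of_conj fun l hl => by
      rw [(h.CD l hl k hk).symm, mul_inv_cancel_right]; exact hl) (h.comE x (h.X_le hx) a (h.A_le ha))
  have hu2 : u ^ 2 = d ^ 2 := by
    rw [hu, ← hcd, (show Commute c d from h.CD c hc d hd').mul_pow, h.elemC c hc, one_mul]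
  have hwz : w⁻¹ ∈ zc S := by
    haveI : (vmod S).Normal := normalClosure_normal
    refine mem_of_res_fixed (p := 2) hsect hρ (inv_mem hwV) fun r hr => ?_
    have h1 := h.res_D hS hd d hd' r hr
    have h2 : Commute (r * d * r⁻¹ * d⁻¹) d := (hV.cent _ h1 d (h.D_le hd')).symm
    have e : r * d ^ 2 * r⁻¹ = d ^ 2 := by
      rw [← conj_pow, show r * d * r⁻¹ = (r * d * r⁻¹ * d⁻¹) * d by group, h2.mul_pow, vmod_pow hS hd h1, one_mul]
    rw [hwu, hu2, e, mul_inv_cancel]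
    exact one_mem _
  exact hne (not_central hS hd h.opp h.conj (h.X_le hx) hxQ hv (by simpa using (center G).inv_mem hwz.2))

end Two

end CfsgLib.PushUp
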