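import Mathlib
import Cfsg.Agent.Lib.PushUp.CaseTwoSect

/-!
`b = 2` forces the prime three, class three and exponent nine.
-/

set_option autoImplicit false
set_option linter.unusedSectionVars false

namespace CfsgLib.PushUp

open Cfsg Subgroup CfsgLib.PushRankOne CfsgLib.PSL2
open scoped commutatorElement

universe u

variable {G : Type u} [Group G] [Finite G] {p : ℕ} [Fact p.Prime] {S : Sylow p G}

namespace Two

variable {T' X Y A C D : Subgroup G} (h : Two S T' X Y A C D) (hS : Setting S) (hd : Mild S)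
variable {F : Type} [Field F] [Fintype F] [CharP F p]
  {f : G →* Matrix.ProjectiveSpecialLinearGroup (Fin 2) F}
include h hS hd

/-- The additive module of the core modulo the lower layer, with the operator of an element of `S`. -/
theorem exists_operator : ∃ (M : Type u) (_ : AddCommGroup M) (ε : G →* AddMonoid.End M) (π : ↥(pCore p G) → M),
    (∀ a b, π (a * b) = π a + π b) ∧ (∀ a : ↥(pCore p G), π a = 0 ↔ (a : G) ∈ nz S D) ∧
      ∀ (g : G) (a b : ↥(pCore p G)), (b : G) = g * a * g⁻¹ → ε g (π a) = π b := by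
  haveI := h.nz_normal hS hd
  set Q := pCore p G with hQ
  set N := (nz S D).subgroupOf Q with hN
  haveI : N.Normal := by rw [hN]; infer_instance
  letI : CommGroup (Q ⧸ N) :=
    { (inferInstance : Group (Q ⧸ N)) with
      mul_comm := fun a b => by
        obtain ⟨a, rfl⟩ := QuotientGroup.mk'_surjective N a
        obtain ⟨b, rfl⟩ := QuotientGroup.mk'_surjective N b
        rw [← map_mul, ← map_mul]
        refine (QuotientGroup.eq.mpr ?_)
        rw [hN, Subgroup.mem_subgroupOf]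
        have h := h.comm_core hS hd _ (Q.inv_mem b.2) _ (Q.inv_mem a.2)
        simpa [mul_assoc] using h }
  let π : Q → Additive (Q ⧸ N) := fun y => Additive.ofMul (QuotientGroup.mk' N y)
  have hπsurj : ∀ m, ∃ a : Q, π a = m := fun m => by
    obtain ⟨a, ha⟩ := QuotientGroup.mk'_surjective N (Additive.toMul m)
    exact ⟨a, congrArg Additive.ofMul ha⟩
  let c : G → (Q →* Q) := fun g =>
    { toFun := fun y => ⟨g * y * g⁻¹, (inferInstance : Q.Normal).conj_mem _ y.2 g⟩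
      map_one' := by ext; simp
      map_mul' := fun a b => by ext; simp [mul_assoc] }
  have hcN : ∀ g, N ≤ N.comap (c g) := fun g y hy => by
    rw [Subgroup.mem_comap, hN, Subgroup.mem_subgroupOf] at *
    exact ‹(nz S D).Normal›.conj_mem _ hy g
  let e : G → AddMonoid.End (Additive (Q ⧸ N)) := fun g => MonoidHom.toAdditive (QuotientGroup.map N N (c g) (hcN g))
  have he : ∀ g (y : Q), e g (π y) = π ⟨g * y * g⁻¹, (inferInstance : Q.Normal).conj_mem _ y.2 g⟩ :=
    fun g y => rfl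
  let ε : G →* AddMonoid.End (Additive (Q ⧸ N)) :=
    { toFun := e
      map_one' := AddMonoidHom.ext fun m => by
        obtain ⟨y, rfl⟩ := hπsurj m
        exact (he 1 y).trans (congrArg π (Subtype.ext (by simp)))
      map_mul' := fun g h => AddMonoidHom.ext fun m => by
        obtain ⟨y, rfl⟩ := hπsurj m
        refine (he (g * h) y).trans (Eq.trans ?_ ((congrArg (e g) (he h y)).trans (he g _)).symm)
        exact congrArg π (Subtype.ext (by simp [mul_assoc])) }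
  refine ⟨Additive (Q ⧸ N), inferInstance, ε, π, fun a b => by simp only [π, map_mul]; rfl, fun a => ?_,
    fun g a b hb => (he g a).trans (congrArg π (Subtype.ext hb.symm))⟩
  show Additive.ofMul _ = Additive.ofMul 1 ↔ _
  rw [Additive.ofMul.apply_eq_iff_eq, QuotientGroup.mk'_apply, QuotientGroup.eq_one_iff, hN, Subgroup.mem_subgroupOf]

theorem second_difference (hC : Coords p F (pCore p G) (S : Subgroup G) T' f) :
    ∃ (M : Type u) (_ : AddCommGroup M) (ε : G →* AddMonoid.End M) (π : ↥(pCore p G) → M)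
      (a x : G) (ha : a ∈ pCore p G) (w : ↥(pCore p G)),
      a ∈ A ∧ x ∈ X ∧ x ∉ pCore p G ∧ (∀ b c, π (b * c) = π b + π c) ∧
      (∀ b : ↥(pCore p G), π b = 0 ↔ (b : G) ∈ nz S D) ∧
      (∀ (g : G) (b c : ↥(pCore p G)), (c : G) = g * b * g⁻¹ → ε g (π b) = π c) ∧
      p • π ⟨a, ha⟩ = 0 ∧ p • π w = 0 ∧
      ε x (ε x (π ⟨a, ha⟩) - π ⟨a, ha⟩) - (ε x (π ⟨a, ha⟩) - π ⟨a, ha⟩) = π w ∧ ε x (π w) = π w ∧
      π w ≠ 0 ∧ (w : G) ∈ fx (vmod S) (S : Subgroup G) := by
  have hV := vmod_mdl hS hd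
  obtain ⟨a, ha, x, hx, v, hv, hxQ, hne, hxuv⟩ := h.key
  obtain ⟨M, hM, ε, π, hπmul, hπ0, hπc⟩ := h.exists_operator hS hd
  obtain ⟨ρ, φ, hsect, hρ, -⟩ := exists_sect_vmod hS hd h.opp h.conj hC
  set u := x * a * x⁻¹ * a⁻¹ with hu
  have hwfx : x * v * x⁻¹ * v⁻¹ ∈ fx (vmod S) (S : Subgroup G) :=
    ⟨hV.comm_mem hv x, (flag_top hS hd).quad v hv x (h.X_le hx)⟩
  have huQ : u ∈ pCore p G :=
    mul_mem ((inferInstance : (pCore p G).Normal).conj_mem _ (h.A_le ha) x) (inv_mem (h.A_le ha))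
  set w : ↥(pCore p G) := ⟨x * v * x⁻¹ * v⁻¹, hV.le hwfx.1⟩ with hw
  have hsub : ∀ (b : ↥(pCore p G)), ε x (π b) - π b =
      π ⟨x * b * x⁻¹ * (b : G)⁻¹, mul_mem ((inferInstance : (pCore p G).Normal).conj_mem _ b.2 x) (inv_mem b.2)⟩ :=
    fun b => by
      rw [sub_eq_iff_eq_add, hπc x b ⟨x * b * x⁻¹, (inferInstance : (pCore p G).Normal).conj_mem _ b.2 x⟩ rfl,
        ← hπmul]
      exact congrArg π (Subtype.ext (by simp))
  have hp0 : ∀ b : ↥(pCore p G), (b : G) ^ p = 1 → p • π b = 0 := by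
    intro b hb
    have hpw : ∀ n : ℕ, π (b ^ n) = n • π b := by
      intro n
      induction n with
      | zero => rw [pow_zero, zero_smul, hπ0]; exact one_mem _
      | succ n ih => rw [pow_succ, hπmul, ih, succ_nsmul]
    rw [← hpw, hπ0]
    simp [hb]
  refine ⟨M, hM, ε, π, a, x, h.A_le ha, w, ha, hx, hxQ, hπmul, hπ0, hπc, hp0 _ (h.elemA a ha),
    hp0 _ (vmod_pow hS hd hwfx.1), ?_, ?_, ?_, hwfx⟩
  · rw [hsub, hsub]
    exact congrArg π (Subtype.ext hxuv)
  · refine hπc x w w ?_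
    show x * v * x⁻¹ * v⁻¹ = x * (x * v * x⁻¹ * v⁻¹) * x⁻¹
    rw [show x * (x * v * x⁻¹ * v⁻¹) = x * v * x⁻¹ * v⁻¹ * x from hwfx.2 x (h.X_le hx), mul_inv_cancel_right]
  · intro h0
    have h1 := h.res_vmod_nz hS hd hwfx.1 ((hπ0 w).mp h0) hsect hρ
    exact hne (not_central hS hd h.opp h.conj (h.X_le hx) hxQ hv h1.2)

theorem p_eq_three (hC : Coords p F (pCore p G) (S : Subgroup G) T' f) : p = 3 := by
  classical
  have hpp : p.Prime := Fact.out
  have hp2 := h.p_ne_two hS hd hC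
  by_contra hp3
  haveI := h.D_normal hS hd
  haveI : (vmod S).Normal := normalClosure_normal
  obtain ⟨M, _, ε, π, a, x, haQ, w, ha, hx, hxQ, hπmul, hπ0, hπc, hpa, hpw, hN2, hxw, hw0, hwfx⟩ :=
    h.second_difference hS hd hC
  obtain ⟨ρ, φ, hsect, hρ, hρS, hρT, hline⟩ := exists_sect_vmod hS hd h.opp h.conj hC
  obtain ⟨ρ', φ', hsect', hρ', hρS', hρT', hline'⟩ := h.exists_sect_core hS hd hC
  obtain rfl := h.rho_eq hS hd hC hρS' hρT' hρS hρT
  have h2 : (2 : F) ≠ 0 := by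
    intro h
    have h' : ((2 : ℕ) : F) = 0 := by exact_mod_cast h
    exact hp2 ((Nat.prime_dvd_prime_iff_eq hpp Nat.prime_two).mp ((CharP.cast_eq_zero_iff F p 2).mp h'))
  obtain ⟨g, hg⟩ := hρ (dSL 2 h2)
  -- the conjugate of `x`
  obtain ⟨t, ht⟩ := hC.param_s (h.X_le hx)
  have hk : (x ^ 4)⁻¹ * (g * x * g⁻¹) ∈ pCore p G := by
    rw [← h.exists_kernel hS hd hC hsect hsect' hρS, MonoidHom.mem_ker, map_mul, map_inv, inv_mul_eq_one]
    have hx4 : f (x ^ 4) = uu (4 * t) := by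
      rw [map_pow, ht, ← map_pow]
      exact congrArg _ (Multiplicative.toAdd.injective (by simp))
    rw [hρS _ ((S : Subgroup G).pow_mem (h.X_le hx) 4) _ hx4, map_mul, map_mul, map_inv, hg,
      hρS x (h.X_le hx) t ht]
    apply eq_mul_inv_of_mul_eq
    apply Subtype.ext
    simp only [Matrix.SpecialLinearGroup.coe_mul, coe_uSL, coe_dSL]
    ext i j
    fin_cases i <;> fin_cases j <;> simp [Matrix.mul_apply, Fin.sum_univ_two]
    field_simp
    ring
  set k := (x ^ 4)⁻¹ * (g * x * g⁻¹) with hkdef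
  -- the conjugate of `a`
  set m := (p + 1) / 2 with hm
  have hm2 : 2 * m = p + 1 := by
    have := hpp.eq_two_or_odd.resolve_left hp2
    omega
  have hmF : (m : F) = 2⁻¹ := by
    refine eq_inv_of_mul_eq_one_right ?_
    have : ((2 * m : ℕ) : F) = 1 := by rw [hm2, Nat.cast_add, CharP.cast_eq_zero, zero_add, Nat.cast_one]
    simpa using this
  have hcastsmul : ∀ (n : ℕ) (v : Fin 2 → F) (i : Fin 2), (n • v) i = (n : F) * v i := fun n v i => by simp
  have haline : φ' a 0 = 0 := by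
    obtain ⟨l, hl, hlf⟩ := hC.exists_l (1 : F)
    have hcm : l * a * l⁻¹ * a⁻¹ ∈ D := by
      obtain ⟨y, hy, q, hq, rfl⟩ := exists_mul' (X := Y) (normalizer_top (pCore p G) Y) (h.Y_sup.ge hl)
      have e : y * q * a * (y * q)⁻¹ * a⁻¹ = y * (q * a * q⁻¹ * a⁻¹) * y⁻¹ * (y * a * y⁻¹ * a⁻¹) := by group
      rw [e, show y * a = a * y from h.YA y hy a ha, mul_inv_cancel_right, mul_inv_cancel, mul_one]
      exact ‹D.Normal›.conj_mem _ (h.comm_core_D hS hd q hq a haQ) y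
    have h1 := (hsect'.ker _ (mul_mem ((inferInstance : (pCore p G).Normal).conj_mem a haQ l) (inv_mem haQ))).mpr hcm
    rw [hsect'.map_comm l haQ, hρT' l hl 1 hlf, mulVec_vSL, sub_eq_zero] at h1
    simpa using congrFun h1 1
  set b : ↥(pCore p G) := ⟨g * a * g⁻¹, (inferInstance : (pCore p G).Normal).conj_mem a haQ g⟩ with hb
  have hbd : (a ^ m)⁻¹ * (b : G) ∈ D := by
    refine (hsect'.ker _ (mul_mem (inv_mem (pow_mem haQ m)) b.2)).mp ?_
    rw [hsect'.mul _ (inv_mem (pow_mem haQ m)) _ b.2, hsect'.map_inv (pow_mem haQ m), hsect'.map_pow haQ,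
      show φ' (b : G) = _ from hsect'.equiv g a haQ, hg, neg_add_eq_zero]
    funext i
    rw [hcastsmul, hmF]
    fin_cases i <;>
      simp [coe_dSL, Matrix.mulVec, dotProduct, Fin.sum_univ_two, haline]
  -- the conjugate of `w`
  have hwline : φ (w : G) 1 = 0 := (hline _ hwfx.1).mpr ⟨w, hwfx, by simp⟩
  have hww : g * (w : G) * g⁻¹ * ((w : G) ^ 2)⁻¹ ∈ zc S := by
    refine (hsect.ker _ (mul_mem ((inferInstance : (vmod S).Normal).conj_mem _ hwfx.1 g)
      (inv_mem (pow_mem hwfx.1 2)))).mp ?_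
    rw [hsect.mul _ ((inferInstance : (vmod S).Normal).conj_mem _ hwfx.1 g) _ (inv_mem (pow_mem hwfx.1 2)),
      hsect.equiv g _ hwfx.1, hg, hsect.map_inv (pow_mem hwfx.1 2), hsect.map_pow hwfx.1, add_neg_eq_zero]
    funext i
    rw [hcastsmul]
    fin_cases i <;> simp [coe_dSL, Matrix.mulVec, dotProduct, Fin.sum_univ_two, hwline]
  -- in the module
  set α := π ⟨a, haQ⟩ with hα
  set d : ↥(pCore p G) := ⟨(a ^ m)⁻¹ * (b : G), mul_mem (inv_mem (pow_mem haQ m)) b.2⟩ with hdd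
  have hpow : ∀ (c : ↥(pCore p G)) (n : ℕ), π (c ^ n) = n • π c := by
    intro c n
    induction n with
    | zero => rw [pow_zero, zero_smul, hπ0]; exact one_mem _
    | succ n ih => rw [pow_succ, hπmul, ih, succ_nsmul]
  have hgα : ε g α = m • α + π d := by
    rw [hα, hπc g ⟨a, haQ⟩ b rfl, ← hpow, ← hπmul]
    exact congrArg π (Subtype.ext (by simp [hdd]))
  have hgw : ε g (π w) = 2 • π w := by
    rw [hπc g w ⟨g * w * g⁻¹, (inferInstance : (pCore p G).Normal).conj_mem _ w.2 g⟩ rfl, ← hpow, ← sub_eq_zero]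
    have e : π ⟨g * w * g⁻¹, (inferInstance : (pCore p G).Normal).conj_mem _ w.2 g⟩ - π (w ^ 2) =
        π ⟨g * (w : G) * g⁻¹ * ((w : G) ^ 2)⁻¹, mul_mem ((inferInstance : (pCore p G).Normal).conj_mem _ w.2 g)
          (inv_mem (pow_mem w.2 2))⟩ := by
      rw [sub_eq_iff_eq_add, ← hπmul]
      exact congrArg π (Subtype.ext (by simp))
    rw [e, hπ0]
    exact mem_sup_left hww
  have htriv : ∀ c : ↥(pCore p G), ε k (π c) = π c := by
    intro c
    rw [hπc k c ⟨k * c * k⁻¹, (inferInstance : (pCore p G).Normal).conj_mem _ c.2 k⟩ rfl, ← sub_eq_zero]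
    have e : π ⟨k * c * k⁻¹, (inferInstance : (pCore p G).Normal).conj_mem _ c.2 k⟩ - π c =
        π ⟨k * c * k⁻¹ * (c : G)⁻¹, mul_mem ((inferInstance : (pCore p G).Normal).conj_mem _ c.2 k) (inv_mem c.2)⟩ := by
      rw [sub_eq_iff_eq_add, ← hπmul]
      exact congrArg π (Subtype.ext (by simp))
    rw [e, hπ0]
    exact h.comm_core hS hd k hk c c.2
  obtain ⟨δ, hxd, hxδ⟩ : ∃ δ, ε x (π d) = π d + δ ∧ ε x δ = δ := by
    set e : ↥(pCore p G) := ⟨x * (d : G) * x⁻¹ * (d : G)⁻¹,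
      mul_mem ((inferInstance : (pCore p G).Normal).conj_mem _ d.2 x) (inv_mem d.2)⟩ with he
    refine ⟨π e, ?_, ?_⟩
    · rw [hπc x d ⟨x * d * x⁻¹, (inferInstance : (pCore p G).Normal).conj_mem _ d.2 x⟩ rfl, add_comm, ← hπmul]
      exact congrArg π (Subtype.ext (by simp [he]))
    · refine hπc x e e ?_
      have h1 := (h.DX (d : G) hbd x hx).2 x (h.X_le hx)
      show x * (d : G) * x⁻¹ * (d : G)⁻¹ = x * (x * (d : G) * x⁻¹ * (d : G)⁻¹) * x⁻¹
      rw [h1, mul_inv_cancel_right]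
  -- powers of the operator
  set T := fun y => ε x y with hT
  set ν := ε x α - α with hν
  have hxα : ε x α = α + ν := by rw [hν]; abel
  have hxν : ε x ν = ν + π w := by rw [← hN2]; abel
  have h4 : ∀ y z₁ z₂ : M, ε x y = y + z₁ → ε x z₁ = z₁ + z₂ → ε x z₂ = z₂ →
      ε (x ^ 4) y = y + 4 • z₁ + 6 • z₂ := by
    intro y z₁ z₂ e1 e2 e3
    simp only [pow_succ, pow_zero, one_mul, end_mul_apply, e1, map_add, e2, e3]
    abel
  have hgx : ∀ y : M, ε g (ε x y) = ε (x ^ 4) (ε k (ε g y)) := by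
    intro y
    rw [← end_mul_apply, ← end_mul_apply, ← end_mul_apply]
    exact congrArg (fun z => ε z y) (by rw [hkdef]; group)
  have hπz : ∀ n : ℕ, ∀ c : ↥(pCore p G), ε k (n • π c) = n • π c := fun n c => by rw [map_nsmul, htriv]
  -- apply both sides to `α`
  have hkgα : ε k (ε g α) = ε g α := by rw [hgα, map_add, map_nsmul, htriv, htriv]
  set y := ε g α with hy
  have e1 : ε x y = y + (m • ν + δ) := by rw [hgα, map_add, map_nsmul, hxα, hxd, smul_add]; abel
  have e2 : ε x (m • ν + δ) = (m • ν + δ) + m • π w := by rw [map_add, map_nsmul, hxν, hxδ, smul_add]; abel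
  have e3 : ε x (m • π w) = m • π w := by rw [map_nsmul, hxw]
  have hgν : ε g ν = 4 • (m • ν + δ) + 6 • (m • π w) := by
    rw [hν, map_sub, hgx, ← hy, hkgα, h4 y _ _ e1 e2 e3]
    abel
  have e1' : ε x (4 • (m • ν + δ) + 6 • (m • π w)) = (4 • (m • ν + δ) + 6 • (m • π w)) + 4 • (m • π w) := by
    rw [map_add, map_nsmul, map_nsmul, e2, e3, smul_add 4 (m • ν + δ) (m • π w)]; abel
  have e2' : ε x (4 • (m • π w)) = 4 • (m • π w) + 0 := by rw [map_nsmul, e3, add_zero]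
  have hkgν : ε k (ε g ν) = ε g ν := by
    obtain ⟨c, hc⟩ : ∃ c, ν = π c := by
      refine ⟨⟨x * a * x⁻¹ * a⁻¹, mul_mem ((inferInstance : (pCore p G).Normal).conj_mem _ haQ x) (inv_mem haQ)⟩, ?_⟩
      rw [hν, sub_eq_iff_eq_add, hα, ← hπmul,
        hπc x ⟨a, haQ⟩ ⟨x * a * x⁻¹, (inferInstance : (pCore p G).Normal).conj_mem _ haQ x⟩ rfl]
      exact congrArg π (Subtype.ext (by simp))
    rw [hc, hπc g c ⟨g * c * g⁻¹, (inferInstance : (pCore p G).Normal).conj_mem _ c.2 g⟩ rfl, htriv]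
  have hfinal : 2 • π w = 16 • (m • π w) := by
    rw [← hgw, show π w = ε x ν - ν by rw [hxν]; abel, map_sub, hgx, hkgν, hgν,
      h4 _ _ _ e1' e2' (map_zero _), smul_zero, add_zero, show ε x ν - ν = π w by rw [hxν]; abel, smul_smul 4 4]
    abel
  have h12 : 12 • π w = 0 := by
    have h := congrArg (fun z => 2 • z) hfinal
    simp only [smul_smul] at h
    rw [show 2 * (16 * m) = 16 * p + 16 by rw [show 2 * (16 * m) = 16 * (2 * m) by ring, hm2]; ring, add_smul,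
      show (16 * p) • π w = 0 by rw [mul_smul, hpw, smul_zero], zero_add] at h
    have h' : 4 • π w + 12 • π w = 4 • π w + 0 := by rw [← add_smul, add_zero]; exact h.symm
    exact add_left_cancel h'
  have hcop : Nat.gcd 12 p = 1 := by
    refine Nat.Coprime.symm ((hpp.coprime_iff_not_dvd).mpr fun hdvd => ?_)
    rcases hpp.dvd_mul.mp (show p ∣ 4 * 3 from hdvd) with h4 | h3'
    · exact hp2 ((Nat.prime_dvd_prime_iff_eq hpp Nat.prime_two).mp (hpp.dvd_of_dvd_pow (show p ∣ 2 ^ 2 from h4)))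
    · exact hp3 ((Nat.prime_dvd_prime_iff_eq hpp Nat.prime_three).mp h3')
  refine hw0 (AddMonoid.addOrderOf_eq_one_iff.mp (Nat.dvd_one.mp (hcop ▸
    Nat.dvd_gcd (addOrderOf_dvd_of_nsmul_eq_zero h12) (addOrderOf_dvd_of_nsmul_eq_zero hpw))))

theorem exp_not_three (hC : Coords p F (pCore p G) (S : Subgroup G) T' f) :
    ∃ s ∈ (S : Subgroup G), s ^ 3 ≠ 1 := by
  obtain rfl := h.p_eq_three hS hd hC
  obtain ⟨M, _, ε, π, a, x, haQ, w, ha, hx, hxQ, hπmul, hπ0, hπc, hpa, hpw, hN2, hxw, hw0, hwfx⟩ :=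
    h.second_difference hS hd hC
  refine ⟨x * a, mul_mem (h.X_le hx) (hS.core_le haQ), fun h1 => hw0 ?_⟩
  have hx3 : x ^ 3 = 1 := h.elemX x hx
  set α := π ⟨a, haQ⟩ with hα
  set ν := ε x α - α with hν
  have hxα : ε x α = α + ν := by rw [hν]; abel
  have hxν : ε x ν = ν + π w := by rw [← hN2]; abel
  have hprod : (x * a * x⁻¹) * (x * (x * a * x⁻¹) * x⁻¹) * a = 1 := by
    have e : (x * a * x⁻¹) * (x * (x * a * x⁻¹) * x⁻¹) * (x ^ 3) * a = (x * a) ^ 3 := by
      simp only [pow_succ, pow_zero, one_mul]; group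
    rw [hx3, mul_one, h1] at e
    exact e
  set b₁ : ↥(pCore 3 G) := ⟨x * a * x⁻¹, (inferInstance : (pCore 3 G).Normal).conj_mem a haQ x⟩ with hb₁
  set b₂ : ↥(pCore 3 G) := ⟨x * (x * a * x⁻¹) * x⁻¹, (inferInstance : (pCore 3 G).Normal).conj_mem _ b₁.2 x⟩ with hb₂
  have e0 : π (b₁ * b₂ * ⟨a, haQ⟩) = 0 := (hπ0 _).mpr (by
    show (x * a * x⁻¹) * (x * (x * a * x⁻¹) * x⁻¹) * a ∈ nz S D
    rw [hprod]; exact one_mem _)
  rw [hπmul, hπmul, ← hπc x ⟨a, haQ⟩ b₁ rfl, ← hπc x b₁ b₂ rfl, ← hπc x ⟨a, haQ⟩ b₁ rfl, ← hα] at e0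
  rw [hxα, map_add, hxα, hxν] at e0
  have h3α : 3 • α = 0 := hpa
  have h3ν : 3 • ν = 0 := by rw [hν, smul_sub, ← map_nsmul, h3α, map_zero, sub_zero]
  calc π w = (α + ν + (α + ν + (ν + π w)) + α) - 3 • α - 3 • ν := by abel
    _ = 0 := by rw [e0, h3α, h3ν, sub_zero, sub_zero]

theorem res_pow_nine (hC : Coords p F (pCore p G) (S : Subgroup G) T' f) {s r : G} (hs : s ∈ (S : Subgroup G))
    (hr : r ∈ Cfsg.pResidual p G) : r * s ^ 9 = s ^ 9 * r := by
  obtain rfl := h.p_eq_three hS hd hC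
  have hV := vmod_mdl hS hd
  have hs3 : s ^ 3 ∈ pCore 3 G := hS.exp s hs
  obtain ⟨c, hc, a, ha, d, hd', hcad⟩ := h.split _ hs3
  set z := a * c * a⁻¹ * c⁻¹ with hz
  have hzz := h.central_mem hS hd ha hc
  have hzc : ∀ y : G, Commute z y := fun y => (Subgroup.mem_center_iff.mp hzz.2 y).symm
  have h1 : (c * a) ^ 3 = 1 := by
    calc (c * a) ^ 3 = c * (a * c) * (a * c) * a := by
          simp only [pow_succ, pow_zero, one_mul]; group
      _ = c * (z * c * a) * (z * c * a) * a := by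
          rw [show a * c = z * c * a by rw [hz]; group]
      _ = z ^ 2 * (c * c * (a * c) * a * a) := by
          rw [show c * (z * c * a) * (z * c * a) * a = (c * z) * (c * a) * z * (c * a) * a by group,
            ← (hzc c).eq, show z * c * (c * a) * z * (c * a) * a = z * ((c * c * a) * z) * (c * a) * a by group,
            ← (hzc (c * c * a)).eq, pow_two]
          group
      _ = z ^ 2 * (c * c * (z * c * a) * a * a) := by rw [show a * c = z * c * a by rw [hz]; group]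
      _ = z ^ 3 * (c ^ 3 * a ^ 3) := by
          rw [show c * c * (z * c * a) * a * a = (c * c * z) * (c * a * a * a) by group, ← (hzc (c * c)).eq]
          simp only [pow_succ, pow_zero, one_mul]; group
      _ = 1 := by rw [vmod_pow hS hd hzz.1, h.elemC c hc, h.elemA a ha, one_mul, one_mul]
  have hcomm : Commute (c * a) d := Commute.mul_left (h.CD c hc d hd') (h.AD a ha d hd')
  rw [show (9 : ℕ) = 3 * 3 from rfl, pow_mul, ← hcad, hcomm.mul_pow, h1, one_mul]
  set u := r * d * r⁻¹ * d⁻¹ with hu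
  have hu' := h.res_D hS hd d hd' r hr
  have h2 : Commute u d := (hV.cent u hu' d (h.D_le hd')).symm
  have e : r * d ^ 3 * r⁻¹ = d ^ 3 := by
    rw [← conj_pow, show r * d * r⁻¹ = u * d by rw [hu]; group, h2.mul_pow, vmod_pow hS hd hu', one_mul]
  exact mul_inv_eq_iff_eq_mul.mp e

theorem pow_nine (hC : Coords p F (pCore p G) (S : Subgroup G) T' f) (hn : NoChar (S : Subgroup G)) {s : G} (hs : s ∈ (S : Subgroup G)) :
    s ^ 9 = 1 :=
  pow_eq_one_of_res_fixed hn 9 (fun r hr s hs => h.res_pow_nine hS hd hC hs hr) hs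

/-- The layer below which the commutators of `S` with the middle layers fall. -/
theorem comm_sup {e s : G} (he : e ∈ C ⊔ D) (hs : s ∈ (S : Subgroup G)) :
    e * s * e⁻¹ * s⁻¹ ∈ fx (vmod S) (S : Subgroup G) ⊔ ⁅D, D⁆ := by
  haveI := h.derived_normal hS hd
  obtain ⟨c, hc, d, hd', rfl⟩ := exists_mul (fun k hk => mem_normalizer_of_conj fun l hl => by
      rw [(h.CD l hl k hk).symm, mul_inv_cancel_right]; exact hl) he
  have e1 : c * d * s * (c * d)⁻¹ * s⁻¹ = (c * (d * s * d⁻¹ * s⁻¹) * c⁻¹) * (c * s * c⁻¹ * s⁻¹) := by group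
  rw [e1]
  refine mul_mem ?_ (mem_sup_left (h.comm_C hS hd hs hc))
  obtain ⟨z, hz, n, hn, hzn⟩ := exists_mul' (normalizer_top _ _) (h.comm_D hS hd hs hd')
  rw [← hzn, show c * (z * n) * c⁻¹ = (c * z * c⁻¹) * (c * n * c⁻¹) by group,
    show c * z = z * c from hz.2 c (hS.core_le (h.C_le hc)), mul_inv_cancel_right]
  exact mul_mem (mem_sup_left hz) (mem_sup_right (‹(⁅D, D⁆).Normal›.conj_mem n hn c))

theorem derived_le' : ⁅(S : Subgroup G), (S : Subgroup G)⁆ ≤ C ⊔ D := by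
  have hconj : ∀ {e : G}, e ∈ C ⊔ D → ∀ {s : G}, s ∈ (S : Subgroup G) → s * e * s⁻¹ ∈ C ⊔ D := fun {e} he {s} hs => by
    rw [show s * e * s⁻¹ = (s * e * s⁻¹ * e⁻¹) * e by group]
    exact mul_mem (h.comE s hs e (sup_le h.C_le h.D_le he)) he
  refine commutator_le' fun s hs t ht => ?_
  obtain ⟨x, hx, q, hq, rfl⟩ := exists_mul' (X := X) (normalizer_top (pCore p G) X) (h.X_sup.ge hs)
  obtain ⟨y, hy, r, hr, rfl⟩ := exists_mul' (X := X) (normalizer_top (pCore p G) X) (h.X_sup.ge ht)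
  have hxS := h.X_le hx
  have hyS := h.X_le hy
  have e : x * q * (y * r) * (x * q)⁻¹ * (y * r)⁻¹ = (x * (q * y * q⁻¹ * y⁻¹) * x⁻¹) *
      ((x * y) * (q * r * q⁻¹ * r⁻¹) * (x * y)⁻¹) * ((x * y) * r * x⁻¹ * r⁻¹ * y⁻¹) := by group
  rw [e]
  refine mul_mem (mul_mem (hconj (comm_swap (h.comE y hyS q hq)) hxS)
    (hconj (h.comE q (hS.core_le hq) r hr) (mul_mem hxS hyS))) ?_
  rw [h.abelX x hx y hy, show y * x * r * x⁻¹ * r⁻¹ * y⁻¹ = y * (x * r * x⁻¹ * r⁻¹) * y⁻¹ by group]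
  exact hconj (h.comE x hxS r hr) hyS

theorem lcs_three (hn : NoChar (S : Subgroup G)) : (S : Subgroup G).lowerCentralSeries 3 = ⊥ := by
  haveI := h.derived_normal hS hd
  have h2 : (S : Subgroup G).lowerCentralSeries 2 ≤ fx (vmod S) (S : Subgroup G) ⊔ ⁅D, D⁆ :=
    (Subgroup.commutator_mono (h.derived_le' hS hd) le_rfl).trans
      (commutator_le' fun e he s hs => h.comm_sup hS hd he hs)
  have h3 : (S : Subgroup G).lowerCentralSeries 3 ≤ ⁅D, D⁆ := by
    refine (Subgroup.commutator_mono h2 le_rfl).trans (commutator_le' fun z hz s hs => ?_)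
    obtain ⟨z, hzf, n, hn, rfl⟩ := exists_mul' (normalizer_top _ _) hz
    rw [show z * n * s * (z * n)⁻¹ * s⁻¹ = (z * (n * (s * n⁻¹ * s⁻¹)) * z⁻¹) * (z * s * z⁻¹ * s⁻¹) by group,
      show z * s = s * z from (hzf.2 s hs).symm, mul_inv_cancel_right, mul_inv_cancel, mul_one]
    exact ‹(⁅D, D⁆).Normal›.conj_mem _ (mul_mem hn (‹(⁅D, D⁆).Normal›.conj_mem _ (inv_mem hn) s)) z
  exact eq_bot_of_res_fixed hn (h3.trans (((Subgroup.commutator_le_self _).trans h.D_le).trans hS.core_le))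
    (autInv_lcs 3) fun r hr k hk => h.res_derived hS hd k (h3 hk) r hr

theorem lcs_two_ne : (S : Subgroup G).lowerCentralSeries 2 ≠ ⊥ := by
  intro h0
  obtain ⟨a, ha, x, hx, v, hv, hxQ, hne, hxuv⟩ := h.key
  have h1 : ⁅⁅x, a⁆, x⁆ ∈ (S : Subgroup G).lowerCentralSeries 2 := Subgroup.commutator_mem_commutator
    (Subgroup.commutator_mem_commutator (h.X_le hx) (hS.core_le (h.A_le ha))) (h.X_le hx)
  rw [h0, Subgroup.mem_bot, commutatorElement_eq_one_iff_mul_comm] at h1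
  refine hne (hxuv ▸ ?_)
  rw [commutatorElement_def] at h1
  rw [← h1, mul_inv_cancel_right, mul_inv_cancel]

end Two

end CfsgLib.PushUp
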