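import Mathlib
import Cfsg.Agent.Lib.PushUp.Layers

/-!
Chief factors inside a group with natural and hypercentral layers.
-/

set_option autoImplicit false
set_option linter.unusedSectionVars false

namespace CfsgLib.PushUp

open Cfsg Subgroup CfsgLib.PSL2
open scoped commutatorElement

universe u

variable {G : Type u} [Group G] [Finite G] {F : Type} [Field F]

theorem sl_irreducible (N : AddSubgroup (Fin 2 → F))
    (hu : ∀ (t : F), ∀ x ∈ N, (uSL t).1.mulVec x ∈ N) (hv : ∀ (t : F), ∀ x ∈ N, (vSL t).1.mulVec x ∈ N)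
    {x : Fin 2 → F} (hx : x ∈ N) (hx0 : x ≠ 0) : N = ⊤ := by
  have hdu : ∀ y ∈ N, ∀ t : F, ![t * y 1, 0] ∈ N := fun y hy t => by
    have h := N.sub_mem (hu t y hy) hy
    rw [mulVec_uSL] at h
    convert h using 1
    funext i; fin_cases i <;> simp
  have hdv : ∀ y ∈ N, ∀ t : F, ![0, t * y 0] ∈ N := fun y hy t => by
    have h := N.sub_mem (hv t y hy) hy
    rw [mulVec_vSL] at h
    convert h using 1
    funext i; fin_cases i <;> simp
  obtain ⟨c, hc, hc0⟩ : ∃ y ∈ N, y 1 ≠ 0 := by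
    by_cases h1 : x 1 = 0
    · have h0 : x 0 ≠ 0 := fun h0 => hx0 (by funext i; fin_cases i <;> assumption)
      exact ⟨_, hdv x hx 1, by simpa using h0⟩
    · exact ⟨x, hx, h1⟩
  have hfirst : ∀ s : F, ![s, 0] ∈ N := fun s => by
    have h := hdu c hc (s / c 1)
    rwa [div_mul_cancel₀ _ hc0] at h
  have hsecond : ∀ s : F, ![0, s] ∈ N := fun s => by
    have h := hdv _ (hfirst 1) s
    simpa using h
  rw [eq_top_iff]
  intro y _
  have h := N.add_mem (hfirst (y 0)) (hsecond (y 1))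
  convert h using 1
  funext i; fin_cases i <;> simp

variable {ρ : G →* Matrix.SpecialLinearGroup (Fin 2) F} {Y X : Subgroup G} {φ : G → Fin 2 → F}

theorem Sect.X_le_of (h : Sect ρ Y X φ) {N : Subgroup G} (hXY : X ≤ Y) (hXN : X ≤ N) (hNY : N ≤ Y)
    (himg : ∀ y ∈ Y, ∃ n ∈ N, φ n = φ y) : N = Y := by
  refine le_antisymm hNY fun y hy => ?_
  obtain ⟨n, hn, hne⟩ := himg y hy
  have h1 : n⁻¹ * y ∈ X := (h.ker _ (Y.mul_mem (Y.inv_mem (hNY hn)) hy)).mp (by
    rw [h.mul _ (Y.inv_mem (hNY hn)) _ hy, h.map_inv (hNY hn), hne, neg_add_cancel])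
  simpa using N.mul_mem hn (hXN h1)

/-- A natural section is a chief factor. -/
theorem Sect.isChief (h : Sect ρ Y X φ) (hρ : Function.Surjective ρ) [hY : Y.Normal] [hX : X.Normal] (hXY : X ≤ Y) :
    Cfsg.IsChiefFactor Y X := by
  refine ⟨lt_of_le_of_ne hXY fun e => ?_, hY, hX, fun N hN hXN hNY => ?_⟩
  · obtain ⟨y, hy, hy'⟩ := h.onto (fun _ => 1)
    rw [(h.ker y hy).mpr (e ▸ hy)] at hy'
    exact one_ne_zero (congrFun hy' 0).symm
  by_cases hN0 : ∀ n ∈ N, φ n = 0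
  · exact Or.inl (le_antisymm (fun n hn => (h.ker n (hNY hn)).mp (hN0 n hn)) hXN)
  push Not at hN0
  obtain ⟨n, hn, hn0⟩ := hN0
  let A : AddSubgroup (Fin 2 → F) :=
    { carrier := {x | ∃ k ∈ N, φ k = x}
      add_mem' := by
        rintro _ _ ⟨a, ha, rfl⟩ ⟨b, hb, rfl⟩
        exact ⟨a * b, N.mul_mem ha hb, h.mul a (hNY ha) b (hNY hb)⟩
      zero_mem' := ⟨1, N.one_mem, h.map_one⟩
      neg_mem' := by
        rintro _ ⟨a, ha, rfl⟩
        exact ⟨a⁻¹, N.inv_mem ha, h.map_inv (hNY ha)⟩ }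
  have hinv : ∀ M : Matrix.SpecialLinearGroup (Fin 2) F, ∀ x ∈ A, M.1.mulVec x ∈ A := by
    rintro M _ ⟨k, hk, rfl⟩
    obtain ⟨g, rfl⟩ := hρ M
    exact ⟨g * k * g⁻¹, hN.conj_mem k hk g, h.equiv g k (hNY hk)⟩
  have htop := sl_irreducible A (fun t x hx => hinv _ x hx) (fun t x hx => hinv _ x hx) ⟨n, hn, rfl⟩ hn0
  refine Or.inr (h.X_le_of hXY hXN hNY fun y _ => ?_)
  exact (show φ y ∈ A from htop ▸ AddSubgroup.mem_top _)

/-- A natural section is noncentral. -/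
theorem Sect.noncentral (h : Sect ρ Y X φ) (hρ : Function.Surjective ρ) [Y.Normal] :
    ¬ ⁅Y, (⊤ : Subgroup G)⁆ ≤ X := by
  intro hle
  obtain ⟨g, hg⟩ := hρ (uSL 1)
  obtain ⟨y, hy, hy'⟩ := h.onto ![0, 1]
  have h1 := (h.ker _ (Y.mul_mem (‹Y.Normal›.conj_mem y hy g) (Y.inv_mem hy))).mpr
    (comm_swap (hle (Subgroup.commutator_mem_commutator hy (mem_top g))))
  rw [h.map_comm g hy, hg, hy', mulVec_uSL, sub_eq_zero] at h1
  simpa using congrFun h1 0

theorem iter_le_self {N : Subgroup G} [N.Normal] : ∀ k, Cfsg.iterCommutator N ⊤ k ≤ N := by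
  intro k
  induction k with
  | zero => exact le_refl N
  | succ k ih => exact le_trans (Subgroup.commutator_mono ih le_rfl) (Subgroup.commutator_le_left _ _)

/-- Crossing a hypercentral layer. -/
theorem inf_le_of_hyper {U W X Y : Subgroup G} [Y.Normal] (hUW : Cfsg.IsChiefFactor U W)
    (hnc : ¬ ⁅U, (⊤ : Subgroup G)⁆ ≤ W) (hk : ∃ k, Cfsg.iterCommutator Y ⊤ k ≤ X) (hX : U ⊓ X ≤ W) : U ⊓ Y ≤ W := by
  obtain ⟨hlt, hUn, hWn, hmax⟩ := hUW
  haveI := hUn
  haveI := hWn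
  haveI : (U ⊓ Y).Normal := Subgroup.normal_inf_normal _ _
  haveI : (W ⊔ U ⊓ Y).Normal := Subgroup.sup_normal _ _
  by_contra hne
  have hWU : W ⊔ (U ⊓ Y) = U :=
    (hmax _ inferInstance le_sup_left (sup_le hlt.le inf_le_left)).resolve_left fun e => hne (e ▸ le_sup_right)
  haveI : (⁅U, (⊤ : Subgroup G)⁆).Normal := Subgroup.commutator_normal _ _
  haveI : (W ⊔ ⁅U, (⊤ : Subgroup G)⁆).Normal := Subgroup.sup_normal _ _
  have hUC : W ⊔ ⁅U, (⊤ : Subgroup G)⁆ = U :=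
    (hmax _ inferInstance le_sup_left (sup_le hlt.le (Subgroup.commutator_le_left _ _))).resolve_left
      fun e => hnc (e ▸ le_sup_right)
  have key : ∀ k, U ≤ W ⊔ Cfsg.iterCommutator (U ⊓ Y) ⊤ k := by
    intro k
    induction k with
    | zero => exact hWU.ge
    | succ k ih =>
      refine hUC.ge.trans (sup_le le_sup_left ((Subgroup.commutator_mono ih le_rfl).trans ?_))
      refine commutator_le' fun a ha g _ => ?_
      obtain ⟨w, hw, i, hi, rfl⟩ := exists_mul (normalizer_top W _) ha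
      haveI : (Cfsg.iterCommutator (U ⊓ Y) ⊤ (k + 1)).Normal := by
        induction k + 1 with
        | zero => exact inferInstanceAs (U ⊓ Y).Normal
        | succ j ihj =>
          haveI := ihj
          exact Subgroup.commutator_normal _ _
      have e : w * i * g * (w * i)⁻¹ * g⁻¹ = (w * (i * g * i⁻¹ * g⁻¹) * w⁻¹) * (w * (g * w⁻¹ * g⁻¹)) := by group
      rw [e]
      refine mul_mem (mem_sup_right ?_) (mem_sup_left (mul_mem hw (hWn.conj_mem _ (inv_mem hw) g)))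
      exact ‹(Cfsg.iterCommutator (U ⊓ Y) ⊤ (k + 1)).Normal›.conj_mem _
        (Subgroup.commutator_mem_commutator hi (mem_top g)) w
  obtain ⟨k, hk⟩ := hk
  have hmono : Cfsg.iterCommutator (U ⊓ Y) ⊤ k ≤ U ⊓ X := by
    refine le_inf ((iter_le_self k).trans inf_le_left) (le_trans ?_ hk)
    clear key hk
    induction k with
    | zero => exact inf_le_right
    | succ k ih => exact Subgroup.commutator_mono ih le_rfl
  exact hlt.not_ge ((key k).trans (sup_le le_rfl (hmono.trans hX)))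

/-- Crossing a natural layer. -/
theorem natural_of_sect {Q U W : Subgroup G} [W.Normal] [Y.Normal] [X.Normal] (h : Sect ρ Y X φ)
    (hρ : Function.Surjective ρ) (hXY : X ≤ Y) (hker : Q ≤ ρ.ker) (hU : U ≤ Q) (hUW : Cfsg.IsChiefFactor U W)
    (hX : U ⊓ X ≤ W) (hY : ¬ U ⊓ Y ≤ W) :
    Cfsg.IsNaturalSL2Module F (U.map (QuotientGroup.mk' W)) (⊤ : Subgroup (G ⧸ W)) := by
  classical
  obtain ⟨hlt, hUn, -, hmax⟩ := hUW
  haveI := hUn
  haveI : (U ⊓ Y).Normal := Subgroup.normal_inf_normal _ _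
  haveI : (W ⊔ U ⊓ Y).Normal := Subgroup.sup_normal _ _
  have hWU : W ⊔ (U ⊓ Y) = U :=
    (hmax _ inferInstance le_sup_left (sup_le hlt.le inf_le_left)).resolve_left fun e => hY (e ▸ le_sup_right)
  haveI : (U ⊓ Y ⊔ X).Normal := Subgroup.sup_normal _ _
  have hchief := h.isChief hρ hXY
  have hfull : U ⊓ Y ⊔ X = Y := by
    refine (hchief.2.2.2 _ inferInstance le_sup_right (sup_le inf_le_right hXY)).resolve_left fun e => ?_
    exact hY ((le_inf inf_le_left (le_sup_left.trans e.le)).trans hX)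
  -- the shared part of `W` and `Y` is in `X`
  have hWX : ∀ y ∈ W, y ∈ Y → y ∈ X := by
    haveI : (W ⊓ Y).Normal := Subgroup.normal_inf_normal _ _
    haveI : (W ⊓ Y ⊔ X).Normal := Subgroup.sup_normal _ _
    rcases hchief.2.2.2 (W ⊓ Y ⊔ X) inferInstance le_sup_right (sup_le inf_le_right hXY) with e | e
    · exact fun y hy hy' => e ▸ mem_sup_left ⟨hy, hy'⟩
    · exfalso
      refine hY fun y hy => ?_
      obtain ⟨w, hw, x, hx, rfl⟩ := exists_mul' (normalizer_top X _) (e.ge hy.2)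
      refine W.mul_mem hw.1 (hX ⟨?_, hx⟩)
      simpa using U.mul_mem (U.inv_mem (hlt.le hw.1)) hy.1
  set π := QuotientGroup.mk' W with hπ
  set V := U.map π with hV
  have hrep : ∀ v : V, ∃ y, y ∈ U ⊓ Y ∧ π y = (v : G ⧸ W) := by
    rintro ⟨_, u, hu, rfl⟩
    obtain ⟨w, hw, y, hy, rfl⟩ := exists_mul (normalizer_top W _) (hWU.ge hu)
    exact ⟨y, hy, by
      show π y = π (w * y)
      rw [map_mul, show π w = 1 from (QuotientGroup.eq_one_iff w).mpr hw, one_mul]⟩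
  choose rep hrepY hrepπ using hrep
  have hφeq : ∀ v : V, ∀ y ∈ U ⊓ Y, π y = (v : G ⧸ W) → φ (rep v) = φ y := by
    intro v y hy hyv
    have h1 : (rep v)⁻¹ * y ∈ W := (QuotientGroup.eq).mp (show π (rep v) = π y by rw [hrepπ, hyv])
    have h2 := (h.ker _ (Y.mul_mem (Y.inv_mem (hrepY v).2) hy.2)).mpr
      (hWX _ h1 (Y.mul_mem (Y.inv_mem (hrepY v).2) hy.2))
    rw [h.mul _ (Y.inv_mem (hrepY v).2) _ hy.2, h.map_inv (hrepY v).2, neg_add_eq_zero] at h2
    exact h2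
  let ψ₀ : Additive V →+ (Fin 2 → F) := AddMonoidHom.mk' (fun v => φ (rep (Additive.toMul v))) fun a b => by
    show φ (rep (Additive.toMul a * Additive.toMul b)) = _
    rw [hφeq _ _ ((U ⊓ Y).mul_mem (hrepY (Additive.toMul a)) (hrepY (Additive.toMul b)))
      (by rw [map_mul, hrepπ, hrepπ]; rfl), h.mul _ (hrepY _).2 _ (hrepY _).2]
  have hbij : Function.Bijective ψ₀ := by
    refine ⟨(injective_iff_map_eq_zero ψ₀).mpr fun v hv => ?_, fun x => ?_⟩
    · have h1 := (h.ker _ (hrepY (Additive.toMul v)).2).mp hv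
      have h2 : π (rep (Additive.toMul v)) = 1 :=
        (QuotientGroup.eq_one_iff _).mpr (hX ⟨(hrepY (Additive.toMul v)).1, h1⟩)
      rw [hrepπ] at h2
      exact Additive.toMul.injective (Subtype.ext h2)
    · obtain ⟨y, hy, rfl⟩ := h.onto x
      obtain ⟨y', hy', z, hz, hyz⟩ := exists_mul' (normalizer_top X _) (hfull.ge hy)
      refine ⟨Additive.ofMul ⟨π y', y', hy'.1, rfl⟩, ?_⟩
      show φ (rep ⟨π y', y', hy'.1, rfl⟩) = φ y
      rw [hφeq _ y' hy' rfl, ← hyz, h.mul _ hy'.2 _ (hXY hz), (h.ker _ (hXY hz)).mpr hz, add_zero]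
  let ψ : Additive V ≃+ (Fin 2 → F) := AddEquiv.ofBijective ψ₀ hbij
  let ρ₁ : G ⧸ W →* Matrix.SpecialLinearGroup (Fin 2) F :=
    QuotientGroup.lift W ρ ((hlt.le.trans hU).trans hker)
  have hρ₁ : ∀ g, ρ₁ (π g) = ρ g := fun g => rfl
  haveI : V.Normal := Subgroup.Normal.map inferInstance π (QuotientGroup.mk'_surjective W)
  have hact : ∀ (g : G) (v : V), ∃ w : V, (w : G ⧸ W) = π g * (v : G ⧸ W) * (π g)⁻¹ ∧
      ψ (Additive.ofMul w) = (ρ g).1.mulVec (ψ (Additive.ofMul v)) := by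
    intro g v
    refine ⟨⟨_, ‹V.Normal›.conj_mem _ v.2 (π g)⟩, rfl, ?_⟩
    show φ (rep ⟨_, ‹V.Normal›.conj_mem _ v.2 (π g)⟩) = (ρ g).1.mulVec (φ (rep v))
    rw [hφeq _ (g * rep v * g⁻¹) ((inferInstance : (U ⊓ Y).Normal).conj_mem _ (hrepY v) g)
      (by show π _ = π g * (v : G ⧸ W) * (π g)⁻¹; rw [map_mul, map_mul, map_inv, hrepπ]), h.equiv g _ (hrepY v).2]
  refine ⟨by rw [Subgroup.normalizer_eq_top], ρ₁.comp (⊤ : Subgroup (G ⧸ W)).subtype, ψ, fun M => ?_, ?_, ?_⟩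
  · obtain ⟨g, rfl⟩ := hρ M
    exact ⟨⟨π g, mem_top _⟩, rfl⟩
  · ext ⟨l, hl⟩
    obtain ⟨g, rfl⟩ := QuotientGroup.mk'_surjective W l
    rw [MonoidHom.mem_ker, Subgroup.mem_subgroupOf, Subgroup.mem_centralizer_iff]
    show ρ g = 1 ↔ _
    constructor
    · intro hg v hv
      obtain ⟨w, hw, hwψ⟩ := hact g ⟨v, hv⟩
      rw [hg, Matrix.SpecialLinearGroup.coe_one, Matrix.one_mulVec] at hwψ
      have : w = ⟨v, hv⟩ := Additive.ofMul.injective (ψ.injective hwψ)
      rw [this] at hw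
      exact eq_mul_inv_iff_mul_eq.mp hw
    · intro hg
      refine sl_eq_of_mulVec fun x => ?_
      obtain ⟨v, rfl⟩ := ψ.surjective x
      obtain ⟨w, hw, hwψ⟩ := hact g (Additive.toMul v)
      have : w = Additive.toMul v := Subtype.ext (by
        rw [hw, ← hg _ (Additive.toMul v).2, mul_inv_cancel_right])
      rw [this, ofMul_toMul] at hwψ
      rw [← hwψ, Matrix.SpecialLinearGroup.coe_one, Matrix.one_mulVec]
  · rintro ⟨l, hl⟩ v
    obtain ⟨g, rfl⟩ := QuotientGroup.mk'_surjective W l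
    exact hact g v

end CfsgLib.PushUp
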