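import Mathlib
import Cfsg.Agent.Lib.PushUp.CaseTwo
import Cfsg.Agent.Lib.PushUp.Factors

/-!
The dichotomy of rank-one pushing up.
-/

set_option autoImplicit false
set_option linter.unusedSectionVars false

namespace CfsgLib.PushUp

open Cfsg Subgroup CfsgLib.PushRankOne CfsgLib.PSL2

universe u

variable {G : Type u} [Group G] [Finite G] {p : ℕ} [Fact p.Prime] {S : Sylow p G}

theorem dichotomy (hS : Setting S) (hd : NoChar (S : Subgroup G))
    (hopp : ∃ g : G, Opp ⊤ (pCore p G) (S : Subgroup G) (cj g (S : Subgroup G))) :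
    (∃ A, One S A) ∨ ∃ T' X Y A C D : Subgroup G, Two S T' X Y A C D := by
  obtain ⟨𝒮, Am, b, hb, C, hc⟩ := exists_ambience hS hd hopp
  have hb1 := C.hb
  obtain rfl | rfl : b = 1 ∨ b = 2 := by omega
  · obtain ⟨ψ, P⟩ := Am.pull _ _ (C.edge_l 0 (by omega))
    exact Or.inl (exists_one hc P)
  · obtain ⟨Ln⟩ := exists_line C hc (Am.markedAll _) 5 (by omega)
    obtain ⟨ψ, P⟩ := Am.pull _ _ (Ln.edge_l 2 (by omega))
    obtain ⟨ψ₃, P₃⟩ := Am.pull _ _ (Ln.edge_l 3 (by omega))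
    exact Or.inr (exists_two Ln.toChain Ln.crit (fun i hi => Ln.opp i (by omega)) P P₃ hS (hd.mild hS) hS (hd.mild hS))

variable {F : Type} [Field F] [Fintype F] [CharP F p]

theorem exists_coords_of (hS : Setting S) (hE₂ : ∃! M : Subgroup G, IsCoatom M ∧ (S : Subgroup G) ≤ M)
    (f₀ : G →* Matrix.ProjectiveSpecialLinearGroup (Fin 2) F) (hf : Function.Surjective f₀) {T' : Subgroup G}
    (hopp : Opp ⊤ (pCore p G) (S : Subgroup G) T') (hconj : ∃ g : G, T' = cj g (S : Subgroup G)) :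
    ∃ f, Coords p F (pCore p G) (S : Subgroup G) T' f := by
  classical
  obtain ⟨g, rfl⟩ := hconj
  haveI : Finite (Matrix.ProjectiveSpecialLinearGroup (Fin 2) F) := Quotient.finite _
  have hX := sylowShape (F := F) p
  set P0 := S.mapSurjective hf with hP0
  obtain ⟨P1, hP1⟩ := hX.exists_ne P0
  have hKS : f₀.ker ⊔ (S : Subgroup G) ≠ ⊤ := by
    intro htop
    have h2 : (P0 : Subgroup (Matrix.ProjectiveSpecialLinearGroup (Fin 2) F)) = ⊤ := by
      have h3 := congrArg (Subgroup.map f₀) htop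
      rwa [Subgroup.map_sup, Subgroup.map_top_of_surjective f₀ hf, (Subgroup.map_eq_bot_iff f₀.ker).mpr le_rfl,
        bot_sup_eq] at h3
    have h4 := hX.inf P0 P1 (Ne.symm hP1)
    rw [h2, top_inf_eq] at h4
    exact hX.ne_bot P1 h4
  have hker : f₀.ker ⊓ (S : Subgroup G) ≤ pCore p G :=
    (hS.normal_cases f₀.ker inferInstance).resolve_left hKS
  have hQker : pCore p G ≤ f₀.ker := by
    intro q hq
    have h0 : f₀ q ∈ (P0 : Subgroup (Matrix.ProjectiveSpecialLinearGroup (Fin 2) F)) := ⟨q, hS.core_le hq, rfl⟩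
    obtain ⟨z, hz⟩ := MulAction.exists_smul_eq (Matrix.ProjectiveSpecialLinearGroup (Fin 2) F) P0 P1
    obtain ⟨a, rfl⟩ := hf z
    have h1 : f₀ q ∈ (P1 : Subgroup (Matrix.ProjectiveSpecialLinearGroup (Fin 2) F)) := by
      rw [← hz]
      have hq' : a⁻¹ * q * a ∈ pCore p G := by
        simpa using (inferInstance : (pCore p G).Normal).conj_mem q hq a⁻¹
      exact ⟨f₀ (a⁻¹ * q * a), ⟨_, hS.core_le hq', rfl⟩, by simp [MulAut.smul_def, MulAut.conj_apply, mul_assoc]⟩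
    have h2 : f₀ q ∈ (P0 : Subgroup (Matrix.ProjectiveSpecialLinearGroup (Fin 2) F)) ⊓ P1 := ⟨h0, h1⟩
    rw [hX.inf P0 P1 (Ne.symm hP1), Subgroup.mem_bot] at h2
    exact h2
  obtain ⟨M, ⟨hM, hSM⟩, huniq⟩ := hE₂
  have hleM : ∀ H : Subgroup G, (S : Subgroup G) ≤ H → H ≠ ⊤ → H ≤ M := fun H hSH hH => by
    obtain ⟨M', hM', hle⟩ := (eq_top_or_exists_le_coatom H).resolve_left hH
    exact huniq M' ⟨hM', hSH.trans hle⟩ ▸ hle
  obtain ⟨f, hC, -⟩ := exists_coords S hS.core_le hS.exp hS.comm f₀ hf hQker hker hopp fun L _ hL htop =>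
    hM.1 (top_le_iff.mp (htop.ge.trans (sup_le (sup_le (le_sup_left.trans (hleM _ le_sup_right hL))
      (le_sup_left.trans (hleM _ le_sup_right hKS))) hSM)))
  exact ⟨f, hC⟩

/-- The quotient by the core. -/
theorem quotient_equiv {ρ : G →* Matrix.SpecialLinearGroup (Fin 2) F} (hρ : Function.Surjective ρ)
    (hker : ρ.ker = pCore p G) : Nonempty (G ⧸ pCore p G ≃* Matrix.SpecialLinearGroup (Fin 2) F) :=
  ⟨(QuotientGroup.quotientMulEquivOfEq hker.symm).trans (QuotientGroup.quotientKerEquivOfSurjective ρ hρ)⟩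

theorem zc_normal : (zc S).Normal := by
  haveI : (vmod S).Normal := normalClosure_normal
  exact Subgroup.normal_inf_normal _ _

theorem zc_iter : Cfsg.iterCommutator (zc S) ⊤ 1 = ⊥ := by
  show ⁅zc S, (⊤ : Subgroup G)⁆ = ⊥
  refine le_bot_iff.mp (commutator_le' fun z hz g _ => ?_)
  rw [Subgroup.mem_bot, ← Subgroup.mem_center_iff.mp hz.2 g, mul_inv_cancel_right, mul_inv_cancel]

theorem inf_zc_le {U W : Subgroup G} (hUW : Cfsg.IsChiefFactor U W) (hnc : ¬ ⁅U, (⊤ : Subgroup G)⁆ ≤ W) :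
    U ⊓ zc S ≤ W := by
  haveI := zc_normal (S := S)
  refine inf_le_of_hyper hUW hnc ⟨1, ?_⟩ (inf_le_right (a := U) |>.trans bot_le)
  rw [zc_iter]

/-- One noncentral factor. -/
theorem One.natural {A : Subgroup G} (hA : One S A) (hS : Setting S) (hd : Mild S)
    {ρ : G →* Matrix.SpecialLinearGroup (Fin 2) F} {φ : G → Fin 2 → F} (h : Sect ρ (vmod S) (zc S) φ)
    (hρ : Function.Surjective ρ) (hker : ρ.ker = pCore p G) {U W : Subgroup G} [W.Normal] (hU : U ≤ pCore p G)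
    (hUW : Cfsg.IsChiefFactor U W) (hnc : ¬ ⁅U, (⊤ : Subgroup G)⁆ ≤ W) :
    Cfsg.IsNaturalSL2Module F (U.map (QuotientGroup.mk' W)) (⊤ : Subgroup (G ⧸ W)) := by
  haveI := zc_normal (S := S)
  haveI : (vmod S).Normal := normalClosure_normal
  refine natural_of_sect h hρ inf_le_left hker.ge hU hUW (inf_zc_le hUW hnc) fun hV => hUW.1.not_ge ?_
  have := inf_le_of_hyper (Y := pCore p G) hUW hnc (exists_iter_le (S := S) hS.core_le (hA.res_Q hS hd)) hV
  rwa [inf_eq_left.mpr hU] at this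

/-- Two noncentral factors. -/
theorem Two.natural {T' X Y A C D : Subgroup G} (h2 : Two S T' X Y A C D) (hS : Setting S)
    (hd : Mild S) {ρ : G →* Matrix.SpecialLinearGroup (Fin 2) F} {φ φ' : G → Fin 2 → F}
    (h : Sect ρ (vmod S) (zc S) φ) (h' : Sect ρ (pCore p G) D φ') (hρ : Function.Surjective ρ)
    (hker : ρ.ker = pCore p G) {U W : Subgroup G} [W.Normal] (hU : U ≤ pCore p G)
    (hUW : Cfsg.IsChiefFactor U W) (hnc : ¬ ⁅U, (⊤ : Subgroup G)⁆ ≤ W) :
    Cfsg.IsNaturalSL2Module F (U.map (QuotientGroup.mk' W)) (⊤ : Subgroup (G ⧸ W)) := by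
  haveI := zc_normal (S := S)
  haveI : (vmod S).Normal := normalClosure_normal
  haveI := h2.D_normal hS hd
  by_cases hV : U ⊓ vmod S ≤ W
  · refine natural_of_sect h' hρ h2.D_le hker.ge hU hUW
      (inf_le_of_hyper hUW hnc (exists_iter_le (S := S) (h2.D_le.trans hS.core_le) (h2.res_D hS hd)) hV)
      fun hQ => hUW.1.not_ge ?_
    rwa [inf_eq_left.mpr hU] at hQ
  · exact natural_of_sect h hρ inf_le_left hker.ge hU hUW (inf_zc_le hUW hnc) hV

end CfsgLib.PushUp
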